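import Groth.Agent.S0605
import Groth.Agent.S6876
import Groth.Agent.RegUFD.Basic
import Groth.Agent.CAlgOdd.Reflexive
import Groth.Agent.LC.ExtDim
import Groth.Agent.CDiv6.Normal
import Mathlib.LinearAlgebra.FreeModule.PID

/-!
# Algebra: reflexive modules over regular local rings of small dimension and over factorial rings
-/

universe u

set_option linter.style.haveILetI false

namespace Groth.Agent.Ref1X

variable {R M : Type u} [CommRing R] [AddCommGroup M] [Module R M]

theorem isTorsionFree_of_isReflexive [IsDomain R] [Module.IsReflexive R M] : Module.IsTorsionFree R M :=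
  CAlgOdd.Refl.isTorsionFree_of_injective (Module.Dual.eval R M) (Module.bijective_dual_eval R M).1

/-- Torsion free finite modules over normal local rings of dimension at most one are free. -/
theorem free_of_dim_le_one [IsDomain R] [IsNoetherianRing R] [IsLocalRing R] [IsIntegrallyClosed R]
    [Module.Finite R M] [Module.IsTorsionFree R M] (h : ringKrullDim R ≤ 1) : Module.Free R M := by
  haveI : Ring.KrullDimLE 1 R := Ring.krullDimLE_iff.2 h
  haveI : IsPrincipalIdealRing R := by
    by_cases hF : IsField R
    · letI := hF.toField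
      infer_instance
    · haveI : IsDiscreteValuationRing R := by
        refine CDiv6.isDVR_of_dim_eq_one _ (le_antisymm h ?_)
        by_contra hc
        haveI : Ring.KrullDimLE 0 R := by
          rw [Ring.krullDimLE_iff]
          rcases hd : ringKrullDim R with _ | _ | n
          · exact bot_le
          · rw [hd] at hc; exact absurd le_top hc
          · rw [hd] at hc
            change ¬ (((1 : ℕ) : ℕ∞) : WithBot ℕ∞) ≤ ((n : ℕ∞) : WithBot ℕ∞) at hc
            rw [WithBot.coe_le_coe, Nat.cast_le] at hc
            change ((n : ℕ∞) : WithBot ℕ∞) ≤ _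
            exact_mod_cast Nat.le_of_lt_succ (by omega)
        exact hF Ring.KrullDimLE.isField_of_isDomain
      infer_instance
  exact Module.free_of_finite_type_torsion_free'

/-- Reflexive modules over regular local rings of dimension at most two are free. -/
theorem free_of_isReflexive_dim_le_two [IsRegularLocalRing R] [Module.Finite R M] [Module.IsReflexive R M]
    (h : ringKrullDim R ≤ 2) : Module.Free R M := by
  obtain ⟨_, _⟩ := RegUFD.ufd R
  haveI : IsIntegrallyClosed R := inferInstance
  haveI := isTorsionFree_of_isReflexive (R := R) (M := M)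
  by_cases h1 : ringKrullDim R ≤ 1
  · exact free_of_dim_le_one h1
  rcases subsingleton_or_nontrivial M with hM | hM
  · exact Module.Free.of_subsingleton R M
  haveI := Groth.Agent.LC.gorenstein_of_isRegularLocalRing (R := R)
  haveI hcm : LocCoh.IsCohenMacaulayLocalRing R := Groth.Agent.LC.isCohenMacaulayLocalRing_of_gorenstein
  have hD : ringKrullDim R = ((LocCoh.depth R R : ℕ∞) : WithBot ℕ∞) := by
    rw [← Module.supportDim_self_eq_ringKrullDim]
    exact hcm.supportDim_eq_depth
  refine Groth.Agent.S0605.result R M (le_antisymm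
    ((Groth.Agent.LC.depth_le_supportDim (R := R) (M := M)).trans (Module.supportDim_le_ringKrullDim R M)) ?_)
  have h2 : (2 : ℕ∞) ≤ LocCoh.depth R R := by
    rw [hD] at h1
    by_contra hc
    exact h1 (WithBot.coe_le_coe.2 (Order.le_of_lt_succ (by
      rw [ENat.succ_def, one_add_one_eq_two]
      exact not_le.1 hc)))
  have hM2 := CAlgOdd.Refl.depth_two_of_isReflexive (R := R) (M := M) h2
    fun X N _ _ _ _ _ _ hN => (Groth.Agent.S6876.result R X N).2 hN
  refine h.trans ?_
  exact WithBot.coe_le_coe.2 hM2

/-- A reflexive module of rank one over a factorial ring is free of rank one. -/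
theorem exists_gen_of_ufd [IsDomain R] [UniqueFactorizationMonoid R] [Module.Finite R M] [Module.IsReflexive R M]
    {m₀ : M} (hm₀ : m₀ ≠ 0) (hrk : ∀ m : M, ∃ a b : R, a ≠ 0 ∧ a • m = b • m₀) :
    ∃ t : M, Function.Bijective fun c : R => c • t := by
  classical
  letI := UniqueFactorizationMonoid.toGCDMonoid R
  haveI := isTorsionFree_of_isReflexive (R := R) (M := M)
  obtain ⟨k, g, hg⟩ := Module.Finite.exists_fin (R := R) (M := M)
  have hred : ∀ i, ∃ a b : R, a ≠ 0 ∧ a • g i = b • m₀ ∧ IsRelPrime a b := fun i => by
    obtain ⟨a, b, ha, hab⟩ := hrk (g i)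
    obtain ⟨a', b', c, hrel, h1, h2⟩ := UniqueFactorizationMonoid.exists_reduced_factors a ha b
    have hc0 : c ≠ 0 := fun h0 => ha (by rw [← h1, h0, zero_mul])
    refine ⟨a', b', fun h0 => ha (by rw [← h1, h0, mul_zero]), smul_right_injective M hc0 ?_, @hrel⟩
    show c • a' • g i = c • b' • m₀
    rw [← mul_smul, ← mul_smul, h1, h2, hab]
  choose a b ha hab hrel using hred
  obtain ⟨l, hl⟩ : ∃ l : R, ∀ r, (∀ i, a i ∣ r) ↔ l ∣ r := by
    suffices h : ∀ s : Finset (Fin k), ∃ l : R, ∀ r, (∀ i ∈ s, a i ∣ r) ↔ l ∣ r from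
      (h Finset.univ).imp fun l hl r => ⟨fun h' => (hl r).1 fun i _ => h' i,
        fun h' i => (hl r).2 h' i (Finset.mem_univ i)⟩
    intro s
    induction s using Finset.induction with
    | empty => exact ⟨1, fun r => by simp⟩
    | insert j s hj ih =>
      obtain ⟨l, hl⟩ := ih
      exact ⟨lcm (a j) l, fun r => by rw [lcm_dvd_iff, ← hl, Finset.forall_mem_insert]⟩
  have hinj : ∀ θ θ' : Module.Dual R M, θ m₀ = θ' m₀ → θ = θ' := fun θ θ' h => by
    refine LinearMap.ext_on_range hg fun i => mul_left_cancel₀ (ha i) ?_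
    rw [← smul_eq_mul, ← map_smul, hab, map_smul, h, ← map_smul, ← hab, map_smul, smul_eq_mul]
  have hval : ∀ θ : Module.Dual R M, l ∣ θ m₀ := fun θ => (hl _).1 fun i => by
    refine (hrel i).dvd_of_dvd_mul_left ⟨θ (g i), ?_⟩
    rw [← smul_eq_mul, ← map_smul, ← hab, map_smul, smul_eq_mul]
  choose c hc using hval
  have hl0 : l ≠ 0 := fun h0 => by
    have hall : ∀ θ : Module.Dual R M, θ = 0 := fun θ => hinj θ 0 (by rw [hc θ, h0, zero_mul]; rfl)
    exact hm₀ ((Module.bijective_dual_eval R M).1 (LinearMap.ext fun θ => by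
      rw [map_zero, hall θ, map_zero, map_zero]))
  let Ψ : Module.Dual R M →ₗ[R] R :=
    { toFun := c
      map_add' := fun θ θ' => mul_left_cancel₀ hl0 (by rw [mul_add, ← hc, ← hc, ← hc]; rfl)
      map_smul' := fun r θ => mul_left_cancel₀ hl0 (by
        rw [← hc, RingHom.id_apply, LinearMap.smul_apply, smul_eq_mul, smul_eq_mul, hc θ]
        ring) }
  have hΨi : Function.Injective Ψ := fun θ θ' h => hinj θ θ' (by
    rw [hc θ, hc θ']; exact congrArg (l * ·) (h : c θ = c θ'))
  -- there is a functional taking the value `l`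
  choose e he using fun i => ((hl l).2 dvd_rfl) i
  have hex : ∃ θ : Module.Dual R M, θ m₀ = l := by
    let σ : (Fin k → R) →ₗ[R] M := Fintype.linearCombination R g
    have hσ : Function.Surjective σ := LinearMap.range_eq_top.1 (by rw [Fintype.range_linearCombination, hg])
    let τ : (Fin k → R) →ₗ[R] R := Fintype.linearCombination R fun i => b i * e i
    have hker : LinearMap.ker σ ≤ LinearMap.ker τ := by
      intro v hv
      rw [LinearMap.mem_ker, Fintype.linearCombination_apply] at hv ⊢
      let A := ∏ i, a i
      have hA : A ≠ 0 := Finset.prod_ne_zero_iff.2 fun i _ => ha i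
      choose q hq using fun i => Finset.dvd_prod_of_mem a (Finset.mem_univ i)
      have h1 : (∑ i, v i * q i * b i) • m₀ = 0 := by
        rw [Finset.sum_smul]
        calc ∑ i, (v i * q i * b i) • m₀ = ∑ i, A • v i • g i := Finset.sum_congr rfl fun i _ => by
              rw [mul_smul, ← hab, ← mul_smul, ← mul_smul, show v i * q i * a i = A * v i by
                rw [show A = a i * q i from hq i]; ring]
          _ = 0 := by rw [← Finset.smul_sum, hv, smul_zero]
      have h2 : (∑ i, v i * q i * b i) = 0 := (smul_eq_zero.1 h1).resolve_right hm₀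
      refine mul_left_cancel₀ hA ?_
      rw [mul_zero, Finset.mul_sum]
      calc ∑ i, A * (v i • (b i * e i)) = ∑ i, l * (v i * q i * b i) := Finset.sum_congr rfl fun i _ => by
            rw [smul_eq_mul, he i, show A = a i * q i from hq i]; ring
        _ = 0 := by rw [← Finset.mul_sum, h2, mul_zero]
    obtain ⟨v, hv⟩ := hσ m₀
    let θ : Module.Dual R M :=
      ((LinearMap.ker σ).liftQ τ hker).comp (σ.quotKerEquivOfSurjective hσ).symm.toLinearMap
    have hθ : ∀ w, θ (σ w) = τ w := fun w => by
      show (LinearMap.ker σ).liftQ τ hker ((σ.quotKerEquivOfSurjective hσ).symm (σ w)) = _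
      rw [show (σ.quotKerEquivOfSurjective hσ).symm (σ w) = Submodule.Quotient.mk w from
        (LinearEquiv.symm_apply_eq _).2 rfl]
      rfl
    refine ⟨θ, ?_⟩
    -- compare with any generator with nonzero numerator
    obtain ⟨i, hi⟩ : ∃ i, b i ≠ 0 := by
      by_contra hall
      refine hm₀ ?_
      have : ∀ i, g i = 0 := fun i => by
        have h := hab i
        rw [not_exists_not.1 hall i, zero_smul] at h
        exact (smul_eq_zero.1 h).resolve_left (ha i)
      rw [← hv, Fintype.linearCombination_apply]
      exact Finset.sum_eq_zero fun j _ => by rw [this j, smul_zero]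
    refine mul_left_cancel₀ hi ?_
    rw [← smul_eq_mul, ← map_smul, ← hab, map_smul, smul_eq_mul,
      show g i = σ (Pi.single i 1) from (by simp [σ, Fintype.linearCombination_apply_single]), hθ,
      show τ (Pi.single i 1) = b i * e i from (by simp [τ, Fintype.linearCombination_apply_single]), he i]
    ring
  obtain ⟨θ₀, hθ₀⟩ := hex
  have h1 : c θ₀ = 1 := mul_left_cancel₀ hl0 (by rw [← hc, hθ₀, mul_one])
  have hΨs : Function.Surjective Ψ := fun r => ⟨r • θ₀, by rw [map_smul]; show r * c θ₀ = r; rw [h1, mul_one]⟩
  let E : M ≃ₗ[R] R := (Module.evalEquiv R M).trans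
    ((LinearEquiv.ofBijective Ψ ⟨hΨi, hΨs⟩).symm.dualMap.trans (LinearMap.ringLmapEquivSelf R R R))
  refine ⟨E.symm 1, ?_⟩
  refine (congrArg Function.Bijective (funext fun r => ?_)).mpr E.symm.bijective
  rw [← map_smul, smul_eq_mul, mul_one]

end Groth.Agent.Ref1X
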