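import Groth.Agent.Ref1X.Finite
import Groth.Agent.Ref1X.FreeLow
import Groth.Agent.RefX.Ext
import Groth.Agent.AssLib.OpenRestrict
import Groth.Agent.SheafHomX.Coherent
import Groth.Agent.QCoh.LocFree
import Groth.Agent.KFlatLib.Scheme.QCohTensor
import Groth.Agent.KFlatLib.Perfect.Tensor
import Groth.Agent.H23.PullPush
import Groth.Prelude.Def_ZClos

/-!
# Reflexive modules and open subsets containing the points of codimension one
-/

universe u

set_option backward.isDefEq.respectTransparency false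
set_option backward.isDefEq.respectTransparency.types false
set_option linter.style.haveILetI false

open CategoryTheory AlgebraicGeometry TopologicalSpace Opposite

namespace Groth.Agent.Ref1X

theorem isNormalScheme_of_regular {X : Scheme.{u}}
    (hreg : ∀ x : X, IsRegularLocalRing (X.presheaf.stalk x)) : Pi1.IsNormalScheme X := fun x => by
  haveI := hreg x
  obtain ⟨_, _⟩ := Groth.Agent.RegUFD.ufd (X.presheaf.stalk x)
  exact ⟨inferInstance, inferInstance⟩

theorem not_two_le_of_le_one {a : WithBot ℕ∞} (h : a ≤ 1) : ¬ (2 : WithBot ℕ∞) ≤ a := fun h2 =>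
  absurd (h2.trans h) (by decide)

theorem le_one_of_not_two_le {a : WithBot ℕ∞} (h : ¬ (2 : WithBot ℕ∞) ≤ a) : a ≤ 1 := by
  rcases a with _ | _ | n
  · exact bot_le
  · exact absurd le_top h
  · change ¬ (((2 : ℕ) : ℕ∞) : WithBot ℕ∞) ≤ ((n : ℕ∞) : WithBot ℕ∞) at h
    rw [WithBot.coe_le_coe, Nat.cast_le] at h
    change ((n : ℕ∞) : WithBot ℕ∞) ≤ (((1 : ℕ) : ℕ∞) : WithBot ℕ∞)
    rw [WithBot.coe_le_coe, Nat.cast_le]
    omega

theorem le_two_of_not_three_le {a : WithBot ℕ∞} (h : ¬ (3 : WithBot ℕ∞) ≤ a) : a ≤ 2 := by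
  rcases a with _ | _ | n
  · exact bot_le
  · exact absurd le_top h
  · change ¬ (((3 : ℕ) : ℕ∞) : WithBot ℕ∞) ≤ ((n : ℕ∞) : WithBot ℕ∞) at h
    rw [WithBot.coe_le_coe, Nat.cast_le] at h
    change ((n : ℕ∞) : WithBot ℕ∞) ≤ (((2 : ℕ) : ℕ∞) : WithBot ℕ∞)
    rw [WithBot.coe_le_coe, Nat.cast_le]
    omega

theorem isReflexive_of_semilinear {R R' M M' : Type u} [CommRing R] [CommRing R'] [AddCommGroup M] [Module R M]
    [AddCommGroup M'] [Module R' M'] (σ : R ≃+* R') (e : M ≃+ M') (he : ∀ r m, e (r • m) = σ r • e m)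
    (h : Module.IsReflexive R M) : Module.IsReflexive R' M' := by
  haveI := h
  have he' : ∀ (r' : R') (v : M'), e.symm (r' • v) = σ.symm r' • e.symm v := fun r' v => e.injective (by
    rw [he, e.apply_symm_apply, e.apply_symm_apply, σ.apply_symm_apply])
  let D : Module.Dual R' M' → Module.Dual R M := fun θ =>
    { toFun := fun m => σ.symm (θ (e m))
      map_add' := fun a b => by rw [map_add, map_add, map_add]
      map_smul' := fun r m => by rw [he, map_smul, smul_eq_mul, map_mul, σ.symm_apply_apply]; rfl }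
  let D' : Module.Dual R M → Module.Dual R' M' := fun θ =>
    { toFun := fun v => σ (θ (e.symm v))
      map_add' := fun a b => by rw [map_add, map_add, map_add]
      map_smul' := fun r' v => by rw [he', map_smul, smul_eq_mul, map_mul, σ.apply_symm_apply]; rfl }
  have hDD' : ∀ θ, D (D' θ) = θ := fun θ => LinearMap.ext fun m => by simp [D, D']
  have hD'D : ∀ θ, D' (D θ) = θ := fun θ => LinearMap.ext fun m => by simp [D, D']
  refine ⟨⟨fun v w hvw => e.symm.injective ((Module.bijective_dual_eval R M).1 (LinearMap.ext fun θ => ?_)),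
    fun Φ => ?_⟩⟩
  · exact σ.injective (LinearMap.congr_fun hvw (D' θ))
  · let Φ₀ : Module.Dual R (Module.Dual R M) :=
      { toFun := fun θ => σ.symm (Φ (D' θ))
        map_add' := fun a b => by
          rw [show D' (a + b) = D' a + D' b from LinearMap.ext fun v => map_add σ _ _, map_add, map_add]
        map_smul' := fun r θ => by
          rw [show D' (r • θ) = σ r • D' θ from LinearMap.ext fun v => map_mul σ _ _, map_smul, smul_eq_mul,
            map_mul, σ.symm_apply_apply]
          rfl }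
    obtain ⟨m, hm⟩ := (Module.bijective_dual_eval R M).2 Φ₀
    refine ⟨e m, LinearMap.ext fun θ => σ.symm.injective ?_⟩
    have h1 : D θ m = σ.symm (Φ (D' (D θ))) := LinearMap.congr_fun hm (D θ)
    rw [hD'D] at h1
    exact h1

variable {X : Scheme.{u}} {F G : X.Modules}

theorem exists_stalk_restrict {U : X.Opens} (M : X.Modules) (z : (U : Scheme.{u})) :
    ∃ (σ : X.presheaf.stalk z.1 ≃+* (U : Scheme.{u}).presheaf.stalk z)
      (e : M.presheaf.stalk z.1 ≃+ (M.restrict U.ι).presheaf.stalk z), ∀ a m, e (a • m) = σ a • e m := by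
  obtain ⟨e, he⟩ := AssLib.exists_semilinear_restrict U.ι M z
  refine ⟨(asIso (U.ι.stalkMap z)).commRingCatIsoToRingEquiv, e.symm, fun (a : X.presheaf.stalk (U.ι.base z))
    (m : M.presheaf.stalk (U.ι.base z)) => e.injective ?_⟩
  exact (e.apply_symm_apply _).trans ((he a (e.symm m)).trans (congrArg (fun v : M.presheaf.stalk (U.ι.base z) => (a : X.presheaf.stalk (U.ι.base z)) • v) (e.apply_symm_apply m))).symm

theorem free_stalk_restrict_iff {U : X.Opens} (M : X.Modules) {x : X} (hx : x ∈ U) :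
    Module.Free ((U : Scheme.{u}).presheaf.stalk ⟨x, hx⟩) ((M.restrict U.ι).presheaf.stalk ⟨x, hx⟩) ↔
      Module.Free (X.presheaf.stalk x) (M.presheaf.stalk x) := by
  obtain ⟨σ, e, he⟩ := exists_stalk_restrict M (⟨x, hx⟩ : (U : Scheme.{u}))
  haveI := RingHomInvPair.of_ringEquiv σ
  haveI := RingHomInvPair.symm (σ : X.presheaf.stalk x →+* (U : Scheme.{u}).presheaf.stalk ⟨x, hx⟩) (σ.symm : (U : Scheme.{u}).presheaf.stalk ⟨x, hx⟩ →+* X.presheaf.stalk x)
  let es : M.presheaf.stalk x ≃ₛₗ[(σ : X.presheaf.stalk x →+* (U : Scheme.{u}).presheaf.stalk ⟨x, hx⟩)] (M.restrict U.ι).presheaf.stalk ⟨x, hx⟩ :=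
    { e with map_smul' := fun a m => he a m }
  exact (Module.Free.iff_of_equiv es).symm

theorem isReflexiveAt_of_restrict {U : X.Opens} (M : X.Modules) {x : X} (hx : x ∈ U)
    (h : RefHull.IsReflexiveAt (M.restrict U.ι) (⟨x, hx⟩ : (U : Scheme.{u}))) : RefHull.IsReflexiveAt M x := by
  obtain ⟨σ, e, he⟩ := exists_stalk_restrict M (⟨x, hx⟩ : (U : Scheme.{u}))
  exact isReflexive_of_semilinear σ.symm e.symm (fun r m => e.injective (by
    rw [e.apply_symm_apply, he, e.apply_symm_apply, σ.apply_symm_apply])) h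

theorem isReflexiveAt_of_iso (e : F ≅ G) (x : X) (h : RefHull.IsReflexiveAt F x) : RefHull.IsReflexiveAt G x := by
  haveI : IsIso e.hom.mapPresheaf := inferInstanceAs (IsIso ((Scheme.Modules.toPresheaf X).map e.hom))
  have hb : Function.Bijective (RefHull.stalkMapₗ e.hom x) :=
    (ConcreteCategory.isIso_iff_bijective ((TopCat.Presheaf.stalkFunctor Ab x).map e.hom.mapPresheaf)).1 inferInstance
  haveI : Module.IsReflexive (X.presheaf.stalk x) (F.presheaf.stalk x) := h
  exact Module.equiv (LinearEquiv.ofBijective _ hb)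

theorem app_bijective_of_stalk (φ : F ⟶ G) (W : X.Opens)
    (h : ∀ x ∈ W, Function.Bijective (RefHull.stalkMapₗ φ x)) : Function.Bijective (φ.app W) :=
  TopCat.Presheaf.app_bijective_of_stalkFunctor_map_bijective ((KFlatLib.toAb X).map φ) W h

variable {U : X.Opens}

/-- A map between modules whose sections extend across the complement is iso if it is so on the open. -/
theorem isIso_of_extendsAcross (φ : F ⟶ G) (hF : RefX.ExtendsAcross U F) (hG : RefX.ExtendsAcross U G)
    (h : ∀ x ∈ U, Function.Bijective (RefHull.stalkMapₗ φ x)) : IsIso φ := by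
  refine Scheme.Modules.Hom.isIso_iff_isIso_app.2 fun W => (ConcreteCategory.isIso_iff_bijective _).2 ?_
  refine ((hG W).of_comp_iff' _).1 ?_
  have h1 : (AModX.res G (inf_le_left : W ⊓ U ≤ W)) ∘ (φ.app W : Γ(F, W) → Γ(G, W)) =
      (φ.app (W ⊓ U) : Γ(F, W ⊓ U) → Γ(G, W ⊓ U)) ∘ AModX.res F (inf_le_left : W ⊓ U ≤ W) :=
    funext fun m => (AModX.app_res φ inf_le_left m).symm
  rw [h1]
  exact (app_bijective_of_stalk φ (W ⊓ U) fun x hx => h x hx.2).comp (hF W)

/-- Being isomorphic to the direct image of the restriction means sections extend. -/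
theorem extendsAcross_of_isIso_unit
    (h : IsIso ((Scheme.Modules.restrictAdjunction U.ι).unit.app F)) : RefX.ExtendsAcross U F := fun W =>
  (ZClosLib.unit_app_bijective_iff U F W).1
    ((ConcreteCategory.isIso_iff_bijective _).1 (Scheme.Modules.Hom.isIso_iff_isIso_app.1 h W))

/-- A morphism bijective on the stalks over `U` restricts to an isomorphism. -/
theorem isIso_restrict_of_stalk (φ : F ⟶ G) (h : ∀ x ∈ U, Function.Bijective (RefHull.stalkMapₗ φ x)) :
    IsIso ((Scheme.Modules.restrictFunctor U.ι).map φ) := by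
  refine Scheme.Modules.Hom.isIso_iff_isIso_app.2 fun V => (ConcreteCategory.isIso_iff_bijective _).2 ?_
  exact app_bijective_of_stalk φ (U.ι ''ᵁ V) fun x hx => h x (by
    obtain ⟨z, -, rfl⟩ := hx
    exact z.2)

variable [IsLocallyNoetherian X]

theorem isOpen_free_locus (hF : Coh.IsCoh F) :
    IsOpen {x : X | Module.Free (X.presheaf.stalk x) (F.presheaf.stalk x)} := by
  rw [isOpen_iff_forall_mem_open]
  intro x hx
  haveI : Module.Free (X.presheaf.stalk x) (F.presheaf.stalk x) := hx
  obtain ⟨V, n, hxV, ⟨e⟩⟩ := QCoh.exists_free_nhd_of_free_stalk (QCoh.isCoh_iff_isFP.1 hF) x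
  refine ⟨V, fun y hy => (free_stalk_restrict_iff F hy).1 ?_, V.isOpen, hxV⟩
  exact QCoh.free_stalk_of_isFinLocFree
    (H23.PullPush.isFinLocFree_of_iso e.symm (KFlatLib.isFinLocFree_freeMod n)) _

variable [IsIntegral X]

theorem isReflexive_ddual (hF : Coh.IsCoh F) : RefHull.IsReflexive (RefHull.ddual F) :=
  isReflexive_dual (RefX.isCoh_dual hF)

omit [IsIntegral X] in
theorem bidual_bijective_of_free (hF : Coh.IsCoh F) (x : X)
    (h : Module.Free (X.presheaf.stalk x) (F.presheaf.stalk x)) :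
    Function.Bijective (RefHull.stalkMapₗ (RefHull.bidualMap F) x) := by
  haveI := h
  haveI := QCoh.finite_stalk_of_isFT hF.1 hF.2 x
  exact (RefX.stalkMap_bidual_bijective_iff hF x).2
    (inferInstance : Module.IsReflexive (X.presheaf.stalk x) (F.presheaf.stalk x))

variable (hX : Pi1.IsNormalScheme X)

include hX in
theorem two_le_depth {x : X} (hx : (2 : WithBot ℕ∞) ≤ ringKrullDim (X.presheaf.stalk x)) :
    (2 : ℕ∞) ≤ LocCoh.depth (X.presheaf.stalk x) (X.presheaf.stalk x) := by
  have h1 : LocCoh.depth (X.presheaf.stalk x) (X.presheaf.stalk x) ≠ 1 := fun h => by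
    rw [ringKrullDim_stalk_eq_coheight, CDiv6.coheight_eq_one_of_depth hX h] at hx
    exact absurd hx (by decide)
  have h0 : (1 : ℕ∞) ≤ LocCoh.depth (X.presheaf.stalk x) (X.presheaf.stalk x) := by
    haveI := (hX x).1
    refine Groth.Agent.Alg6.one_le_depth_iff.mpr fun hass => ?_
    have h2 : IsLocalRing.maximalIdeal (X.presheaf.stalk x) = ⊥ := by
      obtain ⟨_, z, hz⟩ := Groth.Agent.Alg6.mem_ass_iff.1 hass
      refine (Submodule.eq_bot_iff _).2 fun a ha => ?_
      have h3 : a * z = 0 := (hz a).1 ha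
      refine (mul_eq_zero.1 h3).resolve_right fun hz0 => ?_
      exact (IsLocalRing.maximalIdeal.isMaximal (X.presheaf.stalk x)).ne_top
        ((Ideal.eq_top_iff_one _).2 ((hz 1).2 (by rw [hz0]; exact smul_zero _)))
    have h3 : ringKrullDim (X.presheaf.stalk x) = 0 :=
      ringKrullDim_eq_zero_of_isField (IsLocalRing.isField_iff_maximalIdeal_eq.2 h2)
    rw [h3] at hx
    exact absurd hx (by decide)
  rw [← one_add_one_eq_two]
  exact Order.add_one_le_of_lt (lt_of_le_of_ne h0 (Ne.symm h1))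

include hX in
theorem free_of_dim_le_one' (hF : Coh.IsCoh F) {x : X} [Module.IsTorsionFree (X.presheaf.stalk x) (F.presheaf.stalk x)]
    (h : ringKrullDim (X.presheaf.stalk x) ≤ 1) : Module.Free (X.presheaf.stalk x) (F.presheaf.stalk x) := by
  haveI := (hX x).1
  haveI := (hX x).2
  haveI := QCoh.finite_stalk_of_isFT hF.1 hF.2 x
  exact free_of_dim_le_one h

end Groth.Agent.Ref1X
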