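import Groth.Agent.Ref1X.BirIso
import Groth.Agent.FlatMisc.SteinUC
import Groth.Agent.S2431

/-!
# Proper birational morphisms onto normal schemes
-/

universe u

set_option backward.isDefEq.respectTransparency false
set_option backward.isDefEq.respectTransparency.types false
set_option linter.style.haveILetI false

open CategoryTheory AlgebraicGeometry TopologicalSpace

namespace Groth.Agent.Ref1X

variable {X Y : Scheme.{u}} [IsIntegral X] [IsIntegral Y]

theorem isIntegrallyClosed_sections (hY : Pi1.IsNormalScheme Y) {U : Y.Opens} (hU : IsAffineOpen U) [Nonempty U] :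
    IsIntegrallyClosed Γ(Y, U) := by
  refine IsIntegrallyClosed.of_localization_maximal fun p _ _ => ?_
  obtain ⟨y, hyU, hy⟩ := QCoh.exists_point hU ⟨p, inferInstance⟩
  letI := TopCat.Presheaf.algebra_section_stalk Y.presheaf ⟨y, hyU⟩
  haveI := hU.isLocalization_stalk ⟨y, hyU⟩
  haveI := (hY y).2
  have hp : p = (hU.primeIdealOf ⟨y, hyU⟩).asIdeal := (congrArg PrimeSpectrum.asIdeal hy).symm
  subst hp
  exact IsIntegrallyClosed.of_equiv (IsLocalization.algEquiv (hU.primeIdealOf ⟨y, hyU⟩).asIdeal.primeCompl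
    (Y.presheaf.stalk y) (Localization.AtPrime (hU.primeIdealOf ⟨y, hyU⟩).asIdeal)).toRingEquiv

omit [IsIntegral X] [IsIntegral Y] in
/-- A universally closed morphism is integral on sections over affine opens. -/
theorem isIntegral_app (f : X ⟶ Y) [UniversallyClosed f] {U : Y.Opens} (hU : IsAffineOpen U) :
    (f.app U).hom.IsIntegral := by
  haveI : IsAffine (U : Scheme.{u}) := hU
  haveI : UniversallyClosed (f ∣_ U) := IsZariskiLocalAtTarget.restrict (P := @UniversallyClosed) inferInstance U
  have h1 : ((f ∣_ U).app ⊤).hom.IsIntegral := isIntegral_appTop_of_universallyClosed (f ∣_ U)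
  have h2 : f.app U = U.topIso.inv ≫ (f ∣_ U).app ⊤ ≫ (f ⁻¹ᵁ U).topIso.hom := by
    rw [← Scheme.Hom.resLE_eq_morphismRestrict, Scheme.Hom.resLE_app_top, Scheme.Hom.app_eq_appLE]
    simp
  rw [h2, CommRingCat.hom_comp, CommRingCat.hom_comp]
  refine RingHom.IsIntegral.trans _ _ ?_ (RingHom.IsIntegral.trans _ _ h1 ?_)
  · exact RingHom.isIntegral_of_surjective _ (ConcreteCategory.bijective_of_isIso U.topIso.inv).2
  · exact RingHom.isIntegral_of_surjective _ (ConcreteCategory.bijective_of_isIso (f ⁻¹ᵁ U).topIso.hom).2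

/-- A proper birational morphism onto a normal scheme has direct image of the structure sheaf trivial. -/
theorem isIso_app_of_birational (hY : Pi1.IsNormalScheme Y) (f : X ⟶ Y) [IsProper f]
    (e : f (genericPoint X) = genericPoint Y) (hbir : Function.Bijective
      (Y.presheaf.stalkSpecializes (specializes_of_eq e) ≫ f.stalkMap (genericPoint X)).hom)
    (W : Y.Opens) : IsIso (f.app W) := by
  refine FlatMisc.isIso_app_of_bijective_affine f (fun z => ?_) W
  obtain ⟨U, hU, hzU, -⟩ := exists_isAffineOpen_mem_and_subset (x := z) (U := ⊤) trivial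
  refine ⟨U, hU, hzU, ?_⟩
  haveI : Nonempty U := ⟨⟨z, hzU⟩⟩
  have hηU : genericPoint Y ∈ U := ((genericPoint_spec Y).mem_open_set_iff U.isOpen).2 ⟨_, trivial, hzU⟩
  have hηV : genericPoint X ∈ f ⁻¹ᵁ U := show f (genericPoint X) ∈ U from e ▸ hηU
  haveI : IsFractionRing Γ(Y, U) Y.functionField := functionField_isFractionRing_of_isAffineOpen Y U hU
  haveI := isIntegrallyClosed_sections hY hU
  set ψ := (Y.presheaf.stalkSpecializes (specializes_of_eq e) ≫ f.stalkMap (genericPoint X)).hom
  let ε : Y.functionField ≃+* X.functionField := RingEquiv.ofBijective ψ hbir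
  have hsq : ∀ a : Γ(Y, U), ε (algebraMap Γ(Y, U) Y.functionField a) =
      X.presheaf.germ (f ⁻¹ᵁ U) (genericPoint X) hηV (f.app U a) := fun a => by
    show ψ (Y.presheaf.germ U (genericPoint Y) _ a) = _
    simp only [ψ, CommRingCat.hom_comp, RingHom.comp_apply]
    rw [TopCat.Presheaf.germ_stalkSpecializes_apply]
    exact f.germ_stalkMap_apply U (genericPoint X) hηV a
  have hint : (f.app U).hom.IsIntegral := isIntegral_app f hU
  have hgX := germ_injective_of_isIntegral (X := X) (genericPoint X) hηV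
  refine ⟨fun a b hab => ?_, fun b => ?_⟩
  · apply IsFractionRing.injective Γ(Y, U) Y.functionField
    apply ε.injective
    rw [hsq, hsq, hab]
  · set z' := ε.symm (X.presheaf.germ (f ⁻¹ᵁ U) (genericPoint X) hηV b) with hz
    have hzint : IsIntegral Γ(Y, U) z' := by
      obtain ⟨P, hP, hP0⟩ := hint b
      refine ⟨P, hP, ε.injective ?_⟩
      show ε.toRingHom (P.eval₂ _ _) = ε 0
      rw [map_zero, Polynomial.hom_eval₂]
      have h2 : ε.toRingHom.comp (algebraMap Γ(Y, U) Y.functionField) =
          (X.presheaf.germ (f ⁻¹ᵁ U) (genericPoint X) hηV).hom.comp (f.app U).hom := RingHom.ext hsq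
      rw [h2, show ε.toRingHom z' = X.presheaf.germ (f ⁻¹ᵁ U) (genericPoint X) hηV b from
        ε.apply_symm_apply _, ← Polynomial.hom_eval₂, hP0, map_zero]
    obtain ⟨a, ha⟩ := IsIntegrallyClosed.isIntegral_iff.1 hzint
    refine ⟨a, hgX ?_⟩
    rw [← hsq, ha, hz, RingEquiv.apply_symm_apply]

omit [IsIntegral Y] in
/-- A rational function defined at every point of a nonempty open is a section. -/
theorem exists_section_of_forall (V : X.Opens) (hη : genericPoint X ∈ V) (v : X.functionField)
    (h : ∀ z : X, z ∈ V → ∃ a : X.presheaf.stalk z, algebraMap (X.presheaf.stalk z) X.functionField a = v) :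
    ∃ s : Γ(X, V), X.presheaf.germ V _ hη s = v := by
  have hloc : ∀ z : V, ∃ (W : X.Opens) (_ : z.1 ∈ W) (_ : W ≤ V) (t : Γ(X, W)),
      ∀ h' : genericPoint X ∈ W, X.presheaf.germ W _ h' t = v := fun z => by
    obtain ⟨a, ha⟩ := h z.1 z.2
    obtain ⟨W, hzW, t, rfl⟩ := X.presheaf.exists_germ_eq a
    refine ⟨W ⊓ V, ⟨hzW, z.2⟩, inf_le_right, X.presheaf.map (homOfLE inf_le_left).op t, fun h' => ?_⟩
    rw [TopCat.Presheaf.germ_res_apply]
    refine Eq.trans ?_ ha
    exact (TopCat.Presheaf.germ_stalkSpecializes_apply X.presheaf hzW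
      ((genericPoint_spec X).specializes (Set.mem_univ z.1)) t).symm
  choose W hzW hWV t ht using hloc
  have hη' : ∀ z, genericPoint X ∈ W z := fun z =>
    ((genericPoint_spec X).mem_open_set_iff (W z).isOpen).2 ⟨_, trivial, hzW z⟩
  obtain ⟨s, hs, -⟩ := X.sheaf.existsUnique_gluing' W V (fun z => homOfLE (hWV z))
    (fun z hz => Opens.mem_iSup.2 ⟨⟨z, hz⟩, hzW _⟩) t fun a b => by
      refine germ_injective_of_isIntegral (X := X) (genericPoint X) (⟨hη' a, hη' b⟩ : genericPoint X ∈ W a ⊓ W b) ?_
      refine ((TopCat.Presheaf.germ_res_apply _ _ _ _ _).trans (ht a (hη' a))).trans ?_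
      exact ((TopCat.Presheaf.germ_res_apply _ _ _ _ _).trans (ht b (hη' b))).symm
  refine ⟨s, ?_⟩
  rw [← ht ⟨_, hη⟩ (hη' _), ← hs ⟨_, hη⟩]
  exact (TopCat.Presheaf.germ_res_apply X.presheaf (homOfLE (hWV _)) _ (hη' _) s).symm

/-- Direct image of the structure sheaf and algebraic closedness of function fields. -/
theorem isIso_app_iff (hX : Pi1.IsNormalScheme X) (hY : Pi1.IsNormalScheme Y) (f : X ⟶ Y) [IsProper f]
    (h : f.base (genericPoint X) ⤳ genericPoint Y) :
    (∀ U : Y.Opens, IsIso (f.app U)) ↔ ∀ x : X.functionField,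
      (CohIII.stalkToFunctionField f (genericPoint Y) h).IsIntegralElem x →
        x ∈ (CohIII.stalkToFunctionField f (genericPoint Y) h).range := by
  set ψ := CohIII.stalkToFunctionField f (genericPoint Y) h
  have hψinj : Function.Injective ψ := by
    letI : Field (Y.presheaf.stalk (genericPoint Y)) := inferInstanceAs (Field Y.functionField)
    exact ψ.injective
  have hV : ∀ {U : Y.Opens}, genericPoint Y ∈ U → genericPoint X ∈ f ⁻¹ᵁ U := fun hU => h.mem_open (Opens.isOpen _) hU
  have hψg : ∀ {U : Y.Opens} (hU : genericPoint Y ∈ U) (a : Γ(Y, U)),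
      ψ (Y.presheaf.germ U _ hU a) = X.presheaf.germ (f ⁻¹ᵁ U) _ (hV hU) (f.app U a) := fun {U} hU a => by
    show f.stalkMap (genericPoint X) (Y.presheaf.stalkSpecializes h _) = _
    rw [TopCat.Presheaf.germ_stalkSpecializes_apply]
    exact f.germ_stalkMap_apply U (genericPoint X) (hV hU) a
  constructor
  · intro hiso x hx
    obtain ⟨U, hU, hηU, -⟩ := exists_isAffineOpen_mem_and_subset (x := genericPoint Y) (U := ⊤) trivial
    haveI : Nonempty U := ⟨⟨_, hηU⟩⟩
    haveI : IsFractionRing Γ(Y, U) Y.functionField := functionField_isFractionRing_of_isAffineOpen Y U hU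
    letI : Algebra Y.functionField X.functionField := ψ.toAlgebra
    letI : Algebra Γ(Y, U) X.functionField := ((X.presheaf.germ (f ⁻¹ᵁ U) _ (hV hηU)).hom.comp (f.app U).hom).toAlgebra
    haveI : IsScalarTower Γ(Y, U) Y.functionField X.functionField :=
      IsScalarTower.of_algebraMap_eq fun a => (hψg hηU a).symm
    haveI : Algebra.IsAlgebraic Γ(Y, U) Y.functionField := IsFractionRing.comap_isAlgebraic_iff.2
      (Algebra.IsAlgebraic.of_finite Y.functionField Y.functionField)
    obtain ⟨c, hc, hint⟩ := (((show IsIntegral Y.functionField x from hx).isAlgebraic).restrictScalars Γ(Y, U)).exists_integral_multiple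
    rw [Algebra.smul_def] at hint
    have hreg : ∀ z : X, z ∈ f ⁻¹ᵁ U → ∃ a : X.presheaf.stalk z,
        algebraMap (X.presheaf.stalk z) X.functionField a = algebraMap Γ(Y, U) X.functionField c * x := by
      intro z hz
      haveI := (hX z).1
      haveI := (hX z).2
      letI : Algebra Γ(Y, U) (X.presheaf.stalk z) := ((X.presheaf.germ (f ⁻¹ᵁ U) z hz).hom.comp (f.app U).hom).toAlgebra
      haveI : IsScalarTower Γ(Y, U) (X.presheaf.stalk z) X.functionField := IsScalarTower.of_algebraMap_eq fun a => by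
        show _ = X.presheaf.stalkSpecializes _ _
        exact (TopCat.Presheaf.germ_stalkSpecializes_apply X.presheaf hz
          ((genericPoint_spec X).specializes (Set.mem_univ z)) (f.app U a)).symm
      exact IsIntegrallyClosed.isIntegral_iff.1 (hint.tower_top (A := X.presheaf.stalk z))
    obtain ⟨b, hb⟩ := exists_section_of_forall (f ⁻¹ᵁ U) (hV hηU) _ hreg
    haveI := hiso U
    obtain ⟨a, rfl⟩ := ((ConcreteCategory.isIso_iff_bijective (f.app U)).1 inferInstance).2 b
    rw [← hψg hηU a, IsScalarTower.algebraMap_apply Γ(Y, U) Y.functionField X.functionField] at hb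
    refine ⟨Y.presheaf.germ U _ hηU a / algebraMap Γ(Y, U) Y.functionField c, ?_⟩
    have hc0 : ψ (algebraMap Γ(Y, U) Y.functionField c) ≠ 0 := (map_ne_zero_iff ψ hψinj).2
      (IsFractionRing.to_map_eq_zero_iff.not.2 hc)
    rw [map_div₀, div_eq_iff hc0, hb, mul_comm]
    rfl
  · intro halg W
    refine FlatMisc.isIso_app_of_bijective_affine f (fun z => ?_) W
    obtain ⟨U, hU, hzU, -⟩ := exists_isAffineOpen_mem_and_subset (x := z) (U := ⊤) trivial
    refine ⟨U, hU, hzU, ?_⟩
    haveI : Nonempty U := ⟨⟨z, hzU⟩⟩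
    have hηU : genericPoint Y ∈ U := ((genericPoint_spec Y).mem_open_set_iff U.isOpen).2 ⟨_, trivial, hzU⟩
    haveI : IsFractionRing Γ(Y, U) Y.functionField := functionField_isFractionRing_of_isAffineOpen Y U hU
    haveI := isIntegrallyClosed_sections hY hU
    have hint : (f.app U).hom.IsIntegral := isIntegral_app f hU
    have hgX := germ_injective_of_isIntegral (X := X) (genericPoint X) (hV hηU)
    refine ⟨fun a b hab => ?_, fun b => ?_⟩
    · apply IsFractionRing.injective Γ(Y, U) Y.functionField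
      apply hψinj
      exact (hψg hηU a).trans ((congrArg _ hab).trans (hψg hηU b).symm)
    · obtain ⟨P, hP, hP0⟩ := hint b
      have h2 : ψ.comp (algebraMap Γ(Y, U) Y.functionField) =
          (X.presheaf.germ (f ⁻¹ᵁ U) (genericPoint X) (hV hηU)).hom.comp (f.app U).hom := RingHom.ext (hψg hηU)
      obtain ⟨v, hv⟩ := halg (X.presheaf.germ (f ⁻¹ᵁ U) (genericPoint X) (hV hηU) b)
        ⟨P.map (algebraMap Γ(Y, U) Y.functionField), hP.map _, by
          rw [Polynomial.eval₂_map]
          change P.eval₂ (ψ.comp (algebraMap Γ(Y, U) Y.functionField)) _ = 0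
          rw [h2, ← Polynomial.hom_eval₂, hP0, map_zero]⟩
      have hzint : IsIntegral Γ(Y, U) (show Y.functionField from v) := by
        refine ⟨P, hP, hψinj ?_⟩
        rw [map_zero]
        refine (Polynomial.hom_eval₂ P (algebraMap Γ(Y, U) Y.functionField) ψ v).trans ?_
        rw [h2, hv, ← Polynomial.hom_eval₂, hP0, map_zero]
      obtain ⟨a, ha⟩ := IsIntegrallyClosed.isIntegral_iff.1 hzint
      exact ⟨a, hgX (((hψg hηU a).symm.trans (congrArg ψ ha)).trans hv)⟩

end Groth.Agent.Ref1X
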