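import Groth.Agent.Ref1X.Finite
import Groth.Agent.CDiv6.Normal
import Groth.Prelude.Def_Pi1
import Mathlib

/-!
# Points of normal curves
-/

universe u

set_option linter.style.haveILetI false

open CategoryTheory AlgebraicGeometry TopologicalSpace

namespace Groth.Agent.Ref1X

variable {X : Scheme.{u}}

theorem isReduced_of_normal (hX : Pi1.IsNormalScheme X) : IsReduced X := by
  haveI : ∀ x : X, _root_.IsReduced (X.presheaf.stalk x) := fun x => by
    haveI := (hX x).1
    infer_instance
  exact isReduced_of_isReduced_stalk X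

theorem isRegular_of_normal_dim_le_one [IsLocallyNoetherian X] (hX : Pi1.IsNormalScheme X) {y : X}
    (hy : ringKrullDim (X.presheaf.stalk y) ≤ 1) : IsRegularLocalRing (X.presheaf.stalk y) := by
  haveI := (hX y).1
  haveI := (hX y).2
  haveI : Ring.KrullDimLE 1 (X.presheaf.stalk y) := Ring.krullDimLE_iff.2 hy
  by_cases hF : IsField (X.presheaf.stalk y)
  · letI := hF.toField
    infer_instance
  · haveI : IsDiscreteValuationRing (X.presheaf.stalk y) := by
      refine ((IsDiscreteValuationRing.TFAE (X.presheaf.stalk y) hF).out 3 0).1 ?_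
      exact ⟨inferInstance, ⟨IsLocalRing.maximalIdeal _, ⟨fun h => hF (IsLocalRing.isField_iff_maximalIdeal_eq.2 h),
        (IsLocalRing.maximalIdeal.isMaximal _).isPrime⟩, fun P hP => IsLocalRing.eq_maximalIdeal
          (hP.2.isMaximal_of_ne_bot hP.1)⟩⟩
    infer_instance

theorem dim_le_one_of_curve {k : Type u} [Field k] (s : X ⟶ Spec (CommRingCat.of k)) [LocallyOfFiniteType s]
    [QuasiCompact s] (h : ∀ x : X, IsClosed ({x} : Set X) → ringKrullDim (X.presheaf.stalk x) = 1) (y : X) :
    ringKrullDim (X.presheaf.stalk y) ≤ 1 := by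
  haveI : CompactSpace X := QuasiCompact.compactSpace_of_compactSpace s
  obtain ⟨x, hx, hxc⟩ := IsClosed.exists_closed_singleton (isClosed_closure (s := ({y} : Set X))) ⟨y, subset_closure rfl⟩
  refine le_of_le_of_eq ?_ (h x hxc)
  rw [ringKrullDim_stalk_eq_coheight, ringKrullDim_stalk_eq_coheight]
  exact WithBot.coe_le_coe.2 (Order.coheight_anti (specializes_iff_mem_closure.2 hx))

end Groth.Agent.Ref1X
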