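import Groth.Agent.Ref1X.OD
import Groth.Agent.QCoh.Support

/-!
# The sheaf of a Weil divisor is coherent
-/

universe u

set_option backward.isDefEq.respectTransparency false
set_option backward.isDefEq.respectTransparency.types false
set_option linter.style.haveILetI false

open CategoryTheory AlgebraicGeometry TopologicalSpace Opposite

namespace Groth.Agent.Ref1X.OD

variable {X : Scheme.{u}} [IsIntegral X] [IsLocallyNoetherian X] {hX : Pi1.IsNormalScheme X} {D : X → ℤ}

theorem germ_eta_inj {U : X.Opens} (hη : genericPoint X ∈ U) {a b : Γ(X, U)}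
    (h : X.presheaf.germ U _ hη a = X.presheaf.germ U _ hη b) : a = b := by
  refine TopCat.Presheaf.section_ext X.sheaf U a b fun y hy => spR_injective y ?_
  show spR X _ (X.presheaf.germ U y hy a) = spR X _ (X.presheaf.germ U y hy b)
  rw [spR_germ, spR_germ]
  exact h

theorem ord_one (y : X) : Scheme.ord (1 : X.functionField) y = 0 := by
  have h4 := Scheme.ord_mul (X := X) (x := y) (one_ne_zero (α := X.functionField)) (one_ne_zero (α := X.functionField))
  rw [mul_one] at h4
  omega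

theorem ord_pow {φ : X.functionField} (hφ : φ ≠ 0) (y : X) (n : ℕ) :
    Scheme.ord (φ ^ n) y = n * Scheme.ord φ y := by
  induction n with
  | zero => rw [pow_zero, ord_one]; simp
  | succ n ih => rw [pow_succ, Scheme.ord_mul (pow_ne_zero n hφ) hφ, ih]; push_cast; ring

theorem ord_zpow {φ : X.functionField} (hφ : φ ≠ 0) (y : X) (n : ℤ) :
    Scheme.ord (φ ^ n) y = n * Scheme.ord φ y := by
  obtain ⟨m, rfl | rfl⟩ := Int.eq_nat_or_neg n
  · rw [zpow_natCast, ord_pow hφ]
  · rw [zpow_neg, zpow_natCast]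
    have h := Scheme.ord_mul (X := X) (x := y) (inv_ne_zero (pow_ne_zero m hφ)) (pow_ne_zero m hφ)
    rw [inv_mul_cancel₀ (pow_ne_zero m hφ), ord_one, ord_pow hφ] at h
    linarith

theorem ord_prod {ι : Type*} (s : Finset ι) (f : ι → X.functionField) (hf : ∀ i ∈ s, f i ≠ 0) (y : X) :
    Scheme.ord (∏ i ∈ s, f i) y = ∑ i ∈ s, Scheme.ord (f i) y := by
  classical
  induction s using Finset.induction with
  | empty => rw [Finset.prod_empty, ord_one, Finset.sum_empty]
  | insert a s ha ih =>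
    rw [Finset.prod_insert ha, Finset.sum_insert ha,
      Scheme.ord_mul (hf a (Finset.mem_insert_self a s))
        (Finset.prod_ne_zero_iff.2 fun i hi => hf i (Finset.mem_insert_of_mem hi)),
      ih fun i hi => hf i (Finset.mem_insert_of_mem hi)]

theorem germ_reg {U : X.Opens} (a : Γ(X, U)) {y : X} (hy : y ∈ U) :
    CDiv6.Reg y (X.presheaf.germ U (genericPoint X) (eta_mem hy) a : X.functionField) :=
  ⟨X.presheaf.germ U y hy a, spR_germ (eta_le y) hy a⟩

include hX in
theorem one_le_ord {U : X.Opens} {a : Γ(X, U)} {y : X} (hy : y ∈ U) (hy1 : Order.coheight y = 1)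
    (ha : (X.presheaf.germ U (genericPoint X) (eta_mem hy) a : X.functionField) ≠ 0)
    (hu : ¬ IsUnit (X.presheaf.germ U y hy a)) :
    1 ≤ Scheme.ord (X.presheaf.germ U (genericPoint X) (eta_mem hy) a : X.functionField) y := by
  have h0 := CDiv6.reg_ord_nonneg ha (germ_reg a hy)
  by_contra hc
  have h1 := Scheme.ord_mul (X := X) (x := y) (inv_ne_zero ha) ha
  rw [inv_mul_cancel₀ ha, ord_one] at h1
  obtain ⟨b, hb⟩ := CDiv6.reg_of_ord_nonneg hX hy1 (inv_ne_zero ha) (by omega)
  refine hu (IsUnit.of_mul_eq_one b (spR_injective y ?_))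
  rw [map_one, map_mul, spR_germ]
  exact (congrArg (_ * ·) hb).trans (mul_inv_cancel₀ ha)

variable (hD : ∀ V : X.Opens, IsAffineOpen V → {y : X | y ∈ V ∧ D y ≠ 0}.Finite)

include hD in
theorem finite_bad {V : X.Opens} (hV : IsAffineOpen V) {v : X.functionField} (hv : v ≠ 0) :
    {y : X | y ∈ V ∧ Scheme.ord v y ≠ -D y}.Finite := by
  refine ((finite_ord_ne_zero hV hv).union (hD V hV)).subset ?_
  rintro y ⟨hyV, hy⟩
  by_cases h : Scheme.ord v y = 0
  · exact Or.inr ⟨hyV, fun h0 => hy (by rw [h, h0]; rfl)⟩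
  · exact Or.inl ⟨hyV, h⟩

theorem val_zero {U : X.Opens} (hη : genericPoint X ∈ U) : val (0 : Γ(M hX D, U)) hη = 0 := rfl

include hD in
theorem isQCoh : Coh.IsQCoh (M hX D) := by
  classical
  refine QCoh.isQCoh_of_sections (fun U hU f s => ?_) fun U hU f t ht => ?_
  · change ∃ n t, AModX.res (M hX D) (X.basicOpen_le f) t = AModX.resR (X.basicOpen_le f) f ^ n • s
    by_cases hη : genericPoint X ∈ X.basicOpen f
    swap
    · exact ⟨0, 0, ext_val fun h => (hη h).elim⟩
    have hηU : genericPoint X ∈ U := X.basicOpen_le f hη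
    set v := val s hη with hv
    set fK : X.functionField := X.presheaf.germ U (genericPoint X) hηU f with hfK
    have hfK0 : fK ≠ 0 := ((X.mem_basicOpen f _ hηU).1 hη).ne_zero
    by_cases hv0 : v = 0
    · refine ⟨0, 0, ext_val fun h => ?_⟩
      rw [val_res, val_zero, val_smul, show val s h = 0 from hv0, mul_zero]
    set S := (finite_bad hD hU hv0).toFinset with hS
    set n := ∑ y ∈ S, (-D y - Scheme.ord v y).toNat with hn
    have hcond : ∀ y ∈ U, Order.coheight y = 1 → Cond D y (fK ^ n * v) := by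
      intro y hy hy1
      refine Or.inr ?_
      rw [Scheme.ord_mul (pow_ne_zero n hfK0) hv0, ord_pow hfK0]
      have h0 : 0 ≤ Scheme.ord fK y := CDiv6.reg_ord_nonneg hfK0 (germ_reg f hy)
      have h0' : 0 ≤ (n : ℤ) * Scheme.ord fK y := mul_nonneg (Int.natCast_nonneg n) h0
      by_cases hgood : -D y ≤ Scheme.ord v y
      · omega
      have hyS : y ∈ S := (Set.Finite.mem_toFinset _).2 ⟨hy, fun h => hgood h.ge⟩
      have h1 : 1 ≤ Scheme.ord fK y := one_le_ord (hX := hX) hy hy1 hfK0 fun hu =>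
        hgood (by
          rcases cond_val s ((X.mem_basicOpen f y hy).2 hu) hy1 with h | h
          · exact absurd h hv0
          · exact h)
      have h2 : (-D y - Scheme.ord v y).toNat ≤ n :=
        Finset.single_le_sum (f := fun y => (-D y - Scheme.ord v y).toNat) (fun _ _ => Nat.zero_le _) hyS
      have h3 : (n : ℤ) ≤ n * Scheme.ord fK y := le_mul_of_one_le_right (Int.natCast_nonneg n) h1
      omega
    refine ⟨n, mk U (fK ^ n * v) hcond, ext_val fun h => ?_⟩
    rw [val_res, val_mk, val_smul, map_pow]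
    exact congrArg (fun z => z ^ n * v) (RefX.germ_resR (X.basicOpen_le f) h f).symm
  · change AModX.res (M hX D) (X.basicOpen_le f) t = 0 at ht
    by_cases hη : genericPoint X ∈ X.basicOpen f
    · refine ⟨0, ext_val fun h => ?_⟩
      rw [pow_zero, one_smul, val_zero]
      have h1 := congrArg (fun z => val z hη) ht
      simp only [val_res, val_zero] at h1
      exact h1
    · refine ⟨1, ext_val fun h => ?_⟩
      rw [pow_one, val_smul, val_zero]
      have h0 : (X.presheaf.germ U (genericPoint X) h f : X.functionField) = 0 := by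
        by_contra h0
        exact hη ((X.mem_basicOpen f _ h).2 (isUnit_iff_ne_zero (G₀ := X.functionField).2 h0))
      rw [h0]
      exact zero_mul _

include hX in
theorem exists_bound {U : X.Opens} (hU : IsAffineOpen U) (hη : genericPoint X ∈ U)
    (hD : {y : X | y ∈ U ∧ D y ≠ 0}.Finite) (hD1 : ∀ y, Order.coheight y ≠ 1 → D y = 0) :
    ∃ a : Γ(X, U), (X.presheaf.germ U (genericPoint X) hη a : X.functionField) ≠ 0 ∧
      ∀ y ∈ U, Order.coheight y = 1 → D y ≤ Scheme.ord (X.presheaf.germ U (genericPoint X) hη a : X.functionField) y := by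
  classical
  have h1 : ∀ y : hD.toFinset, ∃ a : Γ(X, U), (X.presheaf.germ U (genericPoint X) hη a : X.functionField) ≠ 0 ∧
      1 ≤ Scheme.ord (X.presheaf.germ U (genericPoint X) hη a : X.functionField) y.1 := by
    rintro ⟨y, hy⟩
    obtain ⟨hyU, hy0⟩ := hD.mem_toFinset.1 hy
    have hy1 : Order.coheight y = 1 := by_contra fun h => hy0 (hD1 y h)
    have hne : (hU.primeIdealOf ⟨y, hyU⟩).asIdeal ≠ ⊥ := by
      intro hbot
      refine ne_of_coheight_one hy1 ?_
      have hle : hU.primeIdealOf ⟨y, hyU⟩ ≤ hU.primeIdealOf ⟨genericPoint X, hη⟩ := by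
        show (hU.primeIdealOf ⟨y, hyU⟩).asIdeal ≤ _
        rw [hbot]; exact bot_le
      have h2 := (VarDim.fromSpec_specializes_iff hU _ _).2 hle
      rw [hU.fromSpec_primeIdealOf, hU.fromSpec_primeIdealOf] at h2
      exact (inseparable_iff_specializes_and.2 ⟨h2, eta_le y⟩).eq
    obtain ⟨a, ha, ha0⟩ := Submodule.exists_mem_ne_zero_of_ne_bot hne
    have haK : (X.presheaf.germ U (genericPoint X) hη a : X.functionField) ≠ 0 := fun h =>
      ha0 (germ_eta_inj hη (h.trans (map_zero _).symm))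
    refine ⟨a, haK, one_le_ord (hX := hX) hyU hy1 haK fun hu => ?_⟩
    exact (QCoh.mem_basicOpen_iff_notMem hU hyU a).1 ((X.mem_basicOpen a y hyU).2 hu) ha
  choose a ha0 ha1 using h1
  refine ⟨∏ y, a y ^ (D y.1).toNat, ?_, fun y hy hy1 => ?_⟩
  · rw [map_prod]
    exact Finset.prod_ne_zero_iff.2 fun i _ => by rw [map_pow]; exact pow_ne_zero _ (ha0 i)
  · rw [map_prod]
    refine le_trans ?_ (ord_prod Finset.univ (fun i => (X.presheaf.germ U (genericPoint X) hη (a i ^ (D i.1).toNat) : X.functionField))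
      (fun i _ => by rw [map_pow]; exact pow_ne_zero _ (ha0 i)) y).ge
    have hnn : ∀ i : hD.toFinset, 0 ≤ Scheme.ord
        (X.presheaf.germ U (genericPoint X) hη (a i ^ (D i.1).toNat) : X.functionField) y := fun i =>
      CDiv6.reg_ord_nonneg (by rw [map_pow]; exact pow_ne_zero _ (ha0 i)) (germ_reg _ hy)
    by_cases h0 : D y = 0
    · rw [h0]; exact Finset.sum_nonneg fun i _ => hnn i
    refine le_trans ?_ (Finset.single_le_sum (fun i _ => hnn i)
      (Finset.mem_univ (⟨y, hD.mem_toFinset.2 ⟨hy, h0⟩⟩ : hD.toFinset)))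
    rw [map_pow, ord_pow (ha0 _)]
    refine le_trans (Int.self_le_toNat _) ?_
    exact le_mul_of_one_le_right (Int.natCast_nonneg _) (ha1 ⟨y, hD.mem_toFinset.2 ⟨hy, h0⟩⟩)

variable (hD1 : ∀ y, Order.coheight y ≠ 1 → D y = 0)

include hD hD1 in
theorem isCoh : Coh.IsCoh (M hX D) := by
  refine QCoh.isCoh_iff.2 ⟨isQCoh hD, fun U => ?_⟩
  haveI : IsNoetherianRing Γ(X, U.1) := QCoh.noetherian_sections U
  by_cases hη : genericPoint X ∈ U.1
  swap
  · haveI : Subsingleton Γ(M hX D, U.1) := ⟨fun s t => ext_val fun h => (hη h).elim⟩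
    exact inferInstance
  obtain ⟨a, ha, hab⟩ := exists_bound (hX := hX) U.2 hη (hD U.1 U.2) hD1
  have h : ∀ s : Γ(M hX D, U.1), ∃ r : Γ(X, U.1),
      (X.presheaf.germ U.1 (genericPoint X) hη r : X.functionField) =
        X.presheaf.germ U.1 (genericPoint X) hη a * val s hη := fun s =>
    exists_fn hη _ (fun y hy hy1 => by
      rcases cond_val s hy hy1 with h0 | h0
      · exact Or.inl (by rw [show val s hη = 0 from h0]; exact mul_zero _)
      by_cases hs : val s hη = 0
      · exact Or.inl (by rw [hs]; exact mul_zero _)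
      refine Or.inr ?_
      rw [Scheme.ord_mul ha hs]
      have := hab y hy hy1
      change -D y ≤ Scheme.ord (val s hη) y at h0
      omega) hX
  choose r hr using h
  let f : Γ(M hX D, U.1) →ₗ[Γ(X, U.1)] Γ(X, U.1) :=
    { toFun := r
      map_add' := fun s t => germ_eta_inj hη (by
        rw [map_add, hr, hr, hr]; exact mul_add _ (val s hη) (val t hη))
      map_smul' := fun c s => germ_eta_inj hη (by
        rw [RingHom.id_apply, smul_eq_mul, map_mul, hr, hr, val_smul]; exact mul_left_comm _ _ _) }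
  exact Module.Finite.of_injective f fun s t hst => ext_val fun _ => by
    have h1 := congrArg (X.presheaf.germ U.1 (genericPoint X) hη) hst
    change X.presheaf.germ U.1 (genericPoint X) hη (r s) = X.presheaf.germ U.1 (genericPoint X) hη (r t) at h1
    rw [hr, hr] at h1
    exact mul_left_cancel₀ ha h1

include hD hD1 in
/-- A rational function with divisor `-D` near a point. -/
theorem exists_local_eq {y : X} (hy1 : Order.coheight y = 1) (hX : Pi1.IsNormalScheme X) :
    ∃ (W : X.Opens) (φ : X.functionField), y ∈ W ∧ φ ≠ 0 ∧ ∀ z ∈ W, Order.coheight z = 1 → Scheme.ord φ z = -D z := by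
  haveI := CDiv6.isDVR_of_coheight_one hX hy1
  haveI : Ring.KrullDimLE 1 (X.presheaf.stalk y) := krullDimLE_of_coheight_le hy1.le
  obtain ⟨ϖ, hϖ⟩ := IsDiscreteValuationRing.exists_irreducible (X.presheaf.stalk y)
  have hK : algebraMap (X.presheaf.stalk y) X.functionField ϖ ≠ 0 := fun h =>
    hϖ.ne_zero (spR_injective y (h.trans (map_zero _).symm))
  have h1 : Scheme.ord (algebraMap (X.presheaf.stalk y) X.functionField ϖ) y = 1 := by
    rw [Scheme.ord_eq_iff hy1 hK]
    exact Ring.ordFrac_irreducible hϖ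
  set φ := algebraMap (X.presheaf.stalk y) X.functionField ϖ ^ (-D y) with hφ
  have hφ0 : φ ≠ 0 := zpow_ne_zero _ hK
  obtain ⟨_, ⟨V, hV, rfl⟩, hyV, -⟩ :=
    X.isBasis_affineOpens.exists_subset_of_mem_open (Set.mem_univ y) isOpen_univ
  set S := {z : X | z ∈ V ∧ Order.coheight z = 1 ∧ Scheme.ord φ z ≠ -D z} with hS
  have hSf : S.Finite := (finite_bad hD hV hφ0).subset fun z hz => ⟨hz.1, hz.2.2⟩
  have hyS : y ∉ closure S := by
    rw [← Set.biUnion_of_singleton S, hSf.closure_biUnion]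
    simp only [Set.mem_iUnion, not_exists]
    intro z hz hzy
    have := eq_of_specializes_of_coheight_one (specializes_iff_mem_closure.2 hzy) hy1 (ne_of_coheight_one hz.2.1)
    subst this
    exact hz.2.2 (by rw [hφ, ord_zpow hK, h1, mul_one])
  refine ⟨V ⊓ ⟨(closure S)ᶜ, isClosed_closure.isOpen_compl⟩, φ, ⟨hyV, hyS⟩, hφ0, fun z hz hz1 => ?_⟩
  by_contra hne
  exact hz.2 (subset_closure ⟨hz.1, hz1, hne⟩)

include hD in
theorem exists_open_one : ∃ W : X.Opens, genericPoint X ∈ W ∧ ∀ y ∈ W, Order.coheight y = 1 → D y = 0 := by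
  obtain ⟨_, ⟨V, hV, rfl⟩, hV0, -⟩ :=
    X.isBasis_affineOpens.exists_subset_of_mem_open (Set.mem_univ (genericPoint X)) isOpen_univ
  set S := {z : X | z ∈ V ∧ Order.coheight z = 1 ∧ D z ≠ 0} with hS
  have hSf : S.Finite := (hD V hV).subset fun z hz => ⟨hz.1, hz.2.2⟩
  have hηS : genericPoint X ∉ closure S := by
    rw [← Set.biUnion_of_singleton S, hSf.closure_biUnion]
    simp only [Set.mem_iUnion, not_exists]
    intro z hz hzy
    exact ne_of_coheight_one hz.2.1 (inseparable_iff_specializes_and.2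
      ⟨specializes_iff_mem_closure.2 hzy, eta_le z⟩).eq
  refine ⟨V ⊓ ⟨(closure S)ᶜ, isClosed_closure.isOpen_compl⟩, ⟨hV0, hηS⟩, fun z hz hz1 => ?_⟩
  by_contra hne
  exact hz.2 (subset_closure ⟨hz.1, hz1, hne⟩)

include hD hD1 in
/-- Every divisor is the divisor of a rational section of a rank one reflexive module. -/
theorem exists_ref1 (hX : Pi1.IsNormalScheme X) :
    ∃ (F : X.Modules) (_ : RefHull.IsRef1 F) (s : F.presheaf.stalk (genericPoint X)), s ≠ 0 ∧
      ∀ y : X, Order.coheight y = 1 → ordF F s y = D y := by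
  have hM : Coh.IsCoh (M hX D) := isCoh hD hD1
  have hR : Coh.IsCoh (RefHull.ddual (M hX D)) := RefX.isCoh_dual (RefX.isCoh_dual hM)
  obtain ⟨W₀, hη, hW₀⟩ := exists_open_one hD
  have h₀ : ∀ y ∈ W₀, Order.coheight y = 1 → Scheme.ord (1 : X.functionField) y = -D y := fun y hy h1 => by
    rw [ord_one, hW₀ y hy h1]; rfl
  let e₀ : Γ(M hX D, W₀) := mk W₀ 1 fun y hy h1 => Or.inr (h₀ y hy h1).ge
  have hg₀ : IsGen ((M hX D).presheaf.germ W₀ _ hη e₀) :=
    IsGen.of_frame (isFrame_mk one_ne_zero h₀) hη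
  have hg := hg₀.map _ (bidual_bijective_of_gen hM hg₀)
  obtain ⟨U, hU, f, hf, -⟩ := exists_frame_of_gen hR hg
  refine ⟨_, ⟨hR, isReflexive_dual (RefX.isCoh_dual hM), genInvertible_of_frame hU hf⟩,
    RefHull.stalkMapₗ (RefHull.bidualMap (M hX D)) (genericPoint X) ((M hX D).presheaf.germ W₀ _ hη e₀),
    fun h0 => ?_, fun y hy => ?_⟩
  · exact one_ne_zero (α := X.functionField) (hg.1 (show (1 : X.presheaf.stalk (genericPoint X)) • _ =
      (0 : X.presheaf.stalk (genericPoint X)) • _ by rw [h0, smul_zero, smul_zero]))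
  obtain ⟨W, φ, hyW, hφ0, hW⟩ := exists_local_eq hD hD1 hy hX
  let e : Γ(M hX D, W) := mk W φ fun z hz h1 => Or.inr (hW z hz h1).ge
  have hge : IsGen ((M hX D).presheaf.germ W y hyW e) := IsGen.of_frame (isFrame_mk hφ0 hW) hyW
  have hgy := hge.map _ (bidual_bijective_of_gen hM hge)
  have hηW : genericPoint X ∈ W₀ ⊓ W := ⟨hη, eta_mem hyW⟩
  obtain ⟨c, hc⟩ := (isFrame_mk (hX := hX) hφ0 hW).exists_coord (inf_le_right : W₀ ⊓ W ≤ W)
    (AModX.res (M hX D) (inf_le_left : W₀ ⊓ W ≤ W₀) e₀)
  have h1 : (X.presheaf.germ (W₀ ⊓ W) _ hηW c : X.functionField) * φ = 1 := by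
    have h2 := congrArg (fun z => val z hηW) hc
    rw [val_res, val_smul, val_res, val_mk] at h2
    exact h2.symm
  have hc0 : X.presheaf.germ (W₀ ⊓ W) _ hηW c ≠ 0 := fun h0 => one_ne_zero (α := X.functionField) (by
    rw [← h1]; exact (congrArg (· * φ) h0).trans (zero_mul φ))
  have hs : (M hX D).presheaf.germ W₀ _ hη e₀ =
      X.presheaf.germ (W₀ ⊓ W) _ hηW c • gsp (M hX D) y ((M hX D).presheaf.germ W y hyW e) := by
    rw [sp_germ, ← RefX.germ_res (M hX D) (inf_le_left : W₀ ⊓ W ≤ W₀) hηW e₀,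
      ← RefX.germ_res (M hX D) (inf_le_right : W₀ ⊓ W ≤ W) hηW e, ← QCoh.germ_smul']
    exact congrArg _ hc
  rw [hs, map_smul, ← sp_stalkMap, ordF_eq hR hy hgy hc0 rfl]
  have h3 := Scheme.ord_mul (X := X) (x := y) (f := (X.presheaf.germ (W₀ ⊓ W) _ hηW c : X.functionField)) hc0 hφ0
  rw [h1, ord_one, hW y hyW hy] at h3
  omega

end Groth.Agent.Ref1X.OD
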