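import Groth.Agent.Ref1X.Finite
import Groth.Prelude.Def_RefPow

/-!
# Reflexive powers of a section of a rank one reflexive module
-/

universe u

set_option backward.isDefEq.respectTransparency false
set_option backward.isDefEq.respectTransparency.types false
set_option linter.style.haveILetI false

open CategoryTheory AlgebraicGeometry TopologicalSpace Opposite

namespace Groth.Agent.Ref1X

variable {X : Scheme.{u}} [IsIntegral X] [IsLocallyNoetherian X] {F G : X.Modules}

omit [IsLocallyNoetherian X] in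
/-- The germ of a tensor of sections is the tensor of their germs. -/
theorem isTensorSec_germ {U₀ : X.Opens} (h₀ : genericPoint X ∈ U₀) (m : Γ(F, U₀)) (m' : Γ(G, U₀)) :
    IsTensorSec F G (F.presheaf.germ U₀ _ h₀ m) (G.presheaf.germ U₀ _ h₀ m')
      ((CohB1.tensorMod F G).presheaf.germ U₀ _ h₀ (InvX.tmul m m')) := by
  intro U hU a b φ ψ ha hb hs ht
  let W := U ⊓ U₀
  have hW : genericPoint X ∈ W := ⟨hU, h₀⟩
  obtain ⟨c, hc⟩ := ha.exists_coord (inf_le_left : W ≤ U) (AModX.res F (inf_le_right : W ≤ U₀) m)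
  obtain ⟨d, hd⟩ := hb.exists_coord (inf_le_left : W ≤ U) (AModX.res G (inf_le_right : W ≤ U₀) m')
  have hcφ : X.presheaf.germ W _ hW c = φ := (IsGen.of_frame ha hU).1 (by
    show _ • F.presheaf.germ U _ hU a = φ • F.presheaf.germ U _ hU a
    rw [← hs, ← RefX.germ_res F (inf_le_left : W ≤ U) hW a, ← QCoh.germ_smul', ← hc, RefX.germ_res])
  have hdψ : X.presheaf.germ W _ hW d = ψ := (IsGen.of_frame hb hU).1 (by
    show _ • G.presheaf.germ U _ hU b = ψ • G.presheaf.germ U _ hU b
    rw [← ht, ← RefX.germ_res G (inf_le_left : W ≤ U) hW b, ← QCoh.germ_smul', ← hd, RefX.germ_res])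
  rw [← RefX.germ_res _ (inf_le_right : W ≤ U₀) hW (InvX.tmul m m'),
    ← RefX.germ_res _ (inf_le_left : W ≤ U) hW (InvX.tmul a b), InvX.res_tmul, InvX.res_tmul, hc, hd,
    InvX.tmul_smul_left, InvX.tmul_smul_right, QCoh.germ_smul', QCoh.germ_smul', hcφ, hdψ, ← mul_smul]

variable (s : Coh.structureModule X ⟶ F)

omit [IsIntegral X] [IsLocallyNoetherian X] in
theorem sp_sPowGerm (n : ℕ) {x y : X} (h : y ⤳ x) :
    sp (RefPow.refPow F n) h (RefPow.sPowGerm s n x) = RefPow.sPowGerm s n y := sp_germ h (U := ⊤) trivial _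

omit [IsIntegral X] [IsLocallyNoetherian X] in
theorem stalkMap_mulBy (n : ℕ) (x : X) :
    RefHull.stalkMapₗ (RefPow.mulBy s n) x (RefPow.sPowGerm s n x) = RefPow.sPowGerm s (n + 1) x :=
  RefHull.stalkMapₗ_germ (RefPow.mulBy s n) x (U := ⊤) trivial _

omit [IsIntegral X] [IsLocallyNoetherian X] in
theorem sPowGerm_zero (x : X) : RefPow.sPowGerm s 0 x = RefX.unitStalk x 1 :=
  (one_smul (X.presheaf.stalk x) (RefPow.sPowGerm s 0 x)).symm

omit [IsIntegral X] [IsLocallyNoetherian X] in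
theorem sPowGerm_succ (n : ℕ) (x : X) :
    RefPow.sPowGerm s (n + 2) x = RefHull.stalkMapₗ (RefHull.bidualMap (CohB1.tensorMod (RefPow.refPow F (n + 1)) F)) x
      ((CohB1.tensorMod (RefPow.refPow F (n + 1)) F).presheaf.germ ⊤ x trivial
        (InvX.tmul (show Γ(RefPow.refPow F (n + 1), ⊤) from SecTwist.val (RefPow.sPow s (n + 1)) ⊤)
          (show Γ(F, ⊤) from SecTwist.val s ⊤))) := by
  rw [RefHull.stalkMapₗ_germ]
  exact congrArg _ (RefPow.mulBy_succ_app s n ⊤ _)

omit [IsIntegral X] [IsLocallyNoetherian X] in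
theorem sPowGerm_one (x : X) :
    RefPow.sPowGerm s 1 x = F.presheaf.germ ⊤ x trivial (show Γ(F, ⊤) from SecTwist.val s ⊤) := by
  show (RefPow.refPow F 1).presheaf.germ ⊤ x trivial (SecTwist.val (RefPow.sPow s 1) ⊤) = _
  rw [RefPow.sPow_one]
  rfl

omit [IsIntegral X] [IsLocallyNoetherian X] in
theorem mem_isoLocus_iff (x : X) :
    x ∈ RefPow.isoLocus s ↔ IsGen (M := RefPow.refPow F 1) (RefPow.sPowGerm s 1 x) := by
  have h1 : RefHull.stalkMapₗ s x (RefX.unitStalk x 1) = RefPow.sPowGerm s 1 x := by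
    rw [sPowGerm_one]
    refine (congrArg _ (one_smul (X.presheaf.stalk x) ((Coh.structureModule X).presheaf.germ ⊤ x trivial
      (show Γ(Coh.structureModule X, ⊤) from (1 : Γ(X, ⊤)))))).trans ?_
    exact RefHull.stalkMapₗ_germ s x (U := ⊤) trivial _
  have h2 : (fun c : X.presheaf.stalk x => c • RefPow.sPowGerm s 1 x) =
      (RefHull.stalkMapₗ s x : _ → F.presheaf.stalk x) ∘ RefX.unitStalk x := funext fun c => by
    rw [Function.comp_apply, show RefX.unitStalk x c = c • RefX.unitStalk x 1 by rw [← map_smul, smul_eq_mul, mul_one],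
      map_smul, h1]
  rw [RefPow.mem_isoLocus]
  show _ ↔ Function.Bijective _
  rw [h2]
  exact (Function.Bijective.of_comp_iff _ (RefX.unitStalk x).bijective).symm

theorem isRef1_refPow (hF : RefHull.IsRef1 F) : ∀ n, RefHull.IsRef1 (RefPow.refPow F n)
  | 0 => isRef1_unit
  | 1 => hF
  | n + 2 => isRef1_refTensor (isRef1_refPow hF (n + 1)) hF

variable (hX : Pi1.IsNormalScheme X)

theorem sPowGerm_eta_ne_zero (hF : RefHull.IsRef1 F) (hs : RefPow.sPowGerm s 1 (genericPoint X) ≠ 0) (n : ℕ) :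
    RefPow.sPowGerm s n (genericPoint X) ≠ 0 := by
  match n with
  | 0 =>
    rw [sPowGerm_zero]
    exact fun h0 => one_ne_zero (α := X.functionField)
      ((RefX.unitStalk (genericPoint X)).injective (h0.trans (map_zero _).symm))
  | 1 => exact hs
  | n + 2 =>
    have ih := sPowGerm_eta_ne_zero hF hs (n + 1)
    have hP := isRef1_refPow hF (n + 1)
    have hT := AmpleVan.isCoh_tensor hP.1 hF.1
    have hR := RefX.isCoh_dual (RefX.isCoh_dual hT)
    obtain ⟨a, ha⟩ := exists_gen_eta hP.2.2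
    obtain ⟨b, hb⟩ := exists_gen_eta hF.2.2
    obtain ⟨p, hp, hpw⟩ := IsTensorSec.coord hP.1 hF.1 ha hb
    obtain ⟨φ, hφ⟩ := (ha.specialize hP.1 (eta_le _)).2 (RefPow.sPowGerm s (n + 1) (genericPoint X))
    obtain ⟨ψ, hψ⟩ := (hb.specialize hF.1 (eta_le _)).2 (F.presheaf.germ ⊤ (genericPoint X) trivial (show Γ(F, ⊤) from SecTwist.val s ⊤))
    dsimp only at hφ hψ
    have h0 : φ * ψ ≠ 0 := mul_ne_zero (M₀ := X.functionField)
      (fun h0 => ih (by rw [← hφ, h0, zero_smul]))
      (fun h0 => hs (by rw [sPowGerm_one, ← hψ, h0, zero_smul]))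
    rw [sPowGerm_succ, hpw (isTensorSec_germ (U₀ := ⊤) trivial _ _) hφ.symm hψ.symm, map_smul, ← sp_stalkMap]
    exact (ne_zero_of_gen hR (hp.map _ (bidual_bijective_of_gen hT hp))).2 h0

include hX in
theorem ordF_sPowGerm (hF : RefHull.IsRef1 F) (hs : RefPow.sPowGerm s 1 (genericPoint X) ≠ 0) (n : ℕ) {x : X}
    (hx : Order.coheight x = 1) :
    ordF (RefPow.refPow F n) (RefPow.sPowGerm s n (genericPoint X)) x =
      n * ordF (RefPow.refPow F 1) (RefPow.sPowGerm s 1 (genericPoint X)) x := by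
  match n with
  | 0 => rw [sPowGerm_zero]; show ordF (Coh.structureModule X) _ x = _; rw [ordF_unit hx]; simp
  | 1 => simp
  | n + 2 =>
    have ih := ordF_sPowGerm hF hs (n + 1) hx
    have hP := isRef1_refPow hF (n + 1)
    have hT := AmpleVan.isCoh_tensor hP.1 hF.1
    have hR := RefX.isCoh_dual (RefX.isCoh_dual hT)
    obtain ⟨a, φ, ha, ha', h₁⟩ := exists_coord hX hP hx (RefPow.sPowGerm s (n + 1) (genericPoint X))
    obtain ⟨b, ψ, hb, hb', h₂⟩ := exists_coord hX hF hx
      (F.presheaf.germ ⊤ (genericPoint X) trivial (show Γ(F, ⊤) from SecTwist.val s ⊤))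
    obtain ⟨hφ, h₁⟩ := h₁ (sPowGerm_eta_ne_zero s hF hs (n + 1))
    have hs' : F.presheaf.germ ⊤ (genericPoint X) trivial (show Γ(F, ⊤) from SecTwist.val s ⊤) ≠ 0 :=
      fun h0 => hs ((sPowGerm_one s _).trans h0)
    obtain ⟨hψ, h₂⟩ := h₂ hs'
    obtain ⟨p, hp, hpw⟩ := IsTensorSec.coord hP.1 hF.1 ha hb
    have h3 : ordF (RefPow.refPow F 1) (RefPow.sPowGerm s 1 (genericPoint X)) x =
        ordF F (F.presheaf.germ ⊤ (genericPoint X) trivial (show Γ(F, ⊤) from SecTwist.val s ⊤)) x :=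
      congrArg (fun v => ordF F v x) (sPowGerm_one s _)
    rw [sPowGerm_succ, hpw (isTensorSec_germ (U₀ := ⊤) trivial _ _) ha' hb', map_smul, ← sp_stalkMap,
      show ordF (RefPow.refPow F (n + 2)) _ x = _ from
        ordF_eq hR hx (hp.map _ (bidual_bijective_of_gen hT hp)) (mul_ne_zero (M₀ := X.functionField) hφ hψ) rfl]
    refine (Scheme.ord_mul hφ hψ).trans ?_
    rw [← h₁, ← h₂, ih, h3]
    push_cast
    ring

include hX in
theorem ordF_one_nonneg (hF : RefHull.IsRef1 F) (hs : RefPow.sPowGerm s 1 (genericPoint X) ≠ 0) {x : X}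
    (hx : Order.coheight x = 1) :
    0 ≤ ordF (RefPow.refPow F 1) (RefPow.sPowGerm s 1 (genericPoint X)) x :=
  (mem_range_gsp hX (isRef1_refPow hF 1) hx hs).1 ⟨_, sp_sPowGerm s 1 _⟩

include hX in
theorem mem_isoLocus_iff_ord (hF : RefHull.IsRef1 F) (hs : RefPow.sPowGerm s 1 (genericPoint X) ≠ 0) {x : X}
    (hx : Order.coheight x = 1) :
    x ∈ RefPow.isoLocus s ↔ ordF (RefPow.refPow F 1) (RefPow.sPowGerm s 1 (genericPoint X)) x = 0 := by
  have hP := isRef1_refPow hF 1
  have h1 : ∀ y : X, Scheme.ord (1 : X.functionField) y = 0 := fun y => by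
    have h4 := Scheme.ord_mul (X := X) (x := y) (one_ne_zero (α := X.functionField)) (one_ne_zero (α := X.functionField))
    rw [mul_one] at h4
    omega
  rw [mem_isoLocus_iff]
  constructor
  · intro h
    rw [ordF_eq hP.1 hx h (φ := 1) (one_ne_zero (α := X.functionField)) (by rw [one_smul, sp_sPowGerm])]
    exact h1 x
  · intro h
    obtain ⟨t, ht⟩ := exists_gen_of_coheight_one hX hP hx
    obtain ⟨c, hc⟩ := ht.2 (RefPow.sPowGerm s 1 x)
    dsimp only at hc
    have hc0 : spR X (eta_le x) c ≠ 0 := fun h0 => hs (by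
      rw [← sp_sPowGerm s 1 (eta_le x), ← hc, sp_smul, h0, zero_smul])
    rw [ordF_eq hP.1 hx ht hc0 (by rw [← sp_smul, hc, sp_sPowGerm])] at h
    obtain ⟨b, hb⟩ := CDiv6.reg_of_ord_nonneg hX hx (inv_ne_zero (a := (spR X (eta_le x) c : X.functionField)) hc0) (by
      have h3 := Scheme.ord_mul (X := X) (x := x) (inv_ne_zero (a := (spR X (eta_le x) c : X.functionField)) hc0) hc0
      rw [inv_mul_cancel₀ (a := (spR X (eta_le x) c : X.functionField)) hc0, h1] at h3
      omega)
    have hu : IsUnit c := IsUnit.of_mul_eq_one b (spR_injective x (by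
      rw [map_one, map_mul]
      exact (congrArg ((spR X (eta_le x) c : X.functionField) * ·) hb).trans (mul_inv_cancel₀ hc0)))
    rw [← hc]
    have h2 : (fun a : X.presheaf.stalk x => a • c • t) = (fun a => a • t) ∘ (fun a => a * c) :=
      funext fun a => (mul_smul a c t).symm
    exact (congrArg Function.Bijective h2).mpr (ht.comp (IsUnit.isUnit_iff_mulRight_bijective.1 hu))

omit hX in
theorem eta_mem_isoLocus (hF : RefHull.IsRef1 F) :
    genericPoint X ∈ RefPow.isoLocus s ↔ RefPow.sPowGerm s 1 (genericPoint X) ≠ 0 := by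
  rw [mem_isoLocus_iff]
  refine ⟨fun h h0 => one_ne_zero (α := X.functionField) (h.1 ?_), fun h => ?_⟩
  · show (1 : X.presheaf.stalk (genericPoint X)) • RefPow.sPowGerm s 1 _ = (0 : X.presheaf.stalk (genericPoint X)) • _
    rw [h0, smul_zero, smul_zero]
  · obtain ⟨g, hg⟩ := exists_gen_eta (isRef1_refPow hF 1).2.2
    exact one_dim hg h

include hX in
/-- A rational function regular where the section generates extends after multiplying by a high power. -/
theorem exists_pow_section (hF : RefHull.IsRef1 F) (hs : RefPow.sPowGerm s 1 (genericPoint X) ≠ 0)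
    {V : X.Opens} (hV : IsAffineOpen V) (hη : genericPoint X ∈ V) (f : X.presheaf.stalk (genericPoint X))
    (hf : ∀ y ∈ V, y ∈ RefPow.isoLocus s → Order.coheight y = 1 →
      (f : X.functionField) = 0 ∨ 0 ≤ Scheme.ord (f : X.functionField) y) :
    ∃ N : ℕ, ∀ n ≥ N, ∃ m : Γ(RefPow.refPow F n, V),
      (RefPow.refPow F n).presheaf.germ V _ hη m = f • RefPow.sPowGerm s n (genericPoint X) := by
  classical
  by_cases hf0 : f = 0
  · exact ⟨0, fun n _ => ⟨0, by rw [map_zero, hf0, zero_smul]⟩⟩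
  set S := (finite_ord_ne_zero hV (φ := (f : X.functionField)) hf0).toFinset with hS
  refine ⟨∑ y ∈ S, (-Scheme.ord (f : X.functionField) y).toNat, fun n hn => ?_⟩
  have hP := isRef1_refPow hF n
  refine exists_section (gsp_injective hP.1 hP.2.1) hη _ fun y hy =>
    mem_range_of_codim_one hX hP.1 hP.2.1 fun z hzy hz => ?_
  have hzV : z ∈ V := hzy.mem_open V.isOpen hy
  obtain ⟨g, hg⟩ := exists_gen_eta hP.2.2
  have hσ := sPowGerm_eta_ne_zero s hF hs n
  rw [mem_range_gsp hX hP hz (smul_ne_zero' (one_dim hg hσ) hf0), ordF_smul hX hP hz hσ hf0,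
    ordF_sPowGerm s hX hF hs n hz]
  have hd := ordF_one_nonneg s hX hF hs hz
  have hd' := mul_nonneg (Int.natCast_nonneg n) hd
  by_cases hneg : 0 ≤ Scheme.ord (f : X.functionField) z
  · omega
  have hzU : z ∉ RefPow.isoLocus s := fun h => hneg ((hf z hzV h hz).resolve_left hf0)
  rw [mem_isoLocus_iff_ord s hX hF hs hz] at hzU
  have hzS : z ∈ S := (Set.Finite.mem_toFinset _).2 ⟨hzV, fun h => hneg h.ge⟩
  have h2 : (-Scheme.ord (f : X.functionField) z).toNat ≤ n := le_trans
    (Finset.single_le_sum (f := fun y => (-Scheme.ord (f : X.functionField) y).toNat) (fun _ _ => Nat.zero_le _) hzS) hn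
  have h3 : (n : ℤ) ≤ n * ordF (RefPow.refPow F 1) (RefPow.sPowGerm s 1 (genericPoint X)) z :=
    le_mul_of_one_le_right (Int.natCast_nonneg n) (by omega)
  omega

end Groth.Agent.Ref1X
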