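import Groth.Agent.Ref1X.Sections
import Groth.Agent.AmpleVan.Vanish
import Groth.Prelude.Def_RefPow
import Groth.Agent.CAlgOdd.Reflexive

/-!
# The class of a rank one reflexive module: iso, tensor product, dual, unit
-/

universe u

set_option backward.isDefEq.respectTransparency false
set_option backward.isDefEq.respectTransparency.types false
set_option linter.style.haveILetI false

open CategoryTheory AlgebraicGeometry TopologicalSpace Opposite

namespace Groth.Agent.Ref1X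

variable {X : Scheme.{u}} [IsIntegral X] [IsLocallyNoetherian X] {F G : X.Modules}

theorem exists_ne_zero (h : RefHull.GenInvertible F) : ∃ s : F.presheaf.stalk (genericPoint X), s ≠ 0 := by
  obtain ⟨g, hg⟩ := exists_gen_eta h
  refine ⟨g, fun h0 => one_ne_zero (α := X.functionField) (hg.1 ?_)⟩
  show (1 : X.presheaf.stalk (genericPoint X)) • g = (0 : X.presheaf.stalk (genericPoint X)) • g
  rw [h0, smul_zero, smul_zero]

omit [IsLocallyNoetherian X] in
theorem smul_ne_zero' {g : F.presheaf.stalk (genericPoint X)} (hg : IsGen g) {c : X.presheaf.stalk (genericPoint X)}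
    (hc : c ≠ 0) : c • g ≠ 0 := fun h => hc (hg.1 (h.trans (zero_smul _ g).symm))

theorem ne_zero_of_gen (hF : Coh.IsCoh F) {x : X} {t : F.presheaf.stalk x} (ht : IsGen t)
    {φ : X.presheaf.stalk (genericPoint X)} : φ • gsp F x t ≠ 0 ↔ φ ≠ 0 :=
  ⟨fun h h0 => h (by rw [h0, zero_smul]), fun h => smul_ne_zero' (ht.specialize hF (eta_le x)) h⟩

omit [IsIntegral X] [IsLocallyNoetherian X] in
theorem stalkMap_bijective (e : F ≅ G) (x : X) : Function.Bijective (RefHull.stalkMapₗ e.hom x) := by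
  haveI : IsIso e.hom.mapPresheaf := inferInstanceAs (IsIso ((Scheme.Modules.toPresheaf X).map e.hom))
  exact (ConcreteCategory.isIso_iff_bijective ((TopCat.Presheaf.stalkFunctor Ab x).map e.hom.mapPresheaf)).1
    inferInstance

/-- A generator of a stalk makes it reflexive. -/
theorem bidual_bijective_of_gen (hF : Coh.IsCoh F) {x : X} {t : F.presheaf.stalk x} (ht : IsGen t) :
    Function.Bijective (RefHull.stalkMapₗ (RefHull.bidualMap F) x) := by
  refine (RefX.stalkMap_bidual_bijective_iff hF x).2 ?_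
  haveI : Module.IsReflexive (X.presheaf.stalk x) (X.presheaf.stalk x) := inferInstance
  exact Module.equiv (LinearEquiv.ofBijective (LinearMap.toSpanSingleton (X.presheaf.stalk x) _ t) ht)

theorem isReflexive_unit : RefHull.IsReflexive (Coh.structureModule X) :=
  (RefX.isReflexive_iff RefX.isCoh_unit).2 fun x => Module.equiv (RefX.unitStalk x)

theorem isReflexive_dual (hF : Coh.IsCoh F) : RefHull.IsReflexive (RefHull.dual F) := by
  refine (RefX.isReflexive_iff (RefX.isCoh_dual hF)).2 fun x => ?_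
  haveI : IsDomain (X.presheaf.stalk x) := (IsFractionRing.injective (X.presheaf.stalk x) X.functionField).isDomain
  haveI := QCoh.finite_stalk_of_isFT hF.1 hF.2 x
  haveI := Groth.Agent.CAlgOdd.Refl.isReflexive_dual (R := X.presheaf.stalk x) (F.presheaf.stalk x)
  exact Module.equiv (RefX.dualStalk (QCoh.isCoh_iff_isFP.1 hF) x).symm

omit [IsLocallyNoetherian X] in
theorem unit_gen (x : X) : IsGen (M := Coh.structureModule X) (RefX.unitStalk x 1) := by
  refine (congrArg Function.Bijective (funext fun c => ?_)).mpr (RefX.unitStalk x).bijective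
  rw [← map_smul, smul_eq_mul, mul_one]

omit [IsLocallyNoetherian X] in
theorem gsp_unit_one (x : X) :
    gsp (Coh.structureModule X) x (RefX.unitStalk x 1) = RefX.unitStalk (genericPoint X) 1 := by
  rw [sp_unitStalk, map_one]

theorem isRef1_unit : RefHull.IsRef1 (Coh.structureModule X) :=
  ⟨RefX.isCoh_unit, isReflexive_unit,
    genInvertible_of_frame (U := ⊤) (F := Coh.structureModule X) trivial (InvX.isFrame_one ⊤)⟩

theorem ordF_unit {x : X} (hx : Order.coheight x = 1) :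
    ordF (Coh.structureModule X) (RefX.unitStalk (genericPoint X) 1) x = 0 := by
  rw [ordF_eq RefX.isCoh_unit hx (unit_gen x) (φ := (1 : X.presheaf.stalk (genericPoint X)))
    (one_ne_zero (α := X.functionField)) (by rw [one_smul, gsp_unit_one]),
    show ((1 : X.presheaf.stalk (genericPoint X)) : X.functionField) = algebraMap (X.presheaf.stalk x) X.functionField
      ((1 : (X.presheaf.stalk x)ˣ) : X.presheaf.stalk x) from (map_one (algebraMap (X.presheaf.stalk x) X.functionField)).symm,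
    ord_units hx]

variable (hX : Pi1.IsNormalScheme X)

include hX in
theorem ordF_map (hF : RefHull.IsRef1 F) (hG : RefHull.IsRef1 G) (e : F ≅ G) {x : X} (hx : Order.coheight x = 1)
    {s : F.presheaf.stalk (genericPoint X)} (hs : s ≠ 0) :
    ordF G (RefHull.stalkMapₗ e.hom (genericPoint X) s) x = ordF F s x := by
  obtain ⟨t, φ, ht, rfl, h⟩ := exists_coord hX hF hx s
  obtain ⟨hφ, h'⟩ := h hs
  rw [h']
  exact ordF_eq hG.1 hx (ht.map e.hom (stalkMap_bijective e x)) hφ (by rw [map_smul, sp_stalkMap])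

include hX in
/-- Rational sections with equal divisors give an isomorphism. -/
theorem iso_of_ord (hF : RefHull.IsRef1 F) (hG : RefHull.IsRef1 G)
    {s : F.presheaf.stalk (genericPoint X)} (hs : s ≠ 0) {t : G.presheaf.stalk (genericPoint X)} (ht : t ≠ 0)
    (h : ∀ x : X, Order.coheight x = 1 → ordF F s x = ordF G t x) : Nonempty (F ≅ G) := by
  obtain ⟨gF, hgF⟩ := exists_gen_eta hF.2.2
  obtain ⟨gG, hgG⟩ := exists_gen_eta hG.2.2
  have hs' := one_dim hgF hs
  have ht' := one_dim hgG ht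
  let eF := LinearEquiv.ofBijective (LinearMap.toSpanSingleton (X.presheaf.stalk (genericPoint X)) _ s) hs'
  let eG := LinearEquiv.ofBijective (LinearMap.toSpanSingleton (X.presheaf.stalk (genericPoint X)) _ t) ht'
  obtain ⟨e, -⟩ := exists_iso hX hG.1 hG.2.1 hF.1 hF.2.1 (eF.symm.trans eG) fun y hy v => by
    obtain ⟨c, rfl⟩ := eF.surjective v
    rw [LinearEquiv.trans_apply, LinearEquiv.symm_apply_apply]
    show c • s ∈ _ ↔ c • t ∈ _
    by_cases hc : c = 0
    · subst hc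
      rw [zero_smul, zero_smul]
      exact ⟨fun _ => ⟨0, map_zero _⟩, fun _ => ⟨0, map_zero _⟩⟩
    rw [mem_range_gsp hX hF hy (smul_ne_zero' hs' hc), mem_range_gsp hX hG hy (smul_ne_zero' ht' hc),
      ordF_smul hX hF hy hs hc, ordF_smul hX hG hy ht hc, h y hy]
  exact ⟨e⟩

/-- Rational sections of a tensor product from frames of the factors. -/
def IsTensorSec (F G : X.Modules) (s : F.presheaf.stalk (genericPoint X)) (t : G.presheaf.stalk (genericPoint X))
    (w : (CohB1.tensorMod F G).presheaf.stalk (genericPoint X)) : Prop :=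
  ∀ (U : X.Opens) (hU : genericPoint X ∈ U) (a : Γ(F, U)) (b : Γ(G, U)) (φ ψ : X.presheaf.stalk (genericPoint X)),
    InvX.IsFrame a → InvX.IsFrame b → s = φ • F.presheaf.germ U _ hU a → t = ψ • G.presheaf.germ U _ hU b →
      w = (φ * ψ) • (CohB1.tensorMod F G).presheaf.germ U _ hU (InvX.tmul a b)

theorem exists_tensorSec (hF : RefHull.GenInvertible F) (hG : RefHull.GenInvertible G)
    (s : F.presheaf.stalk (genericPoint X)) (t : G.presheaf.stalk (genericPoint X)) :
    ∃ w, IsTensorSec F G s t w := by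
  obtain ⟨U₁, h₁, e₁, he₁⟩ := exists_frame_eta hF
  obtain ⟨U₂, h₂, e₂, he₂⟩ := exists_frame_eta hG
  let a₀ := AModX.res F (inf_le_left : U₁ ⊓ U₂ ≤ U₁) e₁
  let b₀ := AModX.res G (inf_le_right : U₁ ⊓ U₂ ≤ U₂) e₂
  have hU₀ : genericPoint X ∈ U₁ ⊓ U₂ := ⟨h₁, h₂⟩
  obtain ⟨φ₀, hφ₀⟩ := (IsGen.of_frame (M := F) (e := a₀) (he₁.res inf_le_left) hU₀).2 s
  obtain ⟨ψ₀, hψ₀⟩ := (IsGen.of_frame (M := G) (e := b₀) (he₂.res inf_le_right) hU₀).2 t
  dsimp only at hφ₀ hψ₀
  refine ⟨(φ₀ * ψ₀) • (CohB1.tensorMod F G).presheaf.germ _ _ hU₀ (InvX.tmul a₀ b₀), ?_⟩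
  intro U hU a b φ ψ ha hb hs ht
  let W := U ⊓ (U₁ ⊓ U₂)
  have hW : genericPoint X ∈ W := ⟨hU, hU₀⟩
  obtain ⟨c, hc⟩ := ha.exists_coord (inf_le_left : W ≤ U) (AModX.res F (inf_le_right : W ≤ U₁ ⊓ U₂) a₀)
  obtain ⟨d, hd⟩ := hb.exists_coord (inf_le_left : W ≤ U) (AModX.res G (inf_le_right : W ≤ U₁ ⊓ U₂) b₀)
  have ga : F.presheaf.germ _ _ hU₀ a₀ = X.presheaf.germ W _ hW c • F.presheaf.germ U _ hU a := by
    rw [← RefX.germ_res F (inf_le_right : W ≤ U₁ ⊓ U₂) hW a₀,
      ← RefX.germ_res F (inf_le_left : W ≤ U) hW a, hc, QCoh.germ_smul']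
  have gb : G.presheaf.germ _ _ hU₀ b₀ = X.presheaf.germ W _ hW d • G.presheaf.germ U _ hU b := by
    rw [← RefX.germ_res G (inf_le_right : W ≤ U₁ ⊓ U₂) hW b₀,
      ← RefX.germ_res G (inf_le_left : W ≤ U) hW b, hd, QCoh.germ_smul']
  rw [← RefX.germ_res _ (inf_le_right : W ≤ U₁ ⊓ U₂) hW (InvX.tmul a₀ b₀),
    ← RefX.germ_res _ (inf_le_left : W ≤ U) hW (InvX.tmul a b), InvX.res_tmul, InvX.res_tmul, hc, hd,
    InvX.tmul_smul_left, InvX.tmul_smul_right, QCoh.germ_smul', QCoh.germ_smul', ← mul_smul, ← mul_smul]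
  refine congrArg (· • _) ?_
  rw [ga, ← mul_smul, hs] at hφ₀
  rw [gb, ← mul_smul, ht] at hψ₀
  rw [← (IsGen.of_frame ha hU).1 hφ₀, ← (IsGen.of_frame hb hU).1 hψ₀]
  exact (mul_assoc _ _ _).trans (mul_mul_mul_comm φ₀ ψ₀ _ _)

theorem IsTensorSec.coord (hF : Coh.IsCoh F) (hG : Coh.IsCoh G) {x : X} {a : F.presheaf.stalk x} (ha : IsGen a)
    {b : G.presheaf.stalk x} (hb : IsGen b) :
    ∃ p : (CohB1.tensorMod F G).presheaf.stalk x, IsGen p ∧
      ∀ {s : F.presheaf.stalk (genericPoint X)} {t : G.presheaf.stalk (genericPoint X)}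
        {w : (CohB1.tensorMod F G).presheaf.stalk (genericPoint X)} {φ ψ : X.presheaf.stalk (genericPoint X)},
        IsTensorSec F G s t w → s = φ • gsp F x a → t = ψ • gsp G x b → w = (φ * ψ) • gsp _ x p := by
  obtain ⟨U, hxU, e, he, rfl⟩ := exists_frame_of_gen hF ha
  obtain ⟨V, hxV, e', he', rfl⟩ := exists_frame_of_gen hG hb
  have hx : x ∈ U ⊓ V := ⟨hxU, hxV⟩
  refine ⟨_, IsGen.of_frame (InvX.isFrame_tmul (he.res (inf_le_left : U ⊓ V ≤ U))
    (he'.res (inf_le_right : U ⊓ V ≤ V))) hx, ?_⟩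
  intro s t w φ ψ hw hs ht
  refine (hw (U ⊓ V) (eta_mem hx) _ _ φ ψ (he.res inf_le_left) (he'.res inf_le_right) ?_ ?_).trans ?_
  · rw [hs, sp_germ]; exact congrArg (φ • ·) (RefX.germ_res F (inf_le_left : U ⊓ V ≤ U) (eta_mem hx) e).symm
  · rw [ht, sp_germ]; exact congrArg (ψ • ·) (RefX.germ_res G (inf_le_right : U ⊓ V ≤ V) (eta_mem hx) e').symm
  · rw [sp_germ]

theorem isRef1_refTensor (hF : RefHull.IsRef1 F) (hG : RefHull.IsRef1 G) :
    RefHull.IsRef1 (RefHull.ddual (CohB1.tensorMod F G)) := by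
  have hT := AmpleVan.isCoh_tensor hF.1 hG.1
  refine ⟨RefX.isCoh_dual (RefX.isCoh_dual hT), isReflexive_dual (RefX.isCoh_dual hT), ?_⟩
  obtain ⟨a, ha⟩ := exists_gen_eta hF.2.2
  obtain ⟨b, hb⟩ := exists_gen_eta hG.2.2
  obtain ⟨p, hp, -⟩ := IsTensorSec.coord hF.1 hG.1 ha hb
  obtain ⟨U, hU, e, he, -⟩ := exists_frame_of_gen (RefX.isCoh_dual (RefX.isCoh_dual hT))
    (hp.map (RefHull.bidualMap _) (bidual_bijective_of_gen hT hp))
  exact genInvertible_of_frame hU he

include hX in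
theorem exists_ord_refTensor (hF : RefHull.IsRef1 F) (hG : RefHull.IsRef1 G)
    {s : F.presheaf.stalk (genericPoint X)} (hs : s ≠ 0) {t : G.presheaf.stalk (genericPoint X)} (ht : t ≠ 0) :
    ∃ w : (RefHull.ddual (CohB1.tensorMod F G)).presheaf.stalk (genericPoint X), w ≠ 0 ∧
      ∀ x : X, Order.coheight x = 1 →
        ordF (RefHull.ddual (CohB1.tensorMod F G)) w x = ordF F s x + ordF G t x := by
  have hT := AmpleVan.isCoh_tensor hF.1 hG.1
  have hR := RefX.isCoh_dual (RefX.isCoh_dual hT)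
  obtain ⟨w, hw⟩ := exists_tensorSec hF.2.2 hG.2.2 s t
  refine ⟨RefHull.stalkMapₗ (RefHull.bidualMap _) (genericPoint X) w, ?_, fun x hx => ?_⟩
  · obtain ⟨a, ha⟩ := exists_gen_eta hF.2.2
    obtain ⟨b, hb⟩ := exists_gen_eta hG.2.2
    obtain ⟨p, hp, hpw⟩ := IsTensorSec.coord hF.1 hG.1 ha hb
    obtain ⟨φ, hφ⟩ := (ha.specialize hF.1 (eta_le _)).2 s
    obtain ⟨ψ, hψ⟩ := (hb.specialize hG.1 (eta_le _)).2 t
    dsimp only at hφ hψ
    have h0 : φ * ψ ≠ 0 := mul_ne_zero (M₀ := X.functionField)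
      (fun h0 => hs (by rw [← hφ, h0, zero_smul])) (fun h0 => ht (by rw [← hψ, h0, zero_smul]))
    rw [hpw hw hφ.symm hψ.symm, map_smul, ← sp_stalkMap]
    exact (ne_zero_of_gen hR (hp.map _ (bidual_bijective_of_gen hT hp))).2 h0
  obtain ⟨a, φ, ha, rfl, h₁⟩ := exists_coord hX hF hx s
  obtain ⟨b, ψ, hb, rfl, h₂⟩ := exists_coord hX hG hx t
  obtain ⟨hφ, h₁⟩ := h₁ hs
  obtain ⟨hψ, h₂⟩ := h₂ ht
  obtain ⟨p, hp, hpw⟩ := IsTensorSec.coord hF.1 hG.1 ha hb
  rw [hpw hw rfl rfl, map_smul, ← sp_stalkMap, h₁, h₂,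
    ordF_eq hR hx (hp.map _ (bidual_bijective_of_gen hT hp)) (mul_ne_zero (M₀ := X.functionField) hφ hψ) rfl]
  exact Scheme.ord_mul hφ hψ

/-- The dual of a generator. -/
theorem exists_dual_gen (hF : Coh.IsCoh F) {x : X} {t : F.presheaf.stalk x} (ht : IsGen t) :
    ∃ θ : (RefHull.dual F).presheaf.stalk x, IsGen θ ∧
      RefHull.evalStalk F (Coh.structureModule X) x θ t = RefX.unitStalk x 1 := by
  have hb := RefX.evalStalk_bijective (G := Coh.structureModule X) (QCoh.isCoh_iff_isFP.1 hF) x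
  let e := LinearEquiv.ofBijective (LinearMap.toSpanSingleton (X.presheaf.stalk x) _ t) ht
  obtain ⟨θ, hθ⟩ := hb.2 ((RefX.unitStalk x).toLinearMap.comp e.symm.toLinearMap)
  have hev : RefHull.evalStalk F (Coh.structureModule X) x θ t = RefX.unitStalk x 1 := by
    rw [hθ]
    show RefX.unitStalk x (e.symm t) = _
    have he : e 1 = t := one_smul (X.presheaf.stalk x) t
    exact congrArg _ ((LinearEquiv.symm_apply_eq e).2 he.symm)
  refine ⟨θ, ⟨fun c c' h => (unit_gen x).1 ?_, fun η => ?_⟩, hev⟩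
  · show c • _ = c' • _
    rw [← hev]
    refine ((LinearMap.smul_apply c _ t).symm.trans ?_).trans (LinearMap.smul_apply c' _ t)
    rw [← map_smul, ← map_smul]
    exact congrArg (fun θ => RefHull.evalStalk F (Coh.structureModule X) x θ t) h
  · obtain ⟨c, hc⟩ := (unit_gen x).2 (RefHull.evalStalk F (Coh.structureModule X) x η t)
    refine ⟨c, hb.1 (LinearMap.ext fun m => ?_)⟩
    obtain ⟨a, rfl⟩ := ht.2 m
    rw [map_smul, map_smul, map_smul, LinearMap.smul_apply, hev]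
    exact congrArg (a • ·) hc

theorem isRef1_dual (hF : RefHull.IsRef1 F) : RefHull.IsRef1 (RefHull.dual F) := by
  refine ⟨RefX.isCoh_dual hF.1, isReflexive_dual hF.1, ?_⟩
  obtain ⟨a, ha⟩ := exists_gen_eta hF.2.2
  obtain ⟨θ, hθ, -⟩ := exists_dual_gen hF.1 ha
  obtain ⟨U, hU, e, he, -⟩ := exists_frame_of_gen (RefX.isCoh_dual hF.1) hθ
  exact genInvertible_of_frame hU he

include hX in
theorem exists_ord_dual (hF : RefHull.IsRef1 F) {s : F.presheaf.stalk (genericPoint X)} (hs : s ≠ 0) :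
    ∃ s' : (RefHull.dual F).presheaf.stalk (genericPoint X), s' ≠ 0 ∧
      ∀ x : X, Order.coheight x = 1 → ordF (RefHull.dual F) s' x = -ordF F s x := by
  obtain ⟨g, hg⟩ := exists_gen_eta hF.2.2
  obtain ⟨s', hs', hev⟩ := exists_dual_gen hF.1 (one_dim hg hs)
  refine ⟨s', fun h0 => one_ne_zero (α := X.functionField) (hs'.1 ?_), fun x hx => ?_⟩
  · show (1 : X.presheaf.stalk (genericPoint X)) • s' = (0 : X.presheaf.stalk (genericPoint X)) • s'
    rw [h0, smul_zero, smul_zero]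
  obtain ⟨t, φ, ht, rfl, h⟩ := exists_coord hX hF hx s
  obtain ⟨hφ, h'⟩ := h hs
  obtain ⟨θ, hθ, hθt⟩ := exists_dual_gen hF.1 ht
  obtain ⟨u, hu⟩ := (hθ.specialize (RefX.isCoh_dual hF.1) (eta_le x)).2 s'
  dsimp only at hu
  have h1 : φ * u = 1 := by
    refine (unit_gen (genericPoint X)).1 ?_
    dsimp only
    rw [one_smul]
    refine Eq.trans ?_ hev
    rw [← hu, map_smul, map_smul, LinearMap.smul_apply, ← sp_eval, hθt, gsp_unit_one, ← mul_smul]
  have hu0 : u ≠ 0 := fun h0 => one_ne_zero (α := X.functionField) (h1.symm.trans (by rw [h0]; exact mul_zero φ))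
  rw [h', ordF_eq (RefX.isCoh_dual hF.1) hx hθ hu0 hu.symm]
  have h2 := Scheme.ord_mul (X := X) (x := x) (f := (φ : X.functionField)) hφ (g := (u : X.functionField)) hu0
  have h3 : Scheme.ord (1 : X.functionField) x = 0 := by
    rw [← map_one (algebraMap (X.presheaf.stalk x) X.functionField)]
    exact ord_units hx 1
  rw [show (φ : X.functionField) * u = 1 from h1, h3] at h2
  omega

end Groth.Agent.Ref1X
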