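import Groth.Agent.Ref1X.Class

/-!
# Finiteness of the points of codimension one outside an open set and of divisors
-/

universe u

set_option backward.isDefEq.respectTransparency false
set_option backward.isDefEq.respectTransparency.types false
set_option linter.style.haveILetI false

open CategoryTheory AlgebraicGeometry TopologicalSpace Opposite

namespace Groth.Agent.Ref1X

variable {X : Scheme.{u}} [IsIntegral X]

omit [IsIntegral X] in
theorem coheight_add_one_le {z y : X} (h : z ⤳ y) (hne : z ≠ y) : Order.coheight z + 1 ≤ Order.coheight y := by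
  refine Order.coheight_add_one_le (lt_iff_le_not_ge.2 ⟨Scheme.le_iff_specializes.2 h, fun h' => hne ?_⟩)
  exact ((inseparable_iff_specializes_and.2 ⟨h, Scheme.le_iff_specializes.1 h'⟩)).eq

theorem eq_of_specializes_of_coheight_one {z y : X} (h : z ⤳ y) (hy : Order.coheight y = 1)
    (hz : z ≠ genericPoint X) : z = y := by
  by_contra hne
  have h1 := coheight_add_one_le h hne
  have h2 := coheight_add_one_le (eta_le z) hz.symm
  rw [hy] at h1
  have h3 : (1 : ℕ∞) + 1 ≤ 1 := le_trans (add_le_add (le_trans le_add_self h2) le_rfl) h1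
  exact absurd h3 (by decide)

omit [IsIntegral X] in
theorem ne_of_coheight_one [IrreducibleSpace X] {y : X} (hy : Order.coheight y = 1) : y ≠ genericPoint X := by
  rintro rfl
  have h0 : Order.coheight (genericPoint X) = 0 := by
    rw [Order.coheight_eq_zero]
    intro b hb
    exact Scheme.le_iff_specializes.2 ((genericPoint_spec X).specializes (Set.mem_univ b))
  rw [h0] at hy
  exact zero_ne_one hy

variable [IsLocallyNoetherian X]

/-- Finitely many points of codimension one avoid a nonempty open subset of an affine open. -/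
theorem finite_codim_one_notMem {V : X.Opens} (hV : IsAffineOpen V) {W : X.Opens} (hW : genericPoint X ∈ W) :
    {y : X | y ∈ V ∧ Order.coheight y = 1 ∧ y ∉ W}.Finite := by
  classical
  by_cases hV0 : genericPoint X ∈ V
  swap
  · exact Set.finite_empty.subset fun y hy => (hV0 (eta_mem hy.1)).elim
  haveI : IsNoetherianRing Γ(X, V) := IsLocallyNoetherian.component_noetherian ⟨V, hV⟩
  obtain ⟨a, ha, hηa⟩ := hV.exists_basicOpen_le (V := W ⊓ V) ⟨genericPoint X, hW, hV0⟩ hV0
  let I : Ideal Γ(X, V) := Ideal.span {a}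
  refine ((I.finite_minimalPrimes_of_isNoetherianRing.preimage (f := PrimeSpectrum.asIdeal)
    fun _ _ _ _ h => PrimeSpectrum.ext h).image hV.fromSpec).subset ?_
  rintro y ⟨hyV, hy1, hyW⟩
  let q := hV.primeIdealOf ⟨y, hyV⟩
  have hq : hV.fromSpec q = y := hV.fromSpec_primeIdealOf ⟨y, hyV⟩
  have haq : a ∈ q.asIdeal := by
    by_contra hc
    exact hyW (ha ((QCoh.mem_basicOpen_iff_notMem hV hyV a).2 hc)).1
  refine ⟨q, ⟨⟨q.isPrime, (Ideal.span_singleton_le_iff_mem _).2 haq⟩, fun r ⟨hr, hIr⟩ hrq => ?_⟩, hq⟩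
  let r' : PrimeSpectrum Γ(X, V) := ⟨r, hr⟩
  have h2 : hV.fromSpec r' ⤳ y := by
    rw [← hq]; exact (VarDim.fromSpec_specializes_iff hV r' q).2 hrq
  have h3 : hV.fromSpec r' ≠ genericPoint X := fun e => by
    have hmem : hV.fromSpec r' ∈ X.basicOpen a := e ▸ hηa
    have h4 : r' ∈ hV.fromSpec ⁻¹ᵁ X.basicOpen a := hmem
    rw [hV.fromSpec_preimage_basicOpen] at h4
    exact h4 (hIr (Ideal.mem_span_singleton_self a))
  have h5 := eq_of_specializes_of_coheight_one h2 hy1 h3
  have : r' = q := hV.fromSpec.isOpenEmbedding.injective (h5.trans hq.symm)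
  exact (congrArg PrimeSpectrum.asIdeal this).ge

theorem ord_eq_zero_of_reg {y : X} {φ : X.functionField} (hφ : φ ≠ 0) (h : CDiv6.Reg y φ)
    (h' : CDiv6.Reg y φ⁻¹) : Scheme.ord φ y = 0 := by
  have h1 := CDiv6.reg_ord_nonneg hφ h
  have h2 := CDiv6.reg_ord_nonneg (inv_ne_zero hφ) h'
  have h3 := Scheme.ord_mul (X := X) (x := y) hφ (inv_ne_zero hφ)
  rw [mul_inv_cancel₀ hφ] at h3
  have h4 := Scheme.ord_mul (X := X) (x := y) (one_ne_zero (α := X.functionField)) (one_ne_zero (α := X.functionField))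
  rw [mul_one] at h4
  omega

/-- Rational functions have finitely many zeros and poles on affine opens. -/
theorem finite_ord_ne_zero {V : X.Opens} (hV : IsAffineOpen V) {φ : X.functionField} (hφ : φ ≠ 0) :
    {y : X | y ∈ V ∧ Scheme.ord φ y ≠ 0}.Finite := by
  let W : X.Opens := ⟨{y | CDiv6.Reg y φ}, CDiv6.isOpen_reg φ⟩ ⊓ ⟨{y | CDiv6.Reg y φ⁻¹}, CDiv6.isOpen_reg φ⁻¹⟩
  refine (finite_codim_one_notMem hV (W := W) ⟨CDiv6.reg_genericPoint _, CDiv6.reg_genericPoint _⟩).subset ?_
  rintro y ⟨hyV, hy⟩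
  refine ⟨hyV, ?_, fun hyW => hy (ord_eq_zero_of_reg hφ hyW.1 hyW.2)⟩
  by_contra h1
  exact hy (Scheme.ord_eq_zero_of_coheight_neq_one h1 φ)

/-- The divisor of a rational section of a rank one module is locally finite. -/
theorem finite_ordF_ne_zero (hX : Pi1.IsNormalScheme X) {F : X.Modules} (hF : RefHull.IsRef1 F)
    {s : F.presheaf.stalk (genericPoint X)} (hs : s ≠ 0) {V : X.Opens} (hV : IsAffineOpen V) :
    {y : X | y ∈ V ∧ Order.coheight y = 1 ∧ ordF F s y ≠ 0}.Finite := by
  obtain ⟨U, hU, e, he⟩ := exists_frame_eta hF.2.2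
  obtain ⟨φ, hφ⟩ := (IsGen.of_frame he hU).2 s
  dsimp only at hφ
  have hφ0 : φ ≠ 0 := fun h0 => hs (by rw [← hφ, h0, zero_smul])
  refine ((finite_codim_one_notMem hV hU).union (finite_ord_ne_zero hV (φ := (φ : X.functionField)) hφ0)).subset ?_
  rintro y ⟨hyV, hy1, hy⟩
  by_cases hyU : y ∈ U
  · refine Or.inr ⟨hyV, ?_⟩
    rw [ordF_eq hF.1 hy1 (IsGen.of_frame he hyU) hφ0 (by rw [← hφ, sp_germ])] at hy
    exact hy
  · exact Or.inl ⟨hyV, hy1, hyU⟩

end Groth.Agent.Ref1X
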