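import Groth.Agent.H23.FinCondSch
import Groth.Agent.Ref1X.Finite
import Groth.Agent.CDiv6.Normal
import Groth.Agent.ValLib.DvrRat
import Groth.Agent.RegUFD.Basic
import Mathlib

/-!
# Sections extend over points of codimension one
-/

universe u

set_option backward.isDefEq.respectTransparency false
set_option backward.isDefEq.respectTransparency.types false
set_option linter.style.haveILetI false

open CategoryTheory CategoryTheory.Limits AlgebraicGeometry TopologicalSpace IsLocalRing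

namespace Groth.Agent.Ref1X

/-- A rational point over the generic point of a discrete valuation ring extends along a closed map. -/
theorem exists_lift_of_isClosedMap {X Y : Scheme.{u}} (f : X ⟶ Y) (hcl : IsClosedMap f) (y : Y)
    [IsDomain (Y.presheaf.stalk y)] [IsDiscreteValuationRing (Y.presheaf.stalk y)]
    (σ : Spec (CommRingCat.of (FractionRing (Y.presheaf.stalk y))) ⟶ X)
    (hσ : σ ≫ f = ValLib.genIncl (Y.presheaf.stalk y) ≫ Y.fromSpecStalk y) :
    ∃ l : Spec (Y.presheaf.stalk y) ⟶ X, l ≫ f = Y.fromSpecStalk y ∧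
      ValLib.genIncl (Y.presheaf.stalk y) ≫ l = σ := by
  let x₀ := σ (closedPoint (FractionRing (Y.presheaf.stalk y)))
  have hy : y ∈ f '' closure {x₀} := by
    refine (hcl _ isClosed_closure).closure_subset_iff (s := {f x₀}) |>.2 ?_ (specializes_iff_mem_closure.1 ?_)
    · rintro _ rfl
      exact ⟨x₀, subset_closure rfl, rfl⟩
    · have h1 : f x₀ = Y.fromSpecStalk y (ValLib.genIncl (Y.presheaf.stalk y) (closedPoint _)) := by
        show f (σ _) = _
        rw [← Scheme.Hom.comp_apply, hσ]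
        rfl
      rw [h1]
      have h2 := (specializes_closedPoint (ValLib.genIncl (Y.presheaf.stalk y) (closedPoint (FractionRing (Y.presheaf.stalk y))))).map
        (Y.fromSpecStalk y).continuous
      rwa [Scheme.fromSpecStalk_closedPoint] at h2
  obtain ⟨x', hx', rfl⟩ := hy
  have hsp : x₀ ⤳ x' := specializes_iff_mem_closure.2 hx'
  let ψ : X.presheaf.stalk x' ⟶ CommRingCat.of (FractionRing (Y.presheaf.stalk (f x'))) :=
    X.presheaf.stalkSpecializes hsp ≫ Scheme.stalkClosedPointTo σ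
  have hψσ : Spec.map ψ ≫ X.fromSpecStalk x' = σ := by
    simp only [ψ, Spec.map_comp, Category.assoc, Scheme.SpecMap_stalkSpecializes_fromSpecStalk]
    exact Scheme.Spec_stalkClosedPointTo_fromSpecStalk σ
  have hcomp : f.stalkMap x' ≫ ψ =
      CommRingCat.ofHom (algebraMap (Y.presheaf.stalk (f x')) (FractionRing (Y.presheaf.stalk (f x')))) := by
    apply Spec.map_injective
    rw [← cancel_mono (Y.fromSpecStalk (f x')), Spec.map_comp, Category.assoc,
      Scheme.SpecMap_stalkMap_fromSpecStalk, reassoc_of% hψσ]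
    exact hσ
  have hc : ∀ c, ψ.hom (f.stalkMap x' c) = algebraMap _ (FractionRing (Y.presheaf.stalk (f x'))) c :=
    fun c => congr($(hcomp) c)
  have hrange : ∀ b, ∃ c : Y.presheaf.stalk (f x'), algebraMap _ (FractionRing (Y.presheaf.stalk (f x'))) c = ψ.hom b := by
    intro b
    rcases ValuationRing.isInteger_or_isInteger (Y.presheaf.stalk (f x')) (ψ.hom b) with h | ⟨c, hc'⟩
    · exact h
    by_cases hu : IsUnit c
    · obtain ⟨u, rfl⟩ := hu
      exact ⟨(u⁻¹ : (Y.presheaf.stalk (f x'))ˣ), by rw [map_units_inv, hc', inv_inv]⟩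
    by_cases hb : ψ.hom b = 0
    · exact ⟨0, by rw [map_zero, hb]⟩
    exfalso
    have hm : f.stalkMap x' c ∈ maximalIdeal (X.presheaf.stalk x') := by
      rw [mem_maximalIdeal, mem_nonunits_iff]
      exact fun h => hu (IsUnit.of_map (f.stalkMap x').hom c h)
    have hunit : IsUnit (1 - b * f.stalkMap x' c) := by
      refine IsLocalRing.isUnit_one_sub_self_of_mem_nonunits _ ?_
      exact Ideal.mul_mem_left _ b hm
    have h0 : ψ.hom (1 - b * f.stalkMap x' c) = 0 := by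
      rw [map_sub, map_one, map_mul, hc, hc', mul_inv_cancel₀ hb, sub_self]
    exact (hunit.map ψ.hom).ne_zero h0
  choose φ hφ using hrange
  have hinj := IsFractionRing.injective (Y.presheaf.stalk (f x')) (FractionRing (Y.presheaf.stalk (f x')))
  let φ' : X.presheaf.stalk x' ⟶ Y.presheaf.stalk (f x') := CommRingCat.ofHom
    { toFun := φ
      map_one' := hinj (by rw [hφ, map_one, map_one])
      map_mul' := fun a b => hinj (by rw [hφ, map_mul, map_mul, hφ, hφ])
      map_zero' := hinj (by rw [hφ, map_zero, map_zero])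
      map_add' := fun a b => hinj (by rw [hφ, map_add, map_add, hφ, hφ]) }
  have hid : f.stalkMap x' ≫ φ' = 𝟙 _ := by
    ext c
    exact hinj ((hφ _).trans (hc c))
  have hψ : φ' ≫ CommRingCat.ofHom (algebraMap (Y.presheaf.stalk (f x')) (FractionRing (Y.presheaf.stalk (f x')))) = ψ := by
    ext b
    exact hφ b
  refine ⟨Spec.map φ' ≫ X.fromSpecStalk x', ?_, ?_⟩
  · rw [Category.assoc, ← Scheme.SpecMap_stalkMap_fromSpecStalk, ← Category.assoc, ← Spec.map_comp, hid,
      Spec.map_id, Category.id_comp]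
  · rw [← Category.assoc, ← Spec.map_comp, hψ, hψσ]

/-- Morphisms agreeing on the overlaps with an open glue. -/
theorem exists_glue {X Y : Scheme.{u}} {ι : Type u} (W : ι → Y.Opens) (g : ∀ i, (W i : Scheme.{u}) ⟶ X)
    (h : ∀ i j, Y.homOfLE (inf_le_left : W i ⊓ W j ≤ W i) ≫ g i = Y.homOfLE (inf_le_right : W i ⊓ W j ≤ W j) ≫ g j) :
    ∃ G : ((⨆ i, W i : Y.Opens) : Scheme.{u}) ⟶ X, ∀ i, Y.homOfLE (le_iSup W i) ≫ G = g i := by
  let 𝒰 := Scheme.Opens.iSupOpenCover W
  refine ⟨𝒰.glueMorphisms g fun i j => ?_, fun i => 𝒰.ι_glueMorphisms _ _ i⟩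
  have hcond : pullback.fst (𝒰.f i) (𝒰.f j) ≫ (W i).ι = pullback.snd (𝒰.f i) (𝒰.f j) ≫ (W j).ι := by
    have h' := congrArg (· ≫ (⨆ i, W i : Y.Opens).ι) (pullback.condition (f := 𝒰.f i) (g := 𝒰.f j))
    simp only [Category.assoc] at h'
    have hf : ∀ k, 𝒰.f k ≫ (⨆ i, W i : Y.Opens).ι = (W k).ι := fun k => Y.homOfLE_ι (le_iSup W k)
    rw [hf, hf] at h'
    exact h'
  have hr : Set.range (pullback.fst (𝒰.f i) (𝒰.f j) ≫ (W i).ι) ⊆ Set.range (W i ⊓ W j).ι := by
    rw [Scheme.Opens.range_ι]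
    rintro _ ⟨p, rfl⟩
    refine ⟨(pullback.fst (𝒰.f i) (𝒰.f j) p).2, ?_⟩
    rw [hcond]
    exact (pullback.snd (𝒰.f i) (𝒰.f j) p).2
  let l := IsOpenImmersion.lift (W i ⊓ W j).ι _ hr
  have hl : l ≫ (W i ⊓ W j).ι = _ := IsOpenImmersion.lift_fac _ _ hr
  have h1 : l ≫ Y.homOfLE inf_le_left = pullback.fst (𝒰.f i) (𝒰.f j) := by
    rw [← cancel_mono (W i).ι, Category.assoc, Scheme.homOfLE_ι, hl]
  have h2 : l ≫ Y.homOfLE inf_le_right = pullback.snd (𝒰.f i) (𝒰.f j) := by
    rw [← cancel_mono (W j).ι, Category.assoc, Scheme.homOfLE_ι, hl, hcond]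
  rw [← h1, ← h2, Category.assoc, Category.assoc, h i j]

variable {X Y : Scheme.{u}} [IsLocallyNoetherian Y] [IsReduced Y]

theorem isDominant_homOfLE (V W : Y.Opens) (hV : Dense (V : Set Y)) :
    IsDominant (Y.homOfLE (inf_le_left : W ⊓ V ≤ W)) := by
  refine ⟨fun x => mem_closure_iff.2 fun o ho hxo => ?_⟩
  have ho' : IsOpen (W.ι '' o) := W.ι.isOpenEmbedding.isOpenMap o ho
  obtain ⟨z, ⟨w, hwo, hwz⟩, hzV⟩ := hV.inter_open_nonempty _ ho' ⟨_, x, hxo, rfl⟩
  subst hwz
  refine ⟨w, hwo, ⟨⟨w.1, ⟨w.2, hzV⟩⟩, ?_⟩⟩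
  exact Subtype.ext (Scheme.homOfLE_apply _ _)

/-- Sections over a dense open extend near points of codimension at most one. -/
theorem exists_section_nhd (f : X ⟶ Y) [IsSeparated f] [LocallyOfFiniteType f] (hcl : IsClosedMap f)
    (hreg : ∀ y : Y, ringKrullDim (Y.presheaf.stalk y) ≤ 1 → IsRegularLocalRing (Y.presheaf.stalk y))
    (V : Y.Opens) (hV : Dense (V : Set Y)) (s : (V : Scheme.{u}) ⟶ X) (hs : s ≫ f = V.ι)
    (y : Y) (hy : ringKrullDim (Y.presheaf.stalk y) ≤ 1) :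
    ∃ (W : Y.Opens) (g : (W : Scheme.{u}) ⟶ X), y ∈ W ∧ g ≫ f = W.ι ∧
      Y.homOfLE (inf_le_left : W ⊓ V ≤ W) ≫ g = Y.homOfLE (inf_le_right : W ⊓ V ≤ V) ≫ s := by
  by_cases hyV : y ∈ V
  · exact ⟨V, s, hyV, hs, rfl⟩
  haveI := hreg y hy
  obtain ⟨_, _⟩ := RegUFD.ufd (Y.presheaf.stalk y)
  obtain ⟨W, hyW, hW⟩ := H23.FinCondSch.exists_irreducible_nhd y (by
    rw [nilradical_eq_zero]; exact Ideal.isPrime_bot)
  haveI : IrreducibleSpace (W : Set Y) := Subtype.irreducibleSpace hW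
  obtain ⟨η, hη⟩ := QuasiSober.sober hW.closure isClosed_closure
  have hηgen : ∀ z, z ∈ W → η ⤳ z := fun z hz => specializes_iff_mem_closure.2 (hη.symm ▸ subset_closure hz)
  have hηW : η ∈ W := by
    obtain ⟨z, hz1, hz2⟩ := mem_closure_iff.1 (hη ▸ subset_closure (Set.mem_singleton η) : η ∈ closure (W : Set Y))
      (Set.univ) isOpen_univ trivial
    by_contra h
    exact h ((hηgen z hz2).mem_open W.isOpen hz2)
  have hηV : η ∈ V := by
    obtain ⟨z, hzW, hzV⟩ := hV.inter_open_nonempty _ W.isOpen ⟨y, hyW⟩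
    exact (hηgen z hzW).mem_open V.isOpen hzV
  have hne : η ≠ y := fun h => hyV (h ▸ hηV)
  have hdim : ringKrullDim (Y.presheaf.stalk y) = 1 := by
    refine le_antisymm hy ?_
    have h1 := coheight_add_one_le (hηgen y hyW) hne
    rw [ringKrullDim_stalk_eq_coheight]
    exact WithBot.coe_le_coe.2 (le_add_self.trans h1)
  haveI : IsIntegrallyClosed (Y.presheaf.stalk y) := inferInstance
  haveI := CDiv6.isDVR_of_dim_eq_one (Y.presheaf.stalk y) hdim
  let R := Y.presheaf.stalk y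
  let q := (ValLib.genIncl R ≫ Y.fromSpecStalk y) (closedPoint (FractionRing R))
  have hqy : q ⤳ y := by
    have h2 := (specializes_closedPoint (ValLib.genIncl R (closedPoint (FractionRing R)))).map (Y.fromSpecStalk y).continuous
    rwa [Scheme.fromSpecStalk_closedPoint] at h2
  have hqW : q ∈ W := hqy.mem_open W.isOpen hyW
  have hqη : q = η := by
    obtain ⟨p, hp⟩ : η ∈ Set.range (Y.fromSpecStalk y) := by
      rw [Scheme.range_fromSpecStalk]; exact hηgen y hyW
    refine ((?_ : q ⤳ η).antisymm (hηgen q hqW)).eq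
    rw [← hp]
    show Y.fromSpecStalk y (ValLib.genIncl R (closedPoint (FractionRing R))) ⤳ Y.fromSpecStalk y p
    refine Specializes.map ?_ (Y.fromSpecStalk y).continuous
    exact (specializes_of_eq (ValLib.genIncl_apply R)).trans (genericPoint_specializes p)
  have hrange : Set.range (ValLib.genIncl R ≫ Y.fromSpecStalk y) ⊆ Set.range V.ι := by
    rw [Scheme.Opens.range_ι]
    rintro _ ⟨p, rfl⟩
    rw [Subsingleton.elim p (closedPoint (FractionRing R))]
    show q ∈ V
    rw [hqη]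
    exact hηV
  let σV := IsOpenImmersion.lift V.ι (ValLib.genIncl R ≫ Y.fromSpecStalk y) hrange
  have hσV : σV ≫ V.ι = ValLib.genIncl R ≫ Y.fromSpecStalk y := IsOpenImmersion.lift_fac _ _ hrange
  obtain ⟨l, hl1, hl2⟩ := exists_lift_of_isClosedMap f hcl y (σV ≫ s) (by rw [Category.assoc, hs, hσV])
  obtain ⟨U, hyU, g, hgl, hg⟩ := spread_out_of_isGermInjective' (𝟙 Y) f (x := y) l (by rw [hl1, Category.comp_id])
  rw [Category.comp_id] at hg
  refine ⟨U ⊓ W, Y.homOfLE inf_le_left ≫ g, ⟨hyU, hyW⟩, by rw [Category.assoc, hg, Scheme.homOfLE_ι], ?_⟩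
  have hηU : η ∈ U := (hηgen y hyW).mem_open U.isOpen hyU
  let T := (U ⊓ W) ⊓ V
  have hrT : Set.range (ValLib.genIncl R ≫ Y.fromSpecStalk y) ⊆ Set.range T.ι := by
    rw [Scheme.Opens.range_ι]
    rintro _ ⟨p, rfl⟩
    rw [Subsingleton.elim p (closedPoint (FractionRing R))]
    show q ∈ T
    rw [hqη]
    exact ⟨⟨hηU, hηW⟩, hηV⟩
  let τ := IsOpenImmersion.lift T.ι (ValLib.genIncl R ≫ Y.fromSpecStalk y) hrT
  have hτ : τ ≫ T.ι = ValLib.genIncl R ≫ Y.fromSpecStalk y := IsOpenImmersion.lift_fac _ _ hrT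
  haveI : IsDominant τ := by
    refine ⟨fun z => mem_closure_iff.2 fun o ho hzo => ?_⟩
    refine ⟨τ (closedPoint (FractionRing R)), ?_, ⟨_, rfl⟩⟩
    refine Specializes.mem_open ?_ ho hzo
    rw [T.ι.isOpenEmbedding.isInducing.specializes_iff.symm, ← Scheme.Hom.comp_apply, hτ]
    show q ⤳ _
    rw [hqη]
    exact hηgen _ z.2.1.2
  haveI : IsReduced (T : Scheme.{u}) := isReduced_of_isOpenImmersion T.ι
  refine ext_of_isDominant_of_isSeparated f ?_ τ ?_
  · simp only [Category.assoc, hg, hs, Scheme.homOfLE_ι]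
  · have e1 : τ ≫ Y.homOfLE (inf_le_left.trans inf_le_left : T ≤ U) =
        ValLib.genIncl R ≫ U.fromSpecStalkOfMem y hyU := by
      rw [← cancel_mono U.ι, Category.assoc, Category.assoc, Scheme.homOfLE_ι, hτ,
        Scheme.Opens.fromSpecStalkOfMem_ι]
    have e2 : τ ≫ Y.homOfLE (inf_le_right : T ≤ V) = σV := by
      rw [← cancel_mono V.ι, Category.assoc, Scheme.homOfLE_ι, hτ, hσV]
    rw [← Category.assoc (f := Y.homOfLE _) (g := Y.homOfLE inf_le_left) (h := g), Scheme.homOfLE_homOfLE,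
      ← Category.assoc, e1, ← Category.assoc, e2, Category.assoc, ← hgl, hl2]

/-- Sections over a dense open extend over all points of codimension at most one. -/
theorem exists_section_extend (f : X ⟶ Y) [IsSeparated f] [LocallyOfFiniteType f] (hcl : IsClosedMap f)
    (hreg : ∀ y : Y, ringKrullDim (Y.presheaf.stalk y) ≤ 1 → IsRegularLocalRing (Y.presheaf.stalk y))
    (V : Y.Opens) (hV : Dense (V : Set Y)) (s : (V : Scheme.{u}) ⟶ X) (hs : s ≫ f = V.ι) :
    ∃ (U : Y.Opens) (hVU : V ≤ U) (s' : (U : Scheme.{u}) ⟶ X), s' ≫ f = U.ι ∧ Y.homOfLE hVU ≫ s' = s ∧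
      ∀ y : Y, ringKrullDim (Y.presheaf.stalk y) ≤ 1 → y ∈ U := by
  choose W g hyW hg hgV using fun y : {y : Y // ringKrullDim (Y.presheaf.stalk y) ≤ 1} =>
    exists_section_nhd f hcl hreg V hV s hs y.1 y.2
  let W' : Option {y : Y // ringKrullDim (Y.presheaf.stalk y) ≤ 1} → Y.Opens := fun o => o.elim V W
  let g' : ∀ o, (W' o : Scheme.{u}) ⟶ X := fun o => match o with
    | none => s
    | some i => g i
  have hg' : ∀ o, g' o ≫ f = (W' o).ι := fun o => match o with
    | none => hs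
    | some i => hg i
  have hgV' : ∀ o, Y.homOfLE (inf_le_left : W' o ⊓ V ≤ W' o) ≫ g' o = Y.homOfLE (inf_le_right : W' o ⊓ V ≤ V) ≫ s :=
    fun o => match o with
    | none => rfl
    | some i => hgV i
  have key : ∀ o {T : Y.Opens} (h₁ : T ≤ W' o) (h₂ : T ≤ V), Y.homOfLE h₁ ≫ g' o = Y.homOfLE h₂ ≫ s := by
    intro o T h₁ h₂
    rw [← Scheme.homOfLE_homOfLE Y (le_inf h₁ h₂) inf_le_left, Category.assoc, hgV', ← Category.assoc,
      Scheme.homOfLE_homOfLE]
  obtain ⟨G, hG⟩ := exists_glue W' g' fun i j => by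
    haveI : IsReduced ((W' i ⊓ W' j : Y.Opens) : Scheme.{u}) := isReduced_of_isOpenImmersion (W' i ⊓ W' j).ι
    haveI := isDominant_homOfLE V (W' i ⊓ W' j) hV
    refine ext_of_isDominant_of_isSeparated f (by simp only [Category.assoc, hg', Scheme.homOfLE_ι])
      (Y.homOfLE (inf_le_left : (W' i ⊓ W' j) ⊓ V ≤ W' i ⊓ W' j)) ?_
    rw [← Category.assoc, ← Category.assoc, Scheme.homOfLE_homOfLE, Scheme.homOfLE_homOfLE,
      key i _ inf_le_right, key j _ inf_le_right]
  refine ⟨⨆ o, W' o, le_iSup W' none, G, ?_, hG none, fun y hy => Opens.mem_iSup.2 ⟨some ⟨y, hy⟩, hyW _⟩⟩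
  refine (Scheme.Opens.iSupOpenCover W').hom_ext _ _ fun o => ?_
  show Y.homOfLE (le_iSup W' o) ≫ _ = Y.homOfLE (le_iSup W' o) ≫ _
  rw [← Category.assoc, hG, hg', Scheme.homOfLE_ι]

end Groth.Agent.Ref1X
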