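import Groth.Agent.Ref1X.Base
import Groth.Agent.CDiv6.Normal
import Groth.Agent.InvUfdLib.Extend
import Groth.Prelude.Def_C1

/-!
# Modules of rank one on integral schemes: the generic stalk and points of codimension one
-/

universe u

set_option backward.isDefEq.respectTransparency false
set_option backward.isDefEq.respectTransparency.types false
set_option linter.style.haveILetI false

open CategoryTheory AlgebraicGeometry TopologicalSpace Opposite

namespace Groth.Agent.Ref1X

variable {X : Scheme.{u}} [IsIntegral X] {F G : X.Modules}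

/-- Every point is a specialization of the generic point. -/
theorem eta_le (x : X) : genericPoint X ⤳ x := (genericPoint_spec X).specializes (Set.mem_univ x)

theorem eta_mem {U : X.Opens} {x : X} (hx : x ∈ U) : genericPoint X ∈ U := (eta_le x).mem_open U.isOpen hx

/-- The map to the generic stalk. -/
noncomputable abbrev gsp (M : X.Modules) (x : X) :
    M.presheaf.stalk x →+ M.presheaf.stalk (genericPoint X) := sp M (eta_le x)

theorem spR_eq_algebraMap (x : X) (a : X.presheaf.stalk x) :
    spR X (eta_le x) a = algebraMap (X.presheaf.stalk x) X.functionField a := rfl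

theorem spR_injective (x : X) : Function.Injective (spR X (eta_le x)) :=
  IsFractionRing.injective (X.presheaf.stalk x) X.functionField

theorem isField_stalk_eta : IsField (X.presheaf.stalk (genericPoint X)) := Field.toIsField X.functionField

theorem maximalIdeal_eta : IsLocalRing.maximalIdeal (X.presheaf.stalk (genericPoint X)) = ⊥ := by
  letI : Field (X.presheaf.stalk (genericPoint X)) := inferInstanceAs (Field X.functionField)
  exact IsLocalRing.maximalIdeal_eq_bot

theorem unit_gsp_injective (x : X) : Function.Injective (gsp (Coh.structureModule X) x) := by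
  refine (injective_iff_map_eq_zero _).2 fun v hv => ?_
  obtain ⟨c, rfl⟩ := (RefX.unitStalk x).surjective v
  have h1 : IsGen (M := Coh.structureModule X) (RefX.unitStalk (genericPoint X) 1) := by
    have : (RefX.unitStalk (genericPoint X)).toFun 1 = RefX.unitStalk (genericPoint X) 1 := rfl
    refine (congrArg Function.Bijective (funext fun c => ?_)).mpr (RefX.unitStalk (genericPoint X)).bijective
    rw [← map_smul, smul_eq_mul, mul_one]
  have h2 : gsp (Coh.structureModule X) x (RefX.unitStalk x 1) = RefX.unitStalk (genericPoint X) 1 := by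
    show gsp _ x ((1 : X.presheaf.stalk x) • _) = (1 : X.presheaf.stalk (genericPoint X)) • _
    rw [one_smul, one_smul]
    exact sp_germ (M := Coh.structureModule X) (eta_le x) (U := ⊤) trivial _
  rw [show c = c • (1 : X.presheaf.stalk x) from (mul_one c).symm, map_smul, sp_smul, h2] at hv
  have h3 : spR X (eta_le x) c = 0 := h1.1 (hv.trans (zero_smul _ _).symm)
  rw [spR_injective x (h3.trans (map_zero _).symm), map_zero]

variable [IsLocallyNoetherian X]

theorem bidualAt_bijective (hF : Coh.IsCoh F) (hr : RefHull.IsReflexive F) (x : X) :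
    Function.Bijective (RefHull.bidualAt F x) :=
  (RefX.bidualAt_bijective_iff (QCoh.isCoh_iff_isFP.1 hF) x).2 ((RefX.isReflexive_iff hF).1 hr x)

/-- A reflexive module embeds in its generic stalk. -/
theorem gsp_injective (hF : Coh.IsCoh F) (hr : RefHull.IsReflexive F) (x : X) :
    Function.Injective (gsp F x) := by
  refine (injective_iff_map_eq_zero _).2 fun v hv => (bidualAt_bijective hF hr x).1 ?_
  rw [map_zero]
  refine LinearMap.ext fun θ => unit_gsp_injective x ?_
  rw [RefHull.bidualAt_apply, sp_eval, LinearMap.zero_apply, map_zero]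
  exact (congrArg _ hv).trans (map_zero _)

/-- The generic stalk consists of fractions of a stalk. -/
theorem exists_smul_eq_gsp (hF : Coh.IsQCoh F) (x : X) (v : F.presheaf.stalk (genericPoint X)) :
    ∃ a : X.presheaf.stalk x, a ≠ 0 ∧ ∃ m : F.presheaf.stalk x, spR X (eta_le x) a • v = gsp F x m := by
  obtain ⟨_, ⟨U, hU, rfl⟩, hxU, -⟩ :=
    X.isBasis_affineOpens.exists_subset_of_mem_open (Set.mem_univ x) isOpen_univ
  have hη : genericPoint X ∈ U := eta_mem hxU
  letI := QCoh.stalkModule F hη
  haveI := QCoh.isLocalizedModule_germLin hF hU hη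
  obtain ⟨⟨m, s⟩, hms⟩ := IsLocalizedModule.surj
    ((IsAffineOpen.primeIdealOf hU ⟨_, hη⟩).asIdeal.primeCompl) (QCoh.germLin F hη) v
  have hs := (X.mem_basicOpen _ _ hη).1 ((QCoh.mem_basicOpen_iff_notMem hU hη s.1).2 s.2)
  refine ⟨X.presheaf.germ U x hxU s.1, fun h0 => ?_, F.presheaf.germ U x hxU m, ?_⟩
  · refine hs.ne_zero ?_
    rw [← spR_germ (eta_le x) hxU, h0, map_zero]
  · rw [spR_germ, sp_germ]
    exact hms

/-- Rank one: a frame at the generic point. -/
theorem exists_frame_eta (h : RefHull.GenInvertible F) :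
    ∃ (U : X.Opens) (_ : genericPoint X ∈ U) (e : Γ(F, U)), InvX.IsFrame e := by
  obtain ⟨U, hd, hinv⟩ := h
  obtain ⟨x, hx⟩ := hd.nonempty
  obtain ⟨W, hW, e, he⟩ := InvX.exists_frame hinv (⟨genericPoint X, eta_mem (U := U) hx⟩ : (U : Scheme.{u}))
  exact ⟨U.ι ''ᵁ W, ⟨_, hW, rfl⟩, e, InvUfdLib.isFrame_of_restrict U.ι he⟩

theorem genInvertible_of_frame {U : X.Opens} (hU : genericPoint X ∈ U) {e : Γ(F, U)} (he : InvX.IsFrame e) :
    RefHull.GenInvertible F := by
  refine ⟨U, dense_iff_inter_open.2 fun V hV ⟨v, hv⟩ => ⟨genericPoint X, (eta_le v).mem_open hV hv, hU⟩,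
    InvX.isInvertible_of_frames fun z => ?_⟩
  have hle : U.ι ''ᵁ ⊤ ≤ U := U.ι_image_top.le
  exact ⟨⊤, trivial, AModX.res F hle e, InvUfdLib.isFrame_restrict U.ι (he.res hle)⟩

theorem exists_gen_eta (h : RefHull.GenInvertible F) :
    ∃ g : F.presheaf.stalk (genericPoint X), IsGen g := by
  obtain ⟨U, hU, e, he⟩ := exists_frame_eta h
  exact ⟨_, IsGen.of_frame he hU⟩

theorem one_dim {g : F.presheaf.stalk (genericPoint X)} (hg : IsGen g) {v : F.presheaf.stalk (genericPoint X)}
    (hv : v ≠ 0) : IsGen v := by
  obtain ⟨c, rfl⟩ := hg.2 v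
  dsimp only at hv ⊢
  have hc : c ≠ 0 := fun h0 => hv (by rw [h0, zero_smul])
  have hu : IsUnit c := isUnit_iff_ne_zero (G₀ := X.functionField).2 hc
  have h : (fun a : X.presheaf.stalk (genericPoint X) => a • c • g) = (fun a => a • g) ∘ (fun a => a * c) :=
    funext fun a => (mul_smul a c g).symm
  refine (congrArg Function.Bijective h).mpr (hg.comp ⟨fun a b hab => hu.mul_right_cancel hab, fun b => ?_⟩)
  obtain ⟨u, rfl⟩ := hu
  exact ⟨b * ↑u⁻¹, by simp [mul_assoc]⟩

/-- Rank one coherent reflexive modules on normal schemes are free in codimension one. -/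
theorem exists_gen_of_coheight_one (hX : Pi1.IsNormalScheme X) (hF : RefHull.IsRef1 F) {x : X}
    (hx : Order.coheight x = 1) : ∃ t : F.presheaf.stalk x, IsGen t := by
  haveI := CDiv6.isDVR_of_coheight_one hX hx
  obtain ⟨g, hg⟩ := exists_gen_eta hF.2.2
  haveI := QCoh.finite_stalk_of_isFT hF.1.1 hF.1.2 x
  have hinj := gsp_injective hF.1 hF.2.1 x
  haveI : Module.IsTorsionFree (X.presheaf.stalk x) (F.presheaf.stalk x) := by
    refine Module.IsTorsionFree.mk fun a ha m m' hmm => hinj ?_
    have h1 := congrArg (gsp F x) hmm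
    dsimp only at h1
    rw [sp_smul, sp_smul] at h1
    have hu : IsUnit (spR X (eta_le x) a) := isUnit_iff_ne_zero (G₀ := X.functionField).2 fun h0 =>
      ha.ne_zero (spR_injective x (h0.trans (map_zero _).symm))
    exact hu.smul_left_cancel.1 h1
  obtain ⟨n, b⟩ := Module.basisOfFiniteTypeTorsionFree' (R := X.presheaf.stalk x) (M := F.presheaf.stalk x)
  obtain rfl : n = 1 := by
    rcases Nat.lt_trichotomy n 1 with hn | hn | hn
    · obtain rfl : n = 0 := by omega
      exfalso
      obtain ⟨a, ha, m, hm⟩ := exists_smul_eq_gsp hF.1.1 x g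
      have hm0 : m = 0 := by
        haveI : Subsingleton (F.presheaf.stalk x) := b.repr.toEquiv.subsingleton
        exact Subsingleton.elim _ _
      rw [hm0, map_zero] at hm
      exact ha (spR_injective x ((hg.1 (hm.trans (zero_smul _ g).symm)).trans (map_zero _).symm))
    · exact hn
    · exfalso
      obtain ⟨i, j, hij⟩ : ∃ i j : Fin n, i ≠ j := ⟨⟨0, by omega⟩, ⟨1, hn⟩, by simp⟩
      obtain ⟨c, hc⟩ := hg.2 (gsp F x (b i))
      obtain ⟨d, hd⟩ := hg.2 (gsp F x (b j))
      obtain ⟨p, q, hq, hcq⟩ := IsFractionRing.div_surjective (A := X.presheaf.stalk x) (K := X.functionField) c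
      obtain ⟨p', q', hq', hdq⟩ := IsFractionRing.div_surjective (A := X.presheaf.stalk x) (K := X.functionField) d
      dsimp only at hc hd
      have hq0 : algebraMap (X.presheaf.stalk x) X.functionField q ≠ 0 := IsFractionRing.to_map_ne_zero_of_mem_nonZeroDivisors hq
      have hq0' : algebraMap (X.presheaf.stalk x) X.functionField q' ≠ 0 := IsFractionRing.to_map_ne_zero_of_mem_nonZeroDivisors hq'
      have hrel : (q * p') • b i = (q' * p) • b j := hinj (by
        rw [sp_smul, sp_smul, ← hc, ← hd, ← mul_smul, ← mul_smul]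
        refine congrArg (· • g) ?_
        rw [map_mul, map_mul, ← hcq, ← hdq]
        simp only [spR_eq_algebraMap]
        field_simp)
      have h1 := congrArg (fun v => b.repr v i) hrel
      simp only [map_smul, Finsupp.smul_apply, b.repr_self, Finsupp.single_eq_same, smul_eq_mul, mul_one,
        Finsupp.single_eq_of_ne hij.symm, Finsupp.single_eq_of_ne hij, mul_zero] at h1
      have hp' : p' = 0 := (mul_eq_zero.1 h1).resolve_left (nonZeroDivisors.ne_zero hq)
      rw [hp', map_zero, zero_div] at hdq
      rw [← hdq, zero_smul] at hd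
      exact b.ne_zero j (hinj (hd.symm.trans (map_zero _).symm))
  refine ⟨b 0, fun c c' h => ?_, fun v => ⟨b.repr v 0, ?_⟩⟩
  · have := congrArg (fun v => b.repr v 0) h
    simpa using this
  · conv_rhs => rw [← b.sum_repr v]
    simp

end Groth.Agent.Ref1X
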