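import Groth.Agent.RefX.Reflexive
import Groth.Agent.InvX.Tensor
import Groth.Agent.QCoh.Stalk

/-!
# Specialization of stalks of modules, generators of stalks and frames
-/

universe u

set_option backward.isDefEq.respectTransparency false
set_option backward.isDefEq.respectTransparency.types false
set_option linter.style.haveILetI false

open CategoryTheory AlgebraicGeometry TopologicalSpace Opposite

namespace Groth.Agent.Ref1X

variable {X : Scheme.{u}} {M N : X.Modules}

/-- Specialization of stalks. -/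
noncomputable abbrev sp (M : X.Modules) {x y : X} (h : y ⤳ x) : M.presheaf.stalk x →+ M.presheaf.stalk y :=
  (M.presheaf.stalkSpecializes h).hom

/-- Specialization of local rings. -/
noncomputable abbrev spR (X : Scheme.{u}) {x y : X} (h : y ⤳ x) : X.presheaf.stalk x →+* X.presheaf.stalk y :=
  (X.presheaf.stalkSpecializes h).hom

theorem sp_germ {x y : X} (h : y ⤳ x) {U : X.Opens} (hx : x ∈ U) (m : Γ(M, U)) :
    sp M h (M.presheaf.germ U x hx m) = M.presheaf.germ U y (h.mem_open U.isOpen hx) m :=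
  TopCat.Presheaf.germ_stalkSpecializes_apply M.presheaf hx h m

theorem spR_germ {x y : X} (h : y ⤳ x) {U : X.Opens} (hx : x ∈ U) (r : Γ(X, U)) :
    spR X h (X.presheaf.germ U x hx r) = X.presheaf.germ U y (h.mem_open U.isOpen hx) r :=
  TopCat.Presheaf.germ_stalkSpecializes_apply X.presheaf hx h r

theorem sp_smul {x y : X} (h : y ⤳ x) (a : X.presheaf.stalk x) (m : M.presheaf.stalk x) :
    sp M h (a • m) = spR X h a • sp M h m := by
  obtain ⟨U, hU, b, rfl⟩ := X.presheaf.exists_germ_eq (x := x) a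
  obtain ⟨V, hV, v, rfl⟩ := M.presheaf.germ_exist m
  have hW : x ∈ U ⊓ V := ⟨hU, hV⟩
  rw [← X.presheaf.germ_res_apply (homOfLE inf_le_left : U ⊓ V ⟶ U) x hW b,
    ← M.presheaf.germ_res_apply (homOfLE inf_le_right : U ⊓ V ⟶ V) x hW v, ← QCoh.germ_smul', sp_germ,
    QCoh.germ_smul']
  exact congrArg₂ (fun p q => p • q) (spR_germ h hW _).symm (sp_germ h hW _).symm

theorem sp_stalkMap (φ : M ⟶ N) {x y : X} (h : y ⤳ x) (m : M.presheaf.stalk x) :
    sp N h (RefHull.stalkMapₗ φ x m) = RefHull.stalkMapₗ φ y (sp M h m) := by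
  obtain ⟨U, hU, v, rfl⟩ := M.presheaf.germ_exist m
  rw [RefHull.stalkMapₗ_germ, sp_germ, sp_germ, RefHull.stalkMapₗ_germ]

theorem sp_eval {F G : X.Modules} {x y : X} (h : y ⤳ x) (θ : (RefHull.homSh F G).presheaf.stalk x)
    (m : F.presheaf.stalk x) :
    sp G h (RefHull.evalStalk F G x θ m) = RefHull.evalStalk F G y (sp _ h θ) (sp F h m) := by
  obtain ⟨U, hU, g, rfl⟩ := (RefHull.homSh F G).presheaf.germ_exist θ
  obtain ⟨V, hV, v, rfl⟩ := F.presheaf.germ_exist m
  have hW : x ∈ V ⊓ U := ⟨hV, hU⟩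
  rw [sp_germ, RefHull.evalStalk_germ, RefHull.evalStalk_germ,
    ← F.presheaf.germ_res_apply (homOfLE inf_le_left : V ⊓ U ⟶ V) x hW v]
  obtain ⟨W, hxW, j, n, hn⟩ := RefHull.isLocSect_of_mem g (V ⊓ U) (homOfLE inf_le_right)
    (F.presheaf.map (homOfLE inf_le_left).op v) ⟨x, hW⟩
  rw [hn ⟨x, hxW⟩, sp_germ, sp_germ]
  exact (hn ⟨y, h.mem_open W.isOpen hxW⟩).symm

/-- A free generator of a stalk. -/
def IsGen {x : X} (t : M.presheaf.stalk x) : Prop :=
  Function.Bijective fun c : X.presheaf.stalk x => c • t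

theorem IsGen.of_frame {U : X.Opens} {e : Γ(M, U)} (he : InvX.IsFrame e) {x : X} (hx : x ∈ U) :
    IsGen (M.presheaf.germ U x hx e) := he.germ_bijective hx

theorem IsGen.map {x : X} {t : M.presheaf.stalk x} (ht : IsGen t) (φ : M ⟶ N)
    (hφ : Function.Bijective (RefHull.stalkMapₗ φ x)) : IsGen (RefHull.stalkMapₗ φ x t) := by
  have h : (fun c : X.presheaf.stalk x => c • RefHull.stalkMapₗ φ x t) =
      RefHull.stalkMapₗ φ x ∘ (fun c : X.presheaf.stalk x => c • t) :=
    funext fun c => (map_smul (RefHull.stalkMapₗ φ x) c t).symm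
  exact (congrArg Function.Bijective h).mpr (hφ.comp ht)

theorem IsGen.span {x : X} {t : M.presheaf.stalk x} (ht : IsGen t) :
    Submodule.span (X.presheaf.stalk x) {t} = ⊤ :=
  eq_top_iff.2 fun m _ => Submodule.mem_span_singleton.2 (ht.2 m)

theorem IsGen.of_span {x : X} {t t' : M.presheaf.stalk x} (ht : IsGen t)
    (h : Submodule.span (X.presheaf.stalk x) {t'} = ⊤) : ∃ u : (X.presheaf.stalk x)ˣ, t' = (u : X.presheaf.stalk x) • t := by
  obtain ⟨a, ha⟩ := ht.2 t'
  obtain ⟨b, hb⟩ := Submodule.mem_span_singleton.1 (h.ge (Submodule.mem_top : t ∈ ⊤))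
  dsimp only at ha
  refine ⟨Units.mkOfMulEqOne a b (ht.1 ?_), ?_⟩
  · show (a * b) • t = (1 : X.presheaf.stalk x) • t
    rw [one_smul, mul_comm, mul_smul, ha, hb]
  · simpa using ha.symm

/-- A generator of a stalk of a coherent module is the germ of a frame. -/
theorem exists_frame_of_gen [IsLocallyNoetherian X] (hM : Coh.IsCoh M) {x : X} {t : M.presheaf.stalk x}
    (ht : IsGen t) :
    ∃ (U : X.Opens) (hx : x ∈ U) (e : Γ(M, U)), InvX.IsFrame e ∧ M.presheaf.germ U x hx e = t := by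
  classical
  obtain ⟨W, hxW, m₀, rfl⟩ := M.presheaf.germ_exist t
  obtain ⟨_, ⟨U, hU, rfl⟩, hxU, hUW⟩ := X.isBasis_affineOpens.exists_subset_of_mem_open hxW W.isOpen
  replace hUW : U ≤ W := hUW
  replace hU : IsAffineOpen U := hU
  let m := AModX.res M hUW m₀
  have hm : ∀ (y : X) (hy : y ∈ U), M.presheaf.germ U y hy m = M.presheaf.germ W y (hUW hy) m₀ :=
    fun y hy => M.presheaf.germ_res_apply (homOfLE hUW) y hy m₀
  haveI := QCoh.finite_sections hM hU
  haveI : IsNoetherianRing Γ(X, U) := QCoh.noetherian_sections ⟨U, hU⟩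
  let f : Γ(X, U) →ₗ[Γ(X, U)] Γ(M, U) := LinearMap.toSpanSingleton Γ(X, U) _ m
  set p := (hU.primeIdealOf ⟨x, hxU⟩).asIdeal with hp
  rw [← hm x hxU] at ht
  have hsur : ∀ n : Γ(M, U), ∃ a ∉ p, a • n ∈ LinearMap.range f := by
    intro n
    letI := QCoh.stalkAlg (X := X) hxU
    letI := QCoh.stalkModule M hxU
    haveI := QCoh.isLocalizedModule_germLin (QCoh.isCoh_iff.1 hM).1 hU hxU
    haveI := QCoh.isLocalization_stalk' hU hxU
    haveI := QCoh.isScalarTower_stalk M hxU
    obtain ⟨c, hc⟩ := ht.2 (QCoh.germLin M hxU n)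
    obtain ⟨r, s, rfl⟩ := IsLocalization.exists_mk'_eq p.primeCompl c
    have h1 : QCoh.germLin M hxU ((s : Γ(X, U)) • n) = QCoh.germLin M hxU (r • m) := by
      rw [map_smul, map_smul, ← hc, ← algebraMap_smul (X.presheaf.stalk x) (s : Γ(X, U)),
        ← algebraMap_smul (X.presheaf.stalk x) r]
      dsimp only
      rw [← mul_smul, mul_comm, IsLocalization.mk'_spec]
      rfl
    obtain ⟨d, hd⟩ := (IsLocalizedModule.eq_iff_exists p.primeCompl (QCoh.germLin M hxU)).1 h1
    refine ⟨(d : Γ(X, U)) * s, (d * s).2, (d : Γ(X, U)) * r, ?_⟩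
    show ((d : Γ(X, U)) * r) • m = _
    rw [mul_smul, mul_smul]
    exact hd.symm
  have hker : ∀ r ∈ LinearMap.ker f, ∃ a ∉ p, a * r = 0 := by
    intro r hr
    letI := QCoh.stalkAlg (X := X) hxU
    haveI := QCoh.isLocalization_stalk' hU hxU
    have h0 : X.presheaf.germ U x hxU r • M.presheaf.germ U x hxU m = 0 := by
      rw [← QCoh.germ_smul', show r • m = 0 from hr, map_zero]
    have h1 : algebraMap Γ(X, U) (X.presheaf.stalk x) r = 0 := ht.1 (h0.trans (zero_smul _ _).symm)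
    obtain ⟨a, ha⟩ := (IsLocalization.map_eq_zero_iff p.primeCompl (X.presheaf.stalk x) r).1 h1
    exact ⟨a.1, a.2, ha⟩
  obtain ⟨k, g, hg⟩ := Module.Finite.exists_fin (R := Γ(X, U)) (M := Γ(M, U))
  obtain ⟨sk, hsk⟩ := IsNoetherian.noetherian (LinearMap.ker f)
  choose a ha ha' using fun j => hsur (g j)
  choose b hb hb' using fun r : sk => hker r.1 (hsk.le (Submodule.subset_span r.2))
  set d : Γ(X, U) := (∏ j, a j) * ∏ r, b r with hd
  have hd0 : d ∉ p := fun h => by
    rcases (hU.primeIdealOf ⟨x, hxU⟩).isPrime.mem_or_mem h with h | h <;>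
      obtain ⟨i, -, hi⟩ := (hU.primeIdealOf ⟨x, hxU⟩).isPrime.prod_mem_iff.1 h
    exacts [ha i hi, hb i hi]
  have hds : ∀ n, d • n ∈ LinearMap.range f := by
    intro n
    have hn : n ∈ Submodule.span Γ(X, U) (Set.range g) := hg ▸ trivial
    induction hn using Submodule.span_induction with
    | mem w hws =>
      obtain ⟨j, rfl⟩ := hws
      rw [hd, mul_comm, mul_smul, ← Finset.prod_erase_mul _ _ (Finset.mem_univ j), mul_smul]
      exact Submodule.smul_mem _ _ (Submodule.smul_mem _ _ (ha' j))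
    | zero => rw [smul_zero]; exact zero_mem _
    | add u v _ _ hu hv => rw [smul_add]; exact add_mem hu hv
    | smul c u _ hu => rw [smul_comm]; exact Submodule.smul_mem _ _ hu
  have hdk : ∀ r ∈ LinearMap.ker f, d * r = 0 := by
    intro r hr
    rw [← hsk] at hr
    induction hr using Submodule.span_induction with
    | mem w hws =>
      rw [hd, mul_assoc, ← Finset.prod_erase_mul _ _ (Finset.mem_univ (⟨w, hws⟩ : sk)), mul_assoc, hb' ⟨w, hws⟩,
        mul_zero, mul_zero]
    | zero => exact mul_zero _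
    | add u v _ _ hu hv => rw [mul_add, hu, hv, add_zero]
    | smul c u _ hu => rw [smul_eq_mul, mul_left_comm, hu, mul_zero]
  have hxd : x ∈ X.basicOpen d := (QCoh.mem_basicOpen_iff_notMem hU hxU d).2 hd0
  refine ⟨X.basicOpen d, hxd, AModX.res M (X.basicOpen_le d) m,
    InvX.isFrame_of_germ fun y hy => ?_, ?_⟩
  swap
  · exact (M.presheaf.germ_res_apply (homOfLE (X.basicOpen_le d)) x hxd m).trans (hm x hxU)
  have hyU : y ∈ U := X.basicOpen_le d hy
  rw [show M.presheaf.germ (X.basicOpen d) y hy (AModX.res M (X.basicOpen_le d) m) = M.presheaf.germ U y hyU m from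
    M.presheaf.germ_res_apply (homOfLE (X.basicOpen_le d)) y hy m]
  letI := QCoh.stalkAlg (X := X) hyU
  letI := QCoh.stalkModule M hyU
  haveI := QCoh.isLocalizedModule_germLin (QCoh.isCoh_iff.1 hM).1 hU hyU
  haveI := QCoh.isLocalization_stalk' hU hyU
  haveI := QCoh.isScalarTower_stalk M hyU
  set S := (hU.primeIdealOf ⟨y, hyU⟩).asIdeal.primeCompl with hS
  have hdS : d ∈ S := (QCoh.mem_basicOpen_iff_notMem hU hyU d).1 hy
  refine ⟨fun c c' hcc => sub_eq_zero.1 ?_, fun w => ?_⟩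
  · have h0 : (c - c') • M.presheaf.germ U y hyU m = 0 := by
      rw [sub_smul]; exact sub_eq_zero.2 hcc
    obtain ⟨r, s, hrs⟩ := IsLocalization.exists_mk'_eq S (c - c')
    rw [← hrs] at h0 ⊢
    have h1 : QCoh.germLin M hyU (r • m) = 0 := by
      rw [map_smul, ← algebraMap_smul (X.presheaf.stalk y) r,
        ← IsLocalization.mk'_spec' (X.presheaf.stalk y) r s, mul_smul]
      exact (congrArg _ h0).trans (smul_zero _)
    obtain ⟨z, hz⟩ := (IsLocalizedModule.eq_zero_iff S (QCoh.germLin M hyU)).1 h1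
    have h2 : d * ((z : Γ(X, U)) * r) = 0 := hdk _ (by
      show ((z : Γ(X, U)) * r) • m = 0
      rw [mul_smul]; exact hz)
    rw [IsLocalization.mk'_eq_zero_iff]
    exact ⟨⟨d, hdS⟩ * z, by rw [Submonoid.coe_mul, mul_assoc]; exact h2⟩
  · obtain ⟨⟨n, s⟩, hns⟩ := IsLocalizedModule.surj S (QCoh.germLin M hyU) w
    obtain ⟨r, hr⟩ := hds n
    refine ⟨IsLocalization.mk' (X.presheaf.stalk y) r (⟨d, hdS⟩ * s), ?_⟩
    refine ((Module.End.isUnit_iff _).1 (IsLocalizedModule.map_units (QCoh.germLin M hyU) (⟨d, hdS⟩ * s))).1 ?_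
    simp only [Module.algebraMap_end_apply]
    set z : S := ⟨d, hdS⟩ * s with hz
    have key : ∀ v : M.presheaf.stalk y, (z : Γ(X, U)) • v = algebraMap Γ(X, U) (X.presheaf.stalk y) z • v :=
      fun v => rfl
    refine (key _).trans ?_
    rw [← mul_smul, mul_comm, IsLocalization.mk'_spec]
    show _ = (z : Γ(X, U)) • w
    rw [hz, Submonoid.coe_mul, mul_smul,
      show (s : Γ(X, U)) • w = QCoh.germLin M hyU n from hns]
    refine Eq.trans ?_ ((congrArg (QCoh.germLin M hyU) hr).trans ((QCoh.germLin M hyU).map_smul d n))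
    exact ((QCoh.germLin M hyU).map_smul r m).symm

theorem IsGen.specialize [IsLocallyNoetherian X] (hM : Coh.IsCoh M) {x y : X} (h : y ⤳ x)
    {t : M.presheaf.stalk x} (ht : IsGen t) : IsGen (sp M h t) := by
  obtain ⟨U, hx, e, he, rfl⟩ := exists_frame_of_gen hM ht
  rw [sp_germ]
  exact IsGen.of_frame he _

end Groth.Agent.Ref1X
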