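import Groth.Agent.Ref1X.Class
import Mathlib.Algebra.Module.Torsion.Free
import Mathlib.LinearAlgebra.FreeModule.PID

/-!
# The biduality map over principal ideal domains
-/

universe u

set_option backward.isDefEq.respectTransparency false
set_option backward.isDefEq.respectTransparency.types false

open CategoryTheory AlgebraicGeometry TopologicalSpace Opposite

namespace Groth.Agent.Ref1X

theorem eval_surjective_of_pid (R M : Type u) [CommRing R] [IsDomain R] [IsPrincipalIdealRing R]
    [AddCommGroup M] [Module R M] [Module.Finite R M] : Function.Surjective (Module.Dual.eval R M) := by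
  let T := Submodule.torsion R M
  haveI : Module.Free R (M ⧸ T) := Module.free_of_finite_type_torsion_free'
  obtain ⟨s, hs⟩ := T.mkQ.exists_rightInverse_of_surjective (LinearMap.range_eq_top.2 T.mkQ_surjective)
  intro Φ
  have hd : ∀ θ : Module.Dual R M, (θ.comp s).comp T.mkQ = θ := fun θ => by
    refine LinearMap.ext fun m => ?_
    have h1 : s (T.mkQ m) - m ∈ T := by
      rw [← Submodule.Quotient.eq]
      exact LinearMap.congr_fun hs (T.mkQ m)
    obtain ⟨a, ha⟩ := h1
    have h2 : (a : R) * θ (s (T.mkQ m) - m) = 0 := by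
      rw [← smul_eq_mul, ← map_smul]
      exact (congrArg θ ha).trans (map_zero θ)
    rw [mul_eq_zero, or_iff_right (nonZeroDivisors.ne_zero a.2), map_sub, sub_eq_zero] at h2
    exact h2
  obtain ⟨q, hq⟩ := (Module.bijective_dual_eval R (M ⧸ T)).2
    (Φ.comp (LinearMap.lcomp R R T.mkQ))
  obtain ⟨m, rfl⟩ := T.mkQ_surjective q
  refine ⟨m, LinearMap.ext fun θ => ?_⟩
  have h3 : (θ.comp s).comp T.mkQ m = Φ ((θ.comp s).comp T.mkQ) := LinearMap.congr_fun hq (θ.comp s)
  rwa [hd θ] at h3

variable {X : Scheme.{u}} [IsIntegral X] [IsLocallyNoetherian X] {F : X.Modules}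

theorem bidual_surjective_of_pid (hF : Coh.IsCoh F) (x : X) [IsDomain (X.presheaf.stalk x)]
    [IsPrincipalIdealRing (X.presheaf.stalk x)] :
    Function.Surjective (RefHull.stalkMapₗ (RefHull.bidualMap F) x) := by
  haveI := QCoh.finite_stalk_of_isFT hF.1 hF.2 x
  have hFP := QCoh.isCoh_iff_isFP.1 hF
  have key : RefHull.bidualAt F x = (RefHull.evalStalk (RefHull.dual F) (Coh.structureModule X) x).comp
      (RefHull.stalkMapₗ (RefHull.bidualMap F) x) := by
    refine LinearMap.ext fun v => ?_
    obtain ⟨U, hx, m, rfl⟩ := TopCat.Presheaf.exists_germ_eq F.presheaf v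
    rw [LinearMap.comp_apply, RefHull.stalkMapₗ_germ, RefHull.evalStalk_germ, RefHull.bidualMap_app_apply]
  intro z
  let L := RefHull.evalStalk (RefHull.dual F) (Coh.structureModule X) x z
  obtain ⟨m, hm⟩ := eval_surjective_of_pid (X.presheaf.stalk x) (F.presheaf.stalk x)
    (((RefX.unitStalk x).symm.toLinearMap.comp L).comp (RefX.dualStalk hFP x).symm.toLinearMap)
  refine ⟨m, (RefX.evalStalk_bijective (QCoh.isCoh_iff_isFP.1 (RefX.isCoh_dual hF)) x).1 ?_⟩
  refine (LinearMap.congr_fun key m).symm.trans (LinearMap.ext fun θ => ?_)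
  have h1 := LinearMap.congr_fun hm (RefX.dualStalk hFP x θ)
  simp only [LinearMap.comp_apply, LinearEquiv.coe_coe, LinearEquiv.symm_apply_apply, Module.Dual.eval_apply] at h1
  exact (RefX.unitStalk x).symm.injective (h1 : _)

end Groth.Agent.Ref1X
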