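import Groth.Agent.Ref1X.SectionExtend
import Groth.Agent.Ref1X.CurveAux
import Groth.Agent.Rat20Lib.ZMT
import Mathlib

/-!
# Birational morphisms onto normal schemes
-/

universe u

set_option backward.isDefEq.respectTransparency false
set_option backward.isDefEq.respectTransparency.types false
set_option linter.style.haveILetI false

open CategoryTheory CategoryTheory.Limits AlgebraicGeometry TopologicalSpace IsLocalRing

namespace Groth.Agent.Ref1X

variable {X Y : Scheme.{u}} [IsIntegral X] (f : X ⟶ Y) [IsSeparated f]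

theorem isDominant_homOfLE_nonempty {W V : X.Opens} (h : W ≤ V) (hW : (W : Set X).Nonempty) :
    IsDominant (X.homOfLE h) := by
  refine ⟨fun x => mem_closure_iff.2 fun o ho hxo => ?_⟩
  have ho' : IsOpen (V.ι '' o) := V.ι.isOpenEmbedding.isOpenMap o ho
  obtain ⟨z, ⟨w, hwo, hwz⟩, hzW⟩ := nonempty_preirreducible_inter ho' W.isOpen ⟨_, x, hxo, rfl⟩ hW
  refine ⟨w, hwo, ⟨⟨z, hzW⟩, ?_⟩⟩
  exact Subtype.ext ((Scheme.homOfLE_apply _ _).trans hwz.symm)

/-- A separated morphism from an integral scheme with a section over `V` which inverts it on a nonempty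
open is an isomorphism over `V`. -/
theorem isIso_restrict_of_section (V : Y.Opens) (s : (V : Scheme.{u}) ⟶ X) (hs : s ≫ f = V.ι)
    (W : X.Opens) (hW : (W : Set X).Nonempty) (hWV : W ≤ f ⁻¹ᵁ V)
    (hinv : X.homOfLE hWV ≫ (f ∣_ V) ≫ s = W.ι) : IsIso (f ∣_ V) := by
  haveI := isDominant_homOfLE_nonempty hWV hW
  haveI : IsReduced ((f ⁻¹ᵁ V : X.Opens) : Scheme.{u}) := isReduced_of_isOpenImmersion (f ⁻¹ᵁ V).ι
  have h : (f ∣_ V) ≫ s = (f ⁻¹ᵁ V).ι := ext_of_isDominant_of_isSeparated f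
    (by rw [Category.assoc, hs, morphismRestrict_ι]) (X.homOfLE hWV) (by rw [hinv, Scheme.homOfLE_ι])
  have hr : Set.range s ⊆ Set.range (f ⁻¹ᵁ V).ι := by
    rw [Scheme.Opens.range_ι]
    rintro _ ⟨v, rfl⟩
    show f (s v) ∈ V
    rw [← Scheme.Hom.comp_apply, hs]
    exact v.2
  let l := IsOpenImmersion.lift (f ⁻¹ᵁ V).ι s hr
  have hl : l ≫ (f ⁻¹ᵁ V).ι = s := IsOpenImmersion.lift_fac _ _ hr
  refine ⟨l, ?_, ?_⟩
  · rw [← cancel_mono (f ⁻¹ᵁ V).ι, Category.assoc, hl, h, Category.id_comp]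
  · rw [← cancel_mono V.ι, Category.assoc, morphismRestrict_ι, ← Category.assoc, hl, hs, Category.id_comp]

/-- The inverse over an open where `f` is an isomorphism. -/
theorem exists_section_of_isIso (U₀ : Y.Opens) (h : IsIso (f ∣_ U₀)) :
    ∃ s : (U₀ : Scheme.{u}) ⟶ X, s ≫ f = U₀.ι ∧ (f ∣_ U₀) ≫ s = (f ⁻¹ᵁ U₀).ι :=
  ⟨inv (f ∣_ U₀) ≫ (f ⁻¹ᵁ U₀).ι, by rw [Category.assoc, ← morphismRestrict_ι, IsIso.inv_hom_id_assoc],
    by rw [IsIso.hom_inv_id_assoc]⟩

variable [IsIntegral Y]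

/-- A birational closed separated morphism onto a scheme regular in codimension one is an isomorphism over
the points of codimension at most one. -/
theorem exists_isIso_dim_le_one [IsLocallyNoetherian Y] [LocallyOfFiniteType f] (hcl : IsClosedMap f)
    (hreg : ∀ y : Y, ringKrullDim (Y.presheaf.stalk y) ≤ 1 → IsRegularLocalRing (Y.presheaf.stalk y))
    (U₀ : Y.Opens) (hU₀ : (U₀ : Set Y).Nonempty) (hne : ((f ⁻¹ᵁ U₀ : X.Opens) : Set X).Nonempty)
    (hiso : IsIso (f ∣_ U₀)) :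
    ∃ V : Y.Opens, (∀ y : Y, ringKrullDim (Y.presheaf.stalk y) ≤ 1 → y ∈ V) ∧ IsIso (f ∣_ V) := by
  obtain ⟨s₀, hs₀, hs₀'⟩ := exists_section_of_isIso f U₀ hiso
  obtain ⟨V, hle, s, hs, hagree, hV⟩ := exists_section_extend f hcl hreg U₀
    (U₀.isOpen.dense hU₀) s₀ hs₀
  refine ⟨V, hV, isIso_restrict_of_section f V s hs (f ⁻¹ᵁ U₀) hne (fun x hx => hle hx) ?_⟩
  have hnat : X.homOfLE (fun x hx => hle hx : f ⁻¹ᵁ U₀ ≤ f ⁻¹ᵁ V) ≫ (f ∣_ V) = (f ∣_ U₀) ≫ Y.homOfLE hle := by
    rw [← cancel_mono V.ι, Category.assoc, Category.assoc, morphismRestrict_ι, Scheme.homOfLE_ι, morphismRestrict_ι,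
      ← Category.assoc, Scheme.homOfLE_ι]
  rw [← Category.assoc, hnat, Category.assoc, hagree, hs₀']

/-- **Zariski's main theorem** for birational morphisms at a normal point. -/
theorem exists_isIso_nhd_of_quasiFiniteAt [LocallyOfFiniteType f] (e : f (genericPoint X) = genericPoint Y)
    (hbir : Function.Bijective
      (Y.presheaf.stalkSpecializes (specializes_of_eq e) ≫ f.stalkMap (genericPoint X)).hom)
    (x : X) (hn : IsIntegrallyClosed (Y.presheaf.stalk (f x))) (hq : f.QuasiFiniteAt x) :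
    ∃ V : Y.Opens, f x ∈ V ∧ IsIso (f ∣_ V) := by
  obtain ⟨O, hO, hOeq⟩ := isOpen_induced_iff.1 ((f.fiberHomeo (f x)).isOpen_image.2
    (Scheme.Hom.quasiFiniteAt_iff_isOpen_singleton_asFiber.1 hq))
  have hxO : x ∈ O := by
    have h1 : (f.fiberHomeo (f x) (f.asFiber x)) ∈ Subtype.val ⁻¹' O :=
      hOeq.ge ⟨f.asFiber x, rfl, rfl⟩
    simpa using h1
  have huniqO : ∀ z ∈ O, f z = f x → z = x := fun z hzO hz => by
    have h1 : (⟨z, hz⟩ : f ⁻¹' {f x}) ∈ (Subtype.val ⁻¹' O : Set (f ⁻¹' {f x})) := hzO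
    rw [hOeq] at h1
    obtain ⟨w, rfl, hw⟩ := h1
    have := congrArg Subtype.val hw
    simpa using this.symm
  obtain ⟨U, hU, hyU, -⟩ := exists_isAffineOpen_mem_and_subset (x := f x) (U := ⊤) trivial
  obtain ⟨V, hV, hxV, hVsub⟩ := exists_isAffineOpen_mem_and_subset (x := x)
    (U := ⟨O, hO⟩ ⊓ f ⁻¹ᵁ U) ⟨hxO, hyU⟩
  have hVU : V ≤ f ⁻¹ᵁ U := fun z hz => (hVsub hz).2
  haveI : Nonempty U := ⟨⟨f x, hyU⟩⟩
  have hηU : genericPoint Y ∈ U := ((genericPoint_spec Y).mem_open_set_iff U.isOpen).2 ⟨_, trivial, hyU⟩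
  have hηV : genericPoint X ∈ V := ((genericPoint_spec X).mem_open_set_iff V.isOpen).2 ⟨_, trivial, hxV⟩
  haveI : IsFractionRing Γ(Y, U) Y.functionField := functionField_isFractionRing_of_isAffineOpen Y U hU
  set ψ := (Y.presheaf.stalkSpecializes (specializes_of_eq e) ≫ f.stalkMap (genericPoint X)).hom
  let ε : Y.functionField ≃+* X.functionField := RingEquiv.ofBijective ψ hbir
  have hψ : ∀ (U' : Y.Opens) (V' : X.Opens) (e' : V' ≤ f ⁻¹ᵁ U') (h1 : genericPoint Y ∈ U')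
      (h2 : genericPoint X ∈ V') (a : Γ(Y, U')),
      ε (Y.presheaf.germ U' _ h1 a) = X.presheaf.germ V' _ h2 (f.appLE U' V' e' a) := by
    intro U' V' e' h1 h2 a
    show ψ _ = _
    simp only [ψ, CommRingCat.hom_comp, RingHom.comp_apply]
    rw [TopCat.Presheaf.germ_stalkSpecializes_apply]
    refine (f.germ_stalkMap_apply U' (genericPoint X) _ a).trans ?_
    exact (X.presheaf.germ_res_apply (homOfLE e') _ h2 (f.app U' a)).symm
  let φ₀ : Γ(X, V) →+* Y.functionField := ε.symm.toRingHom.comp (X.presheaf.germ V _ hηV).hom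
  letI : Algebra Γ(Y, U) Γ(X, V) := (f.appLE U V hVU).hom.toAlgebra
  haveI : Algebra.FiniteType Γ(Y, U) Γ(X, V) := f.finiteType_appLE hU hV hVU
  have hcomm : ∀ a : Γ(Y, U), φ₀ (algebraMap Γ(Y, U) Γ(X, V) a) = algebraMap Γ(Y, U) Y.functionField a := by
    intro a
    apply ε.injective
    show ε (ε.symm _) = _
    rw [ε.apply_symm_apply]
    exact (hψ U V hVU hηU hηV a).symm
  let φ : Γ(X, V) →ₐ[Γ(Y, U)] Y.functionField := { φ₀ with commutes' := hcomm }
  have hφinj : Function.Injective φ := ε.symm.injective.comp (germ_injective_of_isIntegral (X := X) _ hηV)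
  set p := (hU.primeIdealOf ⟨f x, hyU⟩).asIdeal
  set q := (hV.primeIdealOf ⟨x, hxV⟩).asIdeal
  have hqp : q.comap (algebraMap Γ(Y, U) Γ(X, V)) = p := congrArg PrimeSpectrum.asIdeal
    (IsAffineOpen.comap_primeIdealOf_appLE U hU V hV hVU hxV)
  letI := TopCat.Presheaf.algebra_section_stalk Y.presheaf ⟨f x, hyU⟩
  haveI : IsLocalization.AtPrime (Y.presheaf.stalk (f x)) p := hU.isLocalization_stalk ⟨f x, hyU⟩
  haveI : IsIntegrallyClosed (Localization.AtPrime p) :=
    IsIntegrallyClosed.of_equiv (IsLocalization.algEquiv p.primeCompl (Y.presheaf.stalk (f x))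
      (Localization.AtPrime p)).toRingEquiv
  obtain ⟨t, htp, ht⟩ := Rat20Lib.exists_denominator_of_unique_prime p φ q hqp
    (by rw [(RingHom.injective_iff_ker_eq_bot _).1 hφinj]; exact bot_le) fun q' hq' hcomap _ => by
      obtain ⟨z, hzV, hz⟩ := QCoh.exists_point hV ⟨q', hq'⟩
      have h1 := IsAffineOpen.comap_primeIdealOf_appLE U hU V hV hVU hzV
      rw [hz] at h1
      have h2 : (hU.primeIdealOf ⟨f z, hVU hzV⟩) = hU.primeIdealOf ⟨f x, hyU⟩ := by
        rw [← h1]; exact PrimeSpectrum.ext hcomap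
      have h3 : f z = f x := by
        have := congrArg hU.fromSpec h2
        rwa [hU.fromSpec_primeIdealOf, hU.fromSpec_primeIdealOf] at this
      obtain rfl := huniqO z (hVsub hzV).1 h3
      exact (congrArg PrimeSpectrum.asIdeal hz).symm
  let U' : Y.Opens := Y.basicOpen t
  let V' : X.Opens := X.basicOpen (f.appLE U V hVU t)
  have hV'eq : V' = V ⊓ f ⁻¹ᵁ U' := Scheme.basicOpen_appLE f V U hVU t
  have hV'U' : V' ≤ f ⁻¹ᵁ U' := hV'eq.trans_le inf_le_right
  have hU' : IsAffineOpen U' := hU.basicOpen t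
  have hV' : IsAffineOpen V' := hV.basicOpen _
  have hyU' : f x ∈ U' := by
    by_contra h
    exact htp (by_contra fun h' => h ((QCoh.mem_basicOpen_iff_notMem hU hyU t).2 h'))
  have hxV' : x ∈ V' := hV'eq.ge ⟨hxV, hyU'⟩
  have hηU' : genericPoint Y ∈ U' := ((genericPoint_spec Y).mem_open_set_iff U'.isOpen).2 ⟨_, trivial, hyU'⟩
  have hηV' : genericPoint X ∈ V' := ((genericPoint_spec X).mem_open_set_iff V'.isOpen).2 ⟨_, trivial, hxV'⟩
  have hbij : Function.Bijective (f.appLE U' V' hV'U') := by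
    refine ⟨fun a b hab => germ_injective_of_isIntegral (X := Y) _ hηU' (ε.injective ?_), fun r => ?_⟩
    · rw [hψ U' V' hV'U' hηU' hηV', hψ U' V' hV'U' hηU' hηV', hab]
    haveI := hV.isLocalization_basicOpen (f.appLE U V hVU t)
    haveI := hU.isLocalization_basicOpen t
    obtain ⟨⟨r₀, ⟨_, n, rfl⟩⟩, hr⟩ := IsLocalization.surj (Submonoid.powers (f.appLE U V hVU t)) r
    obtain ⟨k, a, ha⟩ := ht r₀
    obtain ⟨w, hw⟩ := (IsLocalization.map_units Γ(Y, U')
      (⟨t ^ (k + n), k + n, rfl⟩ : Submonoid.powers t)).exists_left_inv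
    refine ⟨w * algebraMap Γ(Y, U) Γ(Y, U') a, germ_injective_of_isIntegral (X := X) _ hηV' ?_⟩
    rw [← hψ U' V' hV'U' hηU' hηV', map_mul (Y.presheaf.germ U' _ hηU').hom]
    have e1 : ∀ c : Γ(Y, U), Y.presheaf.germ U' _ hηU' (algebraMap Γ(Y, U) Γ(Y, U') c) =
        algebraMap Γ(Y, U) Y.functionField c := fun c =>
      Y.presheaf.germ_res_apply (homOfLE (Y.basicOpen_le t)) _ hηU' c
    have e2 : ∀ c : Γ(X, V), X.presheaf.germ V' _ hηV' (algebraMap Γ(X, V) Γ(X, V') c) =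
        X.presheaf.germ V _ hηV c := fun c =>
      X.presheaf.germ_res_apply (homOfLE (X.basicOpen_le _)) _ hηV' c
    have hw' := congrArg (Y.presheaf.germ U' _ hηU') hw
    rw [map_mul, map_one, e1, map_pow, pow_add] at hw'
    have hr' : X.presheaf.germ V' _ hηV' r * X.presheaf.germ V _ hηV (f.appLE U V hVU t) ^ n =
        X.presheaf.germ V _ hηV r₀ := by
      have := congrArg (X.presheaf.germ V' _ hηV') hr
      simp only [map_mul, e2, map_pow] at this
      exact this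
    apply ε.symm.injective
    rw [ε.symm_apply_apply]
    erw [e1]
    have hr'' := congrArg ε.symm hr'
    rw [map_mul, map_pow] at hr''
    rw [show ε.symm (X.presheaf.germ V _ hηV (f.appLE U V hVU t)) = algebraMap Γ(Y, U) Y.functionField t from
      hcomm t, show ε.symm (X.presheaf.germ V _ hηV r₀) = φ r₀ from rfl] at hr''
    rw [← ha, ← hr'']
    linear_combination (ε.symm (X.presheaf.germ V' _ hηV' r)) * hw'
  haveI : IsIso (f.appLE U' V' hV'U') := (ConcreteCategory.isIso_iff_bijective _).2 hbij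
  let s : (U' : Scheme.{u}) ⟶ X := U'.toSpecΓ ≫ Spec.map (inv (f.appLE U' V' hV'U')) ≫ hV'.fromSpec
  have hs : s ≫ f = U'.ι := by
    simp only [s, Category.assoc]
    rw [← hU'.toSpecΓ_fromSpec, ← IsAffineOpen.SpecMap_appLE_fromSpec f hU' hV' hV'U',
      ← Spec.map_comp_assoc, IsIso.hom_inv_id, Spec.map_id, Category.id_comp]
  refine ⟨U', hyU', isIso_restrict_of_section f U' s hs V' ⟨x, hxV'⟩ hV'U' ?_⟩
  rw [← Category.assoc, ← Scheme.Hom.resLE_eq_morphismRestrict, Scheme.Hom.map_resLE]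
  simp only [s]
  rw [← Scheme.Opens.toSpecΓ_SpecMap_appLE_assoc, ← Spec.map_comp_assoc, IsIso.inv_hom_id, Spec.map_id,
    Category.id_comp, IsAffineOpen.toSpecΓ_fromSpec]

/-- Birationality at the generic points from an isomorphism over a nonempty open. -/
theorem bir_of_isIso (U₀ : Y.Opens) (hU₀ : (U₀ : Set Y).Nonempty) (hiso : IsIso (f ∣_ U₀)) :
    ∃ e : f (genericPoint X) = genericPoint Y, Function.Bijective
      (Y.presheaf.stalkSpecializes (specializes_of_eq e) ≫ f.stalkMap (genericPoint X)).hom := by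
  have hηY : genericPoint Y ∈ U₀ := by
    obtain ⟨z, hz⟩ := hU₀
    exact ((genericPoint_spec Y).mem_open_set_iff U₀.isOpen).2 ⟨z, trivial, hz⟩
  let z : (f ⁻¹ᵁ U₀ : X.Opens) := inv (f ∣_ U₀) ⟨genericPoint Y, hηY⟩
  have hz : f z.1 = genericPoint Y := by
    have h1 : (f ∣_ U₀) z = ⟨genericPoint Y, hηY⟩ := by
      show (f ∣_ U₀) (inv (f ∣_ U₀) _) = _
      rw [← Scheme.Hom.comp_apply, IsIso.inv_hom_id]
      rfl
    have h3 : f z.1 = ((f ∣_ U₀) z).1 := (congr($(morphismRestrict_ι f U₀) z)).symm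
    rw [h3, h1]
  have hηX : genericPoint X ∈ f ⁻¹ᵁ U₀ :=
    ((genericPoint_spec X).mem_open_set_iff (f ⁻¹ᵁ U₀).isOpen).2 ⟨_, trivial, z.2⟩
  have e : f (genericPoint X) = genericPoint Y := by
    have h1 : f (genericPoint X) ⤳ genericPoint Y := by
      rw [← hz]
      exact ((genericPoint_spec X).specializes (Set.mem_univ z.1)).map f.continuous
    exact (h1.antisymm ((genericPoint_spec Y).specializes (Set.mem_univ _))).eq
  haveI : IsIso ((f ∣_ U₀).stalkMap ⟨genericPoint X, hηX⟩) := inferInstance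
  haveI : IsIso (f.stalkMap (genericPoint X)) :=
    ((MorphismProperty.isomorphisms CommRingCat).arrow_mk_iso_iff
      (morphismRestrictStalkMap f U₀ ⟨genericPoint X, hηX⟩)).1 (inferInstanceAs (IsIso _))
  haveI := isIso_stalkSpecializes_of_eq' e (specializes_of_eq e)
  exact ⟨e, (ConcreteCategory.isIso_iff_bijective _).1 inferInstance⟩
where
  isIso_stalkSpecializes_of_eq' {a b : Y} (h : a = b) (hs : a ⤳ b) : IsIso (Y.presheaf.stalkSpecializes hs) := by
    subst h
    rw [TopCat.Presheaf.stalkSpecializes_refl]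
    infer_instance

omit [IsIntegral X] [IsSeparated f] [IsIntegral Y] in
/-- Being an isomorphism glues over a family of opens. -/
theorem isIso_restrict_iSup {ι : Type*} (V : ι → Y.Opens) (h : ∀ i, IsIso (f ∣_ V i)) :
    IsIso (f ∣_ ⨆ i, V i) := by
  refine IsZariskiLocalAtTarget.of_iSup_eq_top (P := MorphismProperty.isomorphisms Scheme)
    (fun i => (⨆ i, V i : Y.Opens).ι ⁻¹ᵁ V i) ?_ fun i => ?_
  · refine top_unique fun z _ => ?_
    obtain ⟨i, hi⟩ := Opens.mem_iSup.1 z.2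
    exact Opens.mem_iSup.2 ⟨i, hi⟩
  · refine ((MorphismProperty.isomorphisms Scheme).arrow_mk_iso_iff
      (morphismRestrictRestrict f _ _ ≪≫ morphismRestrictEq f ?_)).2 (h i)
    rw [Scheme.Hom.image_preimage_eq_opensRange_inf, Scheme.Opens.opensRange_ι, inf_eq_right]
    exact le_iSup V i

omit [IsSeparated f] in
theorem bij_comp_of_stalkMap (e : f (genericPoint X) = genericPoint Y)
    (h : IsIso (f.stalkMap (genericPoint X))) :
    Function.Bijective (Y.presheaf.stalkSpecializes (specializes_of_eq e) ≫ f.stalkMap (genericPoint X)).hom := by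
  haveI := bir_of_isIso.isIso_stalkSpecializes_of_eq' e (specializes_of_eq e)
  exact (ConcreteCategory.isIso_iff_bijective _).1 inferInstance

omit [IsSeparated f] [IsIntegral Y] in
theorem quasiFiniteAt_generic (h : IsIso (f.stalkMap (genericPoint X))) :
    f.QuasiFiniteAt (genericPoint X) :=
  RingHom.QuasiFinite.of_finite
    (RingHom.Finite.of_surjective _ ((ConcreteCategory.isIso_iff_bijective _).1 h).2)

theorem le_one_of_not_two_le' {a : WithBot ℕ∞} (h : ¬ (2 : WithBot ℕ∞) ≤ a) : a ≤ 1 := by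
  rcases a with _ | _ | n
  · exact bot_le
  · exact absurd le_top h
  · change ¬ (((2 : ℕ) : ℕ∞) : WithBot ℕ∞) ≤ ((n : ℕ∞) : WithBot ℕ∞) at h
    rw [WithBot.coe_le_coe, Nat.cast_le] at h
    change ((n : ℕ∞) : WithBot ℕ∞) ≤ (((1 : ℕ) : ℕ∞) : WithBot ℕ∞)
    rw [WithBot.coe_le_coe, Nat.cast_le]
    omega

end Groth.Agent.Ref1X
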