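import Groth.Agent.Ref1X.Big
import Groth.Agent.AssDimLoci.GeomRk
import Groth.Agent.QCoh.Support
import Groth.Agent.CAlgOdd.Reflexive
import Groth.Agent.S0605
import Groth.Prelude.Def_CohB1

/-!
# Cohen-Macaulay modules on regular schemes are locally free
-/

universe u

set_option backward.isDefEq.respectTransparency false
set_option backward.isDefEq.respectTransparency.types false
set_option linter.style.haveILetI false

open CategoryTheory AlgebraicGeometry TopologicalSpace Opposite

namespace Groth.Agent.Ref1X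

variable {X : Scheme.{u}} [IsLocallyNoetherian X] {F : X.Modules}

/-- With full support the zero ideal is in the support of each stalk. -/
theorem annihilator_stalk_eq_bot (hF : Coh.IsCoh F) (hsupp : CohB1.support F = Set.univ) (x : X)
    [IsDomain (X.presheaf.stalk x)] :
    Module.annihilator (X.presheaf.stalk x) (F.presheaf.stalk x) = ⊥ := by
  obtain ⟨V, hV, hxV, -⟩ := exists_isAffineOpen_mem_and_subset (x := x) (U := ⊤) trivial
  haveI := QCoh.finite_sections hF hV
  letI := QCoh.stalkAlg (X := X) hxV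
  haveI := QCoh.isLocalization_stalk' hV hxV
  refine (Submodule.eq_bot_iff _).2 fun r hr => by_contra fun hr0 => ?_
  obtain ⟨a, s, rfl⟩ := IsLocalization.exists_mk'_eq (hV.primeIdealOf ⟨x, hxV⟩).asIdeal.primeCompl r
  let q : PrimeSpectrum Γ(X, V) := PrimeSpectrum.comap (algebraMap Γ(X, V) (X.presheaf.stalk x)) ⟨⊥, Ideal.isPrime_bot⟩
  obtain ⟨t, htV, ht⟩ := QCoh.exists_point hV q
  have ha : algebraMap Γ(X, V) (X.presheaf.stalk x) a ≠ 0 := fun h0 => hr0 (by
    rw [IsLocalization.mk'_eq_mul_mk'_one, h0, zero_mul])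
  have htnot : t ∈ X.basicOpen a := (QCoh.mem_basicOpen_iff_notMem hV htV a).2 (by
    rw [ht]; exact fun h => ha (Ideal.mem_bot.1 (show algebraMap Γ(X, V) (X.presheaf.stalk x) a ∈ (⊥ : Ideal (X.presheaf.stalk x)) from h)))
  have hfrac : ∀ m : Γ(F, V), F.presheaf.germ V t htV m = 0 := fun m => by
    have h1 : F.presheaf.germ V x hxV (a • m) = 0 := by
      have h2 := Module.mem_annihilator.1 hr (F.presheaf.germ V x hxV m : F.presheaf.stalk x)
      have h3 : algebraMap Γ(X, V) (X.presheaf.stalk x) a • F.presheaf.germ V x hxV m = 0 := by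
        rw [← IsLocalization.mk'_spec' (X.presheaf.stalk x) a s, mul_smul, h2, smul_zero]
      rw [QCoh.germ_smul']
      exact h3
    obtain ⟨c, hc, hc0⟩ := (QCoh.germ_eq_zero_iff hF.1 hV hxV _).1 h1
    have htx : t ∈ X.basicOpen c := (QCoh.mem_basicOpen_iff_notMem hV htV c).2 (by
      rw [ht]
      intro h
      refine (QCoh.mem_basicOpen_iff_notMem hV hxV c).1 hc ?_
      rw [← AssLib.comap_maximalIdeal_stalk hV hxV]
      exact (Ideal.comap_mono bot_le) h)
    exact (QCoh.germ_eq_zero_iff hF.1 hV htV m).2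
      ⟨c * a, by rw [X.basicOpen_mul]; exact ⟨htx, htnot⟩, by rw [mul_smul, hc0]⟩
  refine (hsupp.ge (Set.mem_univ t) : ¬ Subsingleton _) ⟨fun y z => ?_⟩
  suffices h : ∀ y : F.presheaf.stalk t, y = 0 by rw [h y, h z]
  intro y
  letI := QCoh.stalkAlg (X := X) htV
  letI := QCoh.stalkModule F htV
  haveI := QCoh.isLocalizedModule_germLin hF.1 hV htV
  obtain ⟨⟨m, d⟩, hmd⟩ := IsLocalizedModule.surj (hV.primeIdealOf ⟨t, htV⟩).asIdeal.primeCompl (QCoh.germLin F htV) y
  have hu : IsUnit (X.presheaf.germ V t htV (d : Γ(X, V))) :=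
    (X.mem_basicOpen _ _ htV).1 ((QCoh.mem_basicOpen_iff_notMem hV htV _).2 d.2)
  exact hu.smul_eq_zero.1 ((hmd : X.presheaf.germ V t htV (d : Γ(X, V)) • y = _).trans (hfrac m))

theorem finrank_of_chart {F : X.Modules} (hF : Coh.IsCoh F) {U : X.Opens} {x : X} (hx : x ∈ U) {n : ℕ}
    (e : F.restrict U.ι ≅ FlatMod.freeMod (U : Scheme.{u}) n) :
    Module.finrank (X.presheaf.stalk x) (F.presheaf.stalk x) = n := by
  obtain ⟨_, ⟨V, hV, rfl⟩, hxV, hle⟩ :=
    X.isBasis_affineOpens.exists_subset_of_mem_open (show x ∈ U from hx) U.2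
  obtain ⟨l⟩ := QCoh.free_sections hV hle e
  exact QCoh.finrank_stalk_of_freeChart hV hF.1 l hxV

theorem isCM_iff_free {R M : Type u} [CommRing R] [IsRegularLocalRing R] [AddCommGroup M] [Module R M]
    [Module.Finite R M] (hann : Module.annihilator R M = ⊥) [Nontrivial M] :
    LocCoh.IsCohenMacaulayModule R M ↔ Module.Free R M := by
  have hsd : Module.supportDim R M = ringKrullDim R := by
    rw [Module.supportDim_eq_ringKrullDim_quotient_annihilator, hann]
    exact ringKrullDim_eq_of_ringEquiv (RingEquiv.quotientBot R)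
  haveI := Groth.Agent.LC.gorenstein_of_isRegularLocalRing (R := R)
  haveI hcm : LocCoh.IsCohenMacaulayLocalRing R := Groth.Agent.LC.isCohenMacaulayLocalRing_of_gorenstein
  have hD : ringKrullDim R = ((LocCoh.depth R R : ℕ∞) : WithBot ℕ∞) := by
    rw [← Module.supportDim_self_eq_ringKrullDim]
    exact hcm.supportDim_eq_depth
  refine ⟨fun h => Groth.Agent.S0605.result R M (h.symm.trans hsd), fun hfree => ?_⟩
  haveI := hfree
  have h0 : Groth.Agent.RegLoc6.PdLE R 0 M := Groth.Agent.RegLoc6.pdLE_zero_iff.2 inferInstance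
  have h1 := Groth.Agent.CAlgOdd.AB.depth_add_eq 0 M h0 (fun e he => absurd he (Nat.not_lt_zero e))
  unfold LocCoh.IsCohenMacaulayModule
  rw [hsd, hD, ← h1]
  simp

end Groth.Agent.Ref1X
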