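import Groth.Agent.KFlatLib.Scheme.Exact
import Groth.Agent.ZClosLib.Basic
import Mathlib.CategoryTheory.Limits.ConcreteCategory.Filtered
import Mathlib.Algebra.Category.Grp.FilteredColimits

/-!
# Colimits of sequences of modules, tested on stalks
-/

universe u

set_option backward.isDefEq.respectTransparency false
set_option backward.isDefEq.respectTransparency.types false

open CategoryTheory CategoryTheory.Limits AlgebraicGeometry TopologicalSpace Opposite

namespace Groth.Agent.Ref1X

variable {X : Scheme.{u}}

/-- A cocone on a sequence which on stalks is jointly surjective and kills only what is eventually killed is a colimit. -/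
theorem isColimit_of_stalks {D : ℕ ⥤ X.Modules} (c : Cocone D)
    (hsurj : ∀ (x : X) (z : c.pt.presheaf.stalk x), ∃ n m, ZClosLib.stalkMap (c.ι.app n) x m = z)
    (hinj : ∀ (x : X) (n : ℕ) (m : (D.obj n).presheaf.stalk x), ZClosLib.stalkMap (c.ι.app n) x m = 0 →
      ∃ (n' : ℕ) (h : n ≤ n'), ZClosLib.stalkMap (D.map (homOfLE h)) x m = 0) :
    Nonempty (IsColimit c) := by
  haveI : IsIso ((colimit.isColimit D).desc c) := by
    refine ZClosLib.isIso_of_stalkMap_bijective _ fun x => ?_
    haveI : PreservesFilteredColimitsOfSize.{0, 0} (forget AddCommGrpCat.{u}) :=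
      preservesSmallestFilteredColimits_of_preservesFilteredColimits.{u, u} _
    haveI : PreservesColimitsOfShape ℕ (forget AddCommGrpCat.{u}) :=
      PreservesFilteredColimitsOfSize.preserves_filtered_colimits ℕ
    let G := KFlatLib.stalkAb (X := X) x
    have hc : IsColimit (G.mapCocone (colimit.cocone D)) := isColimitOfPreserves G (colimit.isColimit D)
    have hfac : ∀ (n : ℕ) (m : (D.obj n).presheaf.stalk x),
        ZClosLib.stalkMap ((colimit.isColimit D).desc c) x (ZClosLib.stalkMap (colimit.ι D n) x m) =
          ZClosLib.stalkMap (c.ι.app n) x m := fun n m => by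
      show G.map ((colimit.isColimit D).desc c) (G.map (colimit.ι D n) m) = G.map (c.ι.app n) m
      refine (ConcreteCategory.comp_apply (G.map (colimit.ι D n)) (G.map _) m).symm.trans ?_
      rw [← G.map_comp]
      exact congrArg (fun φ => G.map φ m) ((colimit.isColimit D).fac c n)
    refine ⟨(injective_iff_map_eq_zero _).2 fun a ha => ?_, fun z => ?_⟩
    · obtain ⟨n, m, rfl⟩ := Concrete.isColimit_exists_rep _ hc a
      change ZClosLib.stalkMap ((colimit.isColimit D).desc c) x (ZClosLib.stalkMap (colimit.ι D n) x m) = 0 at ha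
      rw [hfac] at ha
      obtain ⟨n', h, h0⟩ := hinj x n m ha
      have hw : G.map (colimit.ι D n') (G.map (D.map (homOfLE h)) m) = G.map (colimit.ι D n) m := by
        rw [← ConcreteCategory.comp_apply, ← G.map_comp, colimit.w]
      show G.map (colimit.ι D n) m = 0
      rw [← hw]
      exact (congrArg _ (h0 : G.map (D.map (homOfLE h)) m = 0)).trans (map_zero _)
    · obtain ⟨n, m, hm⟩ := hsurj x z
      exact ⟨ZClosLib.stalkMap (colimit.ι D n) x m, (hfac n m).trans hm⟩
  exact ⟨IsColimit.ofPointIso (colimit.isColimit D)⟩

end Groth.Agent.Ref1X
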