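import Groth.Agent.Ref1X.BirConn
import Groth.Agent.S1297
import Groth.Agent.SteinLib.General

/-!
# Algebraically closed function fields and connectedness of fibres over a normal point
-/

universe u

set_option backward.isDefEq.respectTransparency false
set_option backward.isDefEq.respectTransparency.types false
set_option linter.style.haveILetI false

open CategoryTheory Limits AlgebraicGeometry TopologicalSpace

namespace Groth.Agent.Ref1X

variable {X Y : Scheme.{u}} [IsIntegral X] [IsIntegral Y]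

/-- If the direct image of the structure sheaf is trivial on `W`, the fibres over `W` are
geometrically connected. -/
theorem geometricallyConnected_fiber_of_isIso_app {X Y : Scheme.{u}} (f : X ⟶ Y) [IsProper f]
    (W : Y.Opens) (hW : ∀ V : Y.Opens, V ≤ W → IsIso (f.app V)) (y : Y) (hy : y ∈ W) :
    GeometricallyConnected (f.fiberToSpecResidueField y) := by
  haveI : IsProper (f ∣_ W) := IsZariskiLocalAtTarget.restrict (P := @IsProper) inferInstance W
  have h1 : GeometricallyConnected (f ∣_ W) := SteinLib.geometricallyConnected_of_isIso_app _ fun V => by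
    haveI := hW (W.ι ''ᵁ V) (W.ι_image_le V)
    rw [morphismRestrict_app]
    infer_instance
  have hr : Set.range (Y.fromSpecResidueField y).base ⊆ Set.range W.ι.base := by
    rw [Scheme.Opens.range_ι]
    intro z hz
    have : y = z := by simpa [eq_comm] using hz
    exact this ▸ hy
  let j := IsOpenImmersion.lift W.ι (Y.fromSpecResidueField y) hr
  have hj : j ≫ W.ι = Y.fromSpecResidueField y := IsOpenImmersion.lift_fac _ _ _
  have H := isPullback_morphismRestrict f W
  have hp : IsPullback (pullback.snd (f ∣_ W) j) (pullback.fst (f ∣_ W) j ≫ (f ⁻¹ᵁ W).ι) (j ≫ W.ι) f :=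
    (IsPullback.of_hasPullback (f ∣_ W) j).flip.paste_vert H
  rw [hj] at hp
  have e : f.fiberToSpecResidueField y = hp.flip.isoPullback.inv ≫ pullback.snd (f ∣_ W) j :=
    hp.flip.isoPullback_inv_snd.symm
  rw [e, MorphismProperty.cancel_left_of_respectsIso @GeometricallyConnected]
  exact MorphismProperty.pullback_snd (f ∣_ W) j h1

/-- Over an affine open neighbourhood of a point with integrally closed local ring, the direct image
of the structure sheaf becomes trivial after shrinking. -/
theorem exists_isIso_app_nhd [IsLocallyNoetherian Y] (f : X ⟶ Y) [IsProper f]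
    (hdom : f.base (genericPoint X) ⤳ genericPoint Y)
    (halg : ∀ x : X.functionField,
      (∃ q : Polynomial Y.functionField, q ≠ 0 ∧
        Polynomial.eval₂ (CohIII.stalkToFunctionField f (genericPoint Y) hdom) x q = 0) →
      x ∈ Set.range (CohIII.stalkToFunctionField f (genericPoint Y) hdom))
    (y : Y) (hy : IsIntegrallyClosed (Y.presheaf.stalk y)) :
    ∃ W : Y.Opens, y ∈ W ∧ ∀ V : Y.Opens, V ≤ W → IsIso (f.app V) := by
  obtain ⟨U, hU, hyU, -⟩ := exists_isAffineOpen_mem_and_subset (x := y) (U := ⊤) trivial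
  haveI : Nonempty U := ⟨⟨y, hyU⟩⟩
  have hηU : genericPoint Y ∈ U := ((genericPoint_spec Y).mem_open_set_iff U.isOpen).2 ⟨_, trivial, hyU⟩
  have hηV : genericPoint X ∈ f ⁻¹ᵁ U := hdom.mem_open U.isOpen hηU
  haveI : IsFractionRing Γ(Y, U) Y.functionField := functionField_isFractionRing_of_isAffineOpen Y U hU
  set ψ : Y.functionField →+* X.functionField := CohIII.stalkToFunctionField f (genericPoint Y) hdom
  have hψinj : Function.Injective ψ := ψ.injective
  have hψg : ∀ a : Γ(Y, U), ψ (algebraMap Γ(Y, U) Y.functionField a) =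
      X.presheaf.germ (f ⁻¹ᵁ U) _ hηV (f.app U a) := fun a => by
    show f.stalkMap (genericPoint X) (Y.presheaf.stalkSpecializes hdom (Y.presheaf.germ U _ hηU a)) = _
    rw [TopCat.Presheaf.germ_stalkSpecializes_apply]
    exact f.germ_stalkMap_apply U (genericPoint X) hηV a
  have hgX := germ_injective_of_isIntegral (X := X) (genericPoint X) hηV
  have h2 : ψ.comp (algebraMap Γ(Y, U) Y.functionField) =
      (X.presheaf.germ (f ⁻¹ᵁ U) (genericPoint X) hηV).hom.comp (f.app U).hom := RingHom.ext hψg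
  letI := TopCat.Presheaf.algebra_section_stalk Y.presheaf ⟨y, hyU⟩
  haveI := hU.isLocalization_stalk ⟨y, hyU⟩
  haveI : IsScalarTower Γ(Y, U) (Y.presheaf.stalk y) Y.functionField := IsScalarTower.of_algebraMap_eq fun a =>
    (TopCat.Presheaf.germ_stalkSpecializes_apply Y.presheaf hyU
      ((genericPoint_spec Y).specializes (Set.mem_univ y)) a).symm
  have hclear : ∀ b : Γ(X, f ⁻¹ᵁ U), ∃ c : (hU.primeIdealOf ⟨y, hyU⟩).asIdeal.primeCompl,
      ∃ a, f.app U a = f.app U c * b := fun b => by
    obtain ⟨P, hP, hP0⟩ := (RingHom.IsIntegral.of_finite (S1297.finite_app f hU)) b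
    obtain ⟨v, hv⟩ := halg (X.presheaf.germ (f ⁻¹ᵁ U) (genericPoint X) hηV b)
      ⟨P.map (algebraMap Γ(Y, U) Y.functionField), (hP.map _).ne_zero, by
        rw [Polynomial.eval₂_map, h2, ← Polynomial.hom_eval₂, hP0, map_zero]⟩
    have hzint : IsIntegral Γ(Y, U) (v : Y.functionField) := by
      refine ⟨P, hP, hψinj ?_⟩
      rw [map_zero, Polynomial.hom_eval₂, h2, hv, ← Polynomial.hom_eval₂, hP0, map_zero]
    obtain ⟨w, hw⟩ := IsIntegrallyClosed.isIntegral_iff.1 (hzint.tower_top (A := Y.presheaf.stalk y))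
    obtain ⟨⟨a, c⟩, hac⟩ := IsLocalization.surj (hU.primeIdealOf ⟨y, hyU⟩).asIdeal.primeCompl w
    refine ⟨c, a, hgX ?_⟩
    have h3 : v * algebraMap Γ(Y, U) Y.functionField c = algebraMap Γ(Y, U) Y.functionField a := by
      rw [← hw, IsScalarTower.algebraMap_apply Γ(Y, U) (Y.presheaf.stalk y) Y.functionField c,
        ← map_mul, hac, ← IsScalarTower.algebraMap_apply]
    rw [map_mul, ← hψg, ← hψg, ← hv, ← map_mul, mul_comm, h3]
  choose c hc using hclear
  letI := (f.app U).hom.toAlgebra
  obtain ⟨s, hs⟩ := (Module.finite_def.1 (S1297.finite_app f hU) : (⊤ : Submodule Γ(Y, U) Γ(X, f ⁻¹ᵁ U)).FG)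
  set t : Γ(Y, U) := ∏ b ∈ s, (c b : Γ(Y, U)) with ht
  have hyt : y ∈ Y.basicOpen t := by
    rw [Scheme.mem_basicOpen _ _ _ hyU]
    have hmem : t ∈ (hU.primeIdealOf ⟨y, hyU⟩).asIdeal.primeCompl := prod_mem fun b _ => (c b).2
    exact IsLocalization.map_units (Y.presheaf.stalk y)
      (⟨t, hmem⟩ : (hU.primeIdealOf ⟨y, hyU⟩).asIdeal.primeCompl)
  have hspan : ∀ b : Γ(X, f ⁻¹ᵁ U), ∃ a, f.app U a = f.app U t * b := fun b => by
    refine Submodule.span_induction (p := fun b _ => ∃ a, f.app U a = f.app U t * b) (fun b hb => ?_)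
      ⟨0, by simp⟩ (fun b₁ b₂ _ _ ⟨a₁, h₁⟩ ⟨a₂, h₂⟩ => ⟨a₁ + a₂, by rw [map_add, h₁, h₂, mul_add]⟩)
      (fun r b _ ⟨a, ha⟩ => ⟨r * a, by
        rw [map_mul, ha, Algebra.smul_def]
        show _ = _ * (f.app U r * b)
        ring⟩)
      (hs ▸ Submodule.mem_top (x := b))
    obtain ⟨a, ha⟩ := hc b
    classical
    refine ⟨(∏ i ∈ s.erase b, (c i : Γ(Y, U))) * a, ?_⟩
    rw [map_mul, ha, ← mul_assoc, ← map_mul, Finset.prod_erase_mul s _ hb]
  have hbij : Function.Bijective (f.app (Y.basicOpen t)) :=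
    FlatMisc.bijective_app_basicOpen f hU (r := t) (fun a ha => by
      have ha0 : a = 0 := by
        apply IsFractionRing.injective Γ(Y, U) Y.functionField
        apply hψinj
        rw [hψg, ha, map_zero, map_zero, map_zero]
      rw [ha0, mul_zero]) hspan le_rfl
  refine ⟨Y.basicOpen t, hyt, fun V hV => ?_⟩
  set W := Y.basicOpen t
  haveI : IsProper (f ∣_ W) := IsZariskiLocalAtTarget.restrict (P := @IsProper) inferInstance W
  haveI : IsAffine (W : Scheme.{u}) := hU.basicOpen t
  have hg := FlatMisc.isIso_app_of_bijective_affine (f ∣_ W) (fun z => ⟨⊤, isAffineOpen_top _, trivial, by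
    rw [morphismRestrict_app]
    have hb : Function.Bijective (f.app (W.ι ''ᵁ ⊤)) := by
      rw [W.ι_image_top]
      exact hbij
    simp only [CommRingCat.hom_comp, RingHom.coe_comp]
    exact (ConcreteCategory.bijective_of_isIso _).comp hb⟩) (W.ι ⁻¹ᵁ V)
  rw [morphismRestrict_app] at hg
  have hV' : W.ι ''ᵁ W.ι ⁻¹ᵁ V = V := by
    rw [Scheme.Hom.image_preimage_eq_opensRange_inf, Scheme.Opens.opensRange_ι, inf_eq_right.2 hV]
  have : IsIso (f.app (W.ι ''ᵁ W.ι ⁻¹ᵁ V)) := (isIso_comp_right_iff _ _).1 hg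
  rwa [hV'] at this

end Groth.Agent.Ref1X
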