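import Groth.Agent.Ref1X.Finite
import Groth.Agent.Alg6.AssDepth
import Groth.Agent.AssDimLoci.GeomRk
import Groth.Agent.SchTop.Basic
import Groth.Agent.ZClosLib.Basic
import Groth.Agent.QCoh.Support
import Groth.Prelude.Def_CurvBase

/-!
# Morphisms which are isomorphisms off points of depth two
-/

universe u

set_option backward.isDefEq.respectTransparency false
set_option backward.isDefEq.respectTransparency.types false
set_option linter.style.haveILetI false

open CategoryTheory AlgebraicGeometry TopologicalSpace Opposite IsLocalRing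

namespace Groth.Agent.Ref1X

/-- The algebraic core of the depth two argument. -/
theorem bijective_of_depth_two {R M N : Type u} [CommRing R] [IsLocalRing R] [IsNoetherianRing R]
    [AddCommGroup M] [Module R M] [Module.Finite R M] [AddCommGroup N] [Module R N] (φ : M →ₗ[R] N)
    (hd : (2 : ℕ∞) ≤ LocCoh.depth R M) (hN : maximalIdeal R ∉ associatedPrimes R N)
    (hker : ∀ k, φ k = 0 → ∃ n : ℕ, ∀ r ∈ maximalIdeal R ^ n, r • k = 0)
    (hcok : ∀ c, ∃ n : ℕ, ∀ r ∈ maximalIdeal R ^ n, r • c ∈ LinearMap.range φ) :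
    Function.Bijective φ := by
  obtain ⟨hM, hquot⟩ := Alg6.two_le_depth_iff'.1 hd
  obtain ⟨a, ha, hreg⟩ := (Alg6.exists_isSMulRegular_mem_iff (M := M) (maximalIdeal R)).2 fun p hp hle => by
    haveI := IsAssociatedPrime.isPrime (AssociatedPrimes.mem_iff.mp hp)
    exact hM ((le_antisymm hle (le_maximalIdeal Ideal.IsPrime.ne_top')).symm ▸ hp)
  obtain ⟨b, hb, hbreg⟩ := (Alg6.exists_isSMulRegular_mem_iff (M := QuotSMulTop a M) (maximalIdeal R)).2
    fun p hp hle => by
      haveI := IsAssociatedPrime.isPrime (AssociatedPrimes.mem_iff.mp hp)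
      exact hquot a ha hreg ((le_antisymm hle (le_maximalIdeal Ideal.IsPrime.ne_top')).symm ▸ hp)
  have hinj : Function.Injective φ := (injective_iff_map_eq_zero φ).2 fun k hk => by
    obtain ⟨n, hn⟩ := hker k hk
    have := (hreg.pow n) (a₁ := k) (a₂ := 0) ((hn _ (Ideal.pow_mem_pow ha n)).trans (smul_zero _).symm)
    exact this
  have hkill : ∀ e : N, (∀ r ∈ maximalIdeal R, r • e = 0) → e = 0 := fun e he => by
    by_contra h0
    refine hN (Alg6.mem_ass_iff.2 ⟨(maximalIdeal.isMaximal R).isPrime, e, fun r => ⟨he r, fun hr => ?_⟩⟩)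
    by_contra hrm
    obtain ⟨u, rfl⟩ := IsLocalRing.notMem_maximalIdeal.1 hrm
    exact h0 (u.isUnit.smul_eq_zero.1 hr)
  have hstep : ∀ c : N, (∀ r ∈ maximalIdeal R, r • c ∈ LinearMap.range φ) → c ∈ LinearMap.range φ := by
    intro c hc
    obtain ⟨f, hf⟩ := hc a ha
    obtain ⟨f', hf'⟩ := hc b hb
    have h1 : b • f = a • f' := hinj (by rw [map_smul, map_smul, hf, hf', smul_comm])
    have h2 : (Submodule.Quotient.mk f : QuotSMulTop a M) = 0 := hbreg (by
      dsimp only
      rw [← Submodule.Quotient.mk_smul, smul_zero]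
      exact Alg6.mem_pointwise_smul_top_iff.mpr ⟨f', h1.symm⟩)
    obtain ⟨g, hg⟩ := Alg6.mem_pointwise_smul_top_iff.mp h2
    have h3 : ∀ r ∈ maximalIdeal R, r • (c - φ g) = 0 := fun r hr => by
      obtain ⟨h, hh⟩ : r • (c - φ g) ∈ LinearMap.range φ := by
        rw [smul_sub, ← map_smul]
        exact sub_mem (hc r hr) (LinearMap.mem_range_self φ _)
      have h4 : a • h = 0 := hinj (by
        rw [map_smul, map_zero, hh, smul_comm, smul_sub, ← hf, ← map_smul, hg, sub_self, smul_zero])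
      rw [← hh, hreg (h4.trans (smul_zero a).symm), map_zero]
    exact ⟨g, (sub_eq_zero.1 (hkill _ h3)).symm⟩
  refine ⟨hinj, fun c => ?_⟩
  obtain ⟨n, hn⟩ := hcok c
  suffices h : ∀ (n : ℕ) (c : N), (∀ r ∈ maximalIdeal R ^ n, r • c ∈ LinearMap.range φ) → c ∈ LinearMap.range φ from
    h n c hn
  intro n
  induction n with
  | zero => intro c hc; simpa using hc 1 (by simp)
  | succ n ih =>
    intro c hc
    refine hstep c fun r hr => ih _ fun s hs => ?_
    rw [← mul_smul]
    exact hc _ (by rw [pow_succ]; exact Ideal.mul_mem_mul hs hr)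

variable {X : Scheme.{u}} [IsLocallyNoetherian X] {F G : X.Modules}

/-- An ideal all of whose containing primes are maximal contains a power of the maximal ideal. -/
theorem exists_pow_le {R : Type u} [CommRing R] [IsLocalRing R] [IsNoetherianRing R] (I : Ideal R)
    (h : ∀ P : Ideal R, P.IsPrime → I ≤ P → P = maximalIdeal R) : ∃ n : ℕ, maximalIdeal R ^ n ≤ I := by
  refine Ideal.exists_pow_le_of_le_radical_of_fg ?_ (IsNoetherian.noetherian _)
  rw [Ideal.radical_eq_sInf]
  exact le_sInf fun P hP => (h P hP.2 hP.1).ge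

/-- Bijectivity of the stalk map at a point of depth two, given it at the proper generizations. -/
theorem stalkMap_bijective_of_depth (hF : Coh.IsCoh F) (hG : Coh.IsQCoh G) (φ : F ⟶ G) (x : X)
    (hd : (2 : ℕ∞) ≤ LocCoh.depth (X.presheaf.stalk x) (F.presheaf.stalk x))
    (hx : maximalIdeal (X.presheaf.stalk x) ∉ associatedPrimes (X.presheaf.stalk x) (G.presheaf.stalk x))
    (hgen : ∀ t, t ⤳ x → t ≠ x → Function.Bijective (RefHull.stalkMapₗ φ t)) :
    Function.Bijective (RefHull.stalkMapₗ φ x) := by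
  haveI := QCoh.finite_stalk_of_isFT hF.1 hF.2 x
  obtain ⟨V, hV, hxV, -⟩ := exists_isAffineOpen_mem_and_subset (x := x) (U := ⊤) trivial
  letI := QCoh.stalkAlg (X := X) hxV
  haveI := QCoh.isLocalization_stalk' hV hxV
  have hpt : ∀ P : Ideal (X.presheaf.stalk x), P.IsPrime → P ≠ maximalIdeal _ →
      ∃ (t : X) (htV : t ∈ V), t ⤳ x ∧ t ≠ x ∧
        ∀ s : Γ(X, V), t ∈ X.basicOpen s → X.presheaf.germ V x hxV s ∉ P := by
    intro P hP hne
    obtain ⟨t, htV, ht⟩ := QCoh.exists_point hV (PrimeSpectrum.comap (algebraMap Γ(X, V) (X.presheaf.stalk x)) ⟨P, hP⟩)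
    refine ⟨t, htV, (AssLib.primeIdealOf_le_iff hV hxV htV).1 ?_, ?_, fun s hs hsP => ?_⟩
    · rw [ht]
      show P.comap _ ≤ _
      exact le_of_le_of_eq (Ideal.comap_mono (le_maximalIdeal hP.ne_top)) (AssLib.comap_maximalIdeal_stalk hV hxV)
    · rintro rfl
      refine hne ?_
      have h1 := congrArg PrimeSpectrum.asIdeal ht
      change _ = P.comap _ at h1
      rw [← AssLib.comap_maximalIdeal_stalk hV hxV] at h1
      have h2 := congrArg (Ideal.map (algebraMap Γ(X, V) (X.presheaf.stalk t))) h1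
      exact ((IsLocalization.map_under (hV.primeIdealOf ⟨t, hxV⟩).asIdeal.primeCompl _ P).symm.trans
        (h2.symm.trans (IsLocalization.map_under (hV.primeIdealOf ⟨t, hxV⟩).asIdeal.primeCompl _ (maximalIdeal (X.presheaf.stalk t)))))
    · refine (QCoh.mem_basicOpen_iff_notMem hV htV s).1 hs ?_
      rw [ht]
      exact hsP
  have hunit : ∀ y : F.presheaf.stalk x, ∃ (u : (X.presheaf.stalk x)ˣ) (m : Γ(F, V)),
      y = (u : X.presheaf.stalk x) • F.presheaf.germ V x hxV m := fun y => by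
    letI := QCoh.stalkModule F hxV
    haveI := QCoh.isLocalizedModule_germLin hF.1 hV hxV
    obtain ⟨⟨m, s⟩, hms⟩ := IsLocalizedModule.surj (hV.primeIdealOf ⟨x, hxV⟩).asIdeal.primeCompl (QCoh.germLin F hxV) y
    obtain ⟨u, hu⟩ := IsLocalization.map_units (M := (hV.primeIdealOf ⟨x, hxV⟩).asIdeal.primeCompl) (X.presheaf.stalk x) s
    refine ⟨u⁻¹, m, ?_⟩
    have h : X.presheaf.germ V x hxV (s : Γ(X, V)) • y = F.presheaf.germ V x hxV m := hms
    rw [← h, show X.presheaf.germ V x hxV (s : Γ(X, V)) = (u : X.presheaf.stalk x) from hu.symm, ← mul_smul, Units.inv_mul, one_smul]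
  have hunitG : ∀ y : G.presheaf.stalk x, ∃ (u : (X.presheaf.stalk x)ˣ) (m : Γ(G, V)),
      y = (u : X.presheaf.stalk x) • G.presheaf.germ V x hxV m := fun y => by
    letI := QCoh.stalkModule G hxV
    haveI := QCoh.isLocalizedModule_germLin hG hV hxV
    obtain ⟨⟨m, s⟩, hms⟩ := IsLocalizedModule.surj (hV.primeIdealOf ⟨x, hxV⟩).asIdeal.primeCompl (QCoh.germLin G hxV) y
    obtain ⟨u, hu⟩ := IsLocalization.map_units (M := (hV.primeIdealOf ⟨x, hxV⟩).asIdeal.primeCompl) (X.presheaf.stalk x) s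
    refine ⟨u⁻¹, m, ?_⟩
    have h : X.presheaf.germ V x hxV (s : Γ(X, V)) • y = G.presheaf.germ V x hxV m := hms
    rw [← h, show X.presheaf.germ V x hxV (s : Γ(X, V)) = (u : X.presheaf.stalk x) from hu.symm, ← mul_smul, Units.inv_mul, one_smul]
  refine bijective_of_depth_two _ hd hx (fun k hk => ?_) fun c => ?_
  · let I : Ideal (X.presheaf.stalk x) :=
      { carrier := {r | r • k = 0}
        add_mem' := fun {r s} (hr : r • k = 0) (hs : s • k = 0) => show (r + s) • k = 0 by rw [add_smul, hr, hs, add_zero]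
        zero_mem' := show (0 : X.presheaf.stalk x) • k = 0 from zero_smul _ _
        smul_mem' := fun r s (hs : s • k = 0) => show (r • s) • k = 0 by rw [smul_eq_mul, mul_smul, hs, smul_zero] }
    refine (exists_pow_le I fun P hP hle => by_contra fun hne => ?_).imp fun n hn r hr => hn hr
    obtain ⟨t, htV, htx, htne, hnot⟩ := hpt P hP hne
    obtain ⟨u, m, rfl⟩ := hunit k
    rw [map_smul, u.isUnit.smul_eq_zero, RefHull.stalkMapₗ_germ] at hk
    obtain ⟨s, hs, hs0⟩ := (QCoh.germ_eq_zero_iff hG hV hxV _).1 hk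
    have htX : t ∈ X.basicOpen s := htx.mem_open (X.basicOpen s).isOpen hs
    have h1 : F.presheaf.germ V t htV (s • m) = 0 := (hgen t htx htne).1 (by
      rw [map_zero, RefHull.stalkMapₗ_germ, Scheme.Modules.Hom.app_smul, hs0, map_zero])
    obtain ⟨s', hs', hs0'⟩ := (QCoh.germ_eq_zero_iff hF.1 hV htV _).1 h1
    refine hnot (s' * s) (by rw [X.basicOpen_mul]; exact ⟨hs', htX⟩) (hle ?_)
    show _ • (u : X.presheaf.stalk x) • _ = 0
    rw [smul_comm, ← QCoh.germ_smul', mul_smul, hs0', map_zero, smul_zero]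
  · let I : Ideal (X.presheaf.stalk x) := (LinearMap.range (RefHull.stalkMapₗ φ x)).comap
      (LinearMap.toSpanSingleton (X.presheaf.stalk x) (G.presheaf.stalk x) c)
    refine (exists_pow_le I fun P hP hle => by_contra fun hne => ?_).imp fun n hn r hr => hn hr
    obtain ⟨t, htV, htx, htne, hnot⟩ := hpt P hP hne
    obtain ⟨u, m, rfl⟩ := hunitG c
    obtain ⟨f', hf'⟩ := (hgen t htx htne).2 (G.presheaf.germ V t htV m)
    letI := QCoh.stalkModule F htV
    haveI := QCoh.isLocalizedModule_germLin hF.1 hV htV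
    obtain ⟨⟨f, s₂⟩, hfs⟩ := IsLocalizedModule.surj (hV.primeIdealOf ⟨t, htV⟩).asIdeal.primeCompl (QCoh.germLin F htV) f'
    have hfs' : X.presheaf.germ V t htV (s₂ : Γ(X, V)) • f' = F.presheaf.germ V t htV f := hfs
    have h0 : G.presheaf.germ V t htV ((s₂ : Γ(X, V)) • m - φ.app V f) = 0 := by
      rw [map_sub, QCoh.germ_smul', ← RefHull.stalkMapₗ_germ, ← hfs', map_smul, hf', sub_self]
    obtain ⟨s₃, hs₃, h3⟩ := (QCoh.germ_eq_zero_iff hG hV htV _).1 h0
    refine hnot (s₃ * s₂) (by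
      rw [X.basicOpen_mul]
      exact ⟨hs₃, (QCoh.mem_basicOpen_iff_notMem hV htV _).2 s₂.2⟩) (hle ?_)
    show X.presheaf.germ V x hxV (s₃ * s₂) • (u : X.presheaf.stalk x) • G.presheaf.germ V x hxV m ∈
      LinearMap.range (RefHull.stalkMapₗ φ x)
    rw [smul_comm, ← QCoh.germ_smul']
    refine Submodule.smul_mem _ _ ⟨F.presheaf.germ V x hxV (s₃ • f), ?_⟩
    rw [RefHull.stalkMapₗ_germ, Scheme.Modules.Hom.app_smul, mul_smul]
    rw [smul_sub, sub_eq_zero] at h3
    rw [h3]

/-- A morphism bijective on stalks off points of depth two is an isomorphism. -/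
theorem isIso_of_depth_two (hF : Coh.IsCoh F) (hG : Coh.IsQCoh G) (φ : F ⟶ G)
    (h : ∀ x : X, Function.Bijective (RefHull.stalkMapₗ φ x) ∨
      ((2 : ℕ∞) ≤ LocCoh.depth (X.presheaf.stalk x) (F.presheaf.stalk x) ∧
        maximalIdeal (X.presheaf.stalk x) ∉ associatedPrimes (X.presheaf.stalk x) (G.presheaf.stalk x))) :
    IsIso φ := by
  refine ZClosLib.isIso_of_stalkMap_bijective φ fun x => ?_
  show Function.Bijective (RefHull.stalkMapₗ φ x)
  suffices hn : ∀ (n : ℕ) (x : X), Order.coheight x < n → Function.Bijective (RefHull.stalkMapₗ φ x) by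
    obtain ⟨n, hn'⟩ := ENat.ne_top_iff_exists.1 (SchTop.coheight_lt_top x).ne
    exact hn (n + 1) x (by rw [← hn']; exact_mod_cast Nat.lt_succ_self n)
  intro n
  induction n with
  | zero => intro x hx; simp at hx
  | succ n ih =>
    intro x hx
    rcases h x with hb | ⟨hd, hass⟩
    · exact hb
    refine stalkMap_bijective_of_depth hF hG φ x hd hass fun t htx hne => ih t ?_
    obtain ⟨a, ha⟩ := ENat.ne_top_iff_exists.1 (SchTop.coheight_lt_top x).ne
    obtain ⟨b, hb⟩ := ENat.ne_top_iff_exists.1 (SchTop.coheight_lt_top t).ne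
    have h1 := coheight_add_one_le htx hne
    rw [← ha, ← hb] at h1
    rw [← ha] at hx
    rw [← hb]
    norm_cast at h1 hx ⊢
    omega

end Groth.Agent.Ref1X
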