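import Groth.Agent.QCoh.LocFree
import Groth.Agent.QCoh.FT
import Groth.Agent.Ref1X.Generic

/-!
# Modules of finite type on integral schemes are generically free
-/

universe u

set_option backward.isDefEq.respectTransparency false
set_option backward.isDefEq.respectTransparency.types false
set_option linter.style.haveILetI false

open CategoryTheory AlgebraicGeometry TopologicalSpace Opposite

namespace Groth.Agent.Ref1X

/-- Finite modules over domains are free after inverting one element. -/
theorem exists_basis_away {A M K V : Type u} [CommRing A] [IsDomain A] [AddCommGroup M] [Module A M]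
    [Module.Finite A M] [CommRing K] [Algebra A K] [AddCommGroup V] [Module A V] [Module K V]
    [IsScalarTower A K V] (S : Submonoid A) (hS : S ≤ nonZeroDivisors A) [IsLocalization S K]
    (j : M →ₗ[A] V) [IsLocalizedModule S j] {r : ℕ} (b : Module.Basis (Fin r) K V) :
    ∃ (f : A) (_ : f ∈ S) (m : Fin r → M), LinearIndependent A (fun i => j (m i)) ∧
      ∀ x : M, f • x ∈ Submodule.span A (Set.range m) := by
  classical
  choose ms hms using fun i => IsLocalizedModule.surj S j (b i)
  have hu : ∀ s : S, IsUnit (algebraMap A K (s : A)) := fun s => IsLocalization.map_units K s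
  refine (?_ : ∃ f ∈ S, _).imp fun f ⟨hf, h⟩ => ⟨hf, fun i => (ms i).1, ?_, h⟩
  rotate_left
  · have h1 : LinearIndependent K (fun i => j (ms i).1) := by
      have h2 := b.linearIndependent.units_smul fun i => (hu (ms i).2).unit
      have e : (fun i => j (ms i).1) = ((fun i => (hu (ms i).2).unit) • ⇑b) := funext fun i => by
        show j (ms i).1 = (algebraMap A K ((ms i).2 : A)) • b i
        rw [algebraMap_smul]
        exact (hms i).symm
      exact e ▸ h2
    refine h1.restrict_scalars ?_
    intro a a' haa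
    refine IsLocalization.injective K hS ?_
    simpa [Algebra.smul_def] using haa
  have hspan : ∀ v : V, ∃ s ∈ S, ∃ m ∈ Submodule.span A (Set.range fun i => (ms i).1), s • v = j m := by
    intro v
    have hv : v ∈ Submodule.span K (Set.range b) := by rw [b.span_eq]; trivial
    induction hv using Submodule.span_induction with
    | mem v hv =>
      obtain ⟨i, rfl⟩ := hv
      exact ⟨_, (ms i).2.2, _, Submodule.subset_span ⟨i, rfl⟩, hms i⟩
    | zero => exact ⟨1, S.one_mem, 0, zero_mem _, by rw [smul_zero, map_zero]⟩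
    | add v w _ _ hv hw =>
      obtain ⟨s, hs, m, hm, e⟩ := hv
      obtain ⟨t, ht, n, hn, e'⟩ := hw
      refine ⟨s * t, S.mul_mem hs ht, t • m + s • n, add_mem (Submodule.smul_mem _ _ hm) (Submodule.smul_mem _ _ hn), ?_⟩
      rw [map_add, map_smul, map_smul, ← e, ← e', smul_add, mul_smul, mul_smul]
      exact congrArg₂ (· + ·) (smul_comm s t v) rfl
    | smul c v _ hv =>
      obtain ⟨s, hs, m, hm, e⟩ := hv
      obtain ⟨a, t, rfl⟩ := IsLocalization.exists_mk'_eq S c
      refine ⟨t * s, S.mul_mem t.2 hs, a • m, Submodule.smul_mem _ _ hm, ?_⟩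
      rw [map_smul, ← e, mul_comm (t : A) s, mul_smul]
      rw [show (t : A) • IsLocalization.mk' K a t • v = a • v by
        rw [← smul_assoc, IsLocalization.smul_mk'_self, algebraMap_smul]]
      exact smul_comm _ _ _
  have hx : ∀ x : M, ∃ s ∈ S, s • x ∈ Submodule.span A (Set.range fun i => (ms i).1) := fun x => by
    obtain ⟨s, hs, m, hm, e⟩ := hspan (j x)
    rw [← map_smul] at e
    obtain ⟨c, hc⟩ := IsLocalizedModule.exists_of_eq (S := S) (f := j) e
    exact ⟨c * s, S.mul_mem c.2 hs, by rw [mul_smul]; exact (show (c : A) • s • x = (c : A) • m from hc) ▸ Submodule.smul_mem _ _ hm⟩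
  obtain ⟨G, hG⟩ := (inferInstance : Module.Finite A M).fg_top
  choose s hs hsx using hx
  refine ⟨∏ x ∈ G, s x, prod_mem fun x _ => hs x, fun x => ?_⟩
  have hxG : x ∈ Submodule.span A (G : Set M) := by rw [hG]; trivial
  induction hxG using Submodule.span_induction with
  | mem x hx =>
    obtain ⟨c, hc⟩ := Finset.dvd_prod_of_mem s hx
    rw [hc, mul_comm, mul_smul]
    exact Submodule.smul_mem _ _ (hsx x)
  | zero => rw [smul_zero]; exact zero_mem _
  | add x y _ _ hx hy => rw [smul_add]; exact add_mem hx hy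
  | smul a x _ hx => rw [smul_comm]; exact Submodule.smul_mem _ _ hx

variable {X : Scheme.{u}} [IsIntegral X]

theorem exists_open_free (F : X.Modules) (hF : Coh.IsQCoh F) (hft : CohB1.IsFT F) :
    ∃ U : X.Opens, (U : Set X).Nonempty ∧ Nonempty (F.restrict U.ι ≅ FlatMod.freeMod (U : Scheme.{u})
      (Module.finrank (X.presheaf.stalk (genericPoint X)) (F.presheaf.stalk (genericPoint X)))) := by
  obtain ⟨_, ⟨U, hU, rfl⟩, hη, -⟩ :=
    X.isBasis_affineOpens.exists_subset_of_mem_open (Set.mem_univ (genericPoint X)) isOpen_univ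
  have hU' : IsAffineOpen U := hU
  haveI : Nonempty U := ⟨⟨_, hη⟩⟩
  haveI := QCoh.finite_of_isFT hF hft hU'
  haveI := QCoh.finite_stalk_of_isFT hF hft (genericPoint X)
  letI : Field (X.presheaf.stalk (genericPoint X)) := inferInstanceAs (Field X.functionField)
  letI := QCoh.stalkAlg (X := X) hη
  letI := QCoh.stalkModule F hη
  haveI := QCoh.isScalarTower_stalk F hη
  haveI := QCoh.isLocalization_stalk' hU' hη
  haveI := QCoh.isLocalizedModule_germLin hF hU' hη
  set p := (hU'.primeIdealOf ⟨genericPoint X, hη⟩).asIdeal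
  obtain ⟨f, hf, m, hli, hsp⟩ := exists_basis_away p.primeCompl p.primeCompl_le_nonZeroDivisors (QCoh.germLin F hη)
    (Module.finBasis (X.presheaf.stalk (genericPoint X)) (F.presheaf.stalk (genericPoint X)))
  have hηf : genericPoint X ∈ X.basicOpen f := (QCoh.mem_basicOpen_iff_notMem hU' hη f).2 hf
  refine ⟨X.basicOpen f, ⟨_, hηf⟩, QCoh.exists_free_restrict hF (hU'.basicOpen f) ?_⟩
  letI := QCoh.basicModule f F
  haveI := hU'.isLocalization_basicOpen f
  haveI := QCoh.isLocalizedModule_basicRes f hF hU'
  haveI : IsScalarTower Γ(X, U) Γ(X, X.basicOpen f) Γ(F, X.basicOpen f) :=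
    IsScalarTower.of_algebraMap_smul fun _ _ => rfl
  have hli' : LinearIndependent Γ(X, X.basicOpen f) fun i => QCoh.basicRes f F (m i) := by
    refine LinearIndependent.localization Γ(X, X.basicOpen f) (Submonoid.powers f) (linearIndependent_iff'.2 fun t c hc i hi => ?_)
    refine linearIndependent_iff'.1 hli t c ?_ i hi
    have h1 : QCoh.basicRes f F (∑ i ∈ t, c i • m i) = 0 := by simpa using hc
    obtain ⟨s, hs⟩ := (IsLocalizedModule.eq_zero_iff (Submonoid.powers f) (QCoh.basicRes f F)).1 h1
    obtain ⟨k, hk⟩ := s.2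
    have hu : IsUnit (algebraMap Γ(X, U) (X.presheaf.stalk (genericPoint X)) (s : Γ(X, U))) :=
      IsLocalization.map_units (M := p.primeCompl) _ ⟨_, hk.subst (motive := fun z => z ∈ p.primeCompl) (pow_mem (S := p.primeCompl) hf k)⟩
    refine hu.smul_eq_zero.1 ?_
    rw [algebraMap_smul]
    simp only [← map_smul, ← map_sum]
    exact (congrArg _ (show (s : Γ(X, U)) • ∑ i ∈ t, c i • m i = 0 from hs)).trans (map_zero _)
  have hspan : ⊤ ≤ Submodule.span Γ(X, X.basicOpen f) (Set.range fun i => QCoh.basicRes f F (m i)) := by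
    intro v _
    obtain ⟨⟨x, s⟩, hx⟩ := IsLocalizedModule.surj (Submonoid.powers f) (QCoh.basicRes f F) v
    have h1 : (algebraMap Γ(X, U) Γ(X, X.basicOpen f) (s * f : Γ(X, U))) • v ∈
        Submodule.span Γ(X, X.basicOpen f) (Set.range fun i => QCoh.basicRes f F (m i)) := by
      rw [algebraMap_smul, mul_comm, mul_smul, show (s : Γ(X, U)) • v = _ from hx, ← map_smul]
      have h2 := Submodule.mem_map_of_mem (f := QCoh.basicRes f F) (hsp x)
      rw [Submodule.map_span, ← Set.range_comp] at h2
      exact Submodule.span_le_restrictScalars Γ(X, U) _ _ h2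
    obtain ⟨k, hk⟩ := s.2
    have hu : IsUnit (algebraMap Γ(X, U) Γ(X, X.basicOpen f) (s * f : Γ(X, U))) := by
      rw [map_mul]
      exact (IsLocalization.map_units _ s).mul (IsLocalization.map_units _ (⟨f, Submonoid.mem_powers f⟩ : Submonoid.powers f))
    obtain ⟨w, hw⟩ := hu.exists_left_inv
    have h3 := Submodule.smul_mem _ w h1
    rwa [← mul_smul, hw, one_smul] at h3
  exact ((Module.Basis.mk hli' hspan).reindex Equiv.ulift.symm).repr

end Groth.Agent.Ref1X
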