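import Groth.Agent.Ref1X.Finite
import Groth.Agent.QCoh.Qcqs
import Groth.Prelude.Def_MeroSh

/-!
# The sheaf of a Weil divisor, as a subsheaf of the constant sheaf of rational functions
-/

universe u

set_option backward.isDefEq.respectTransparency false
set_option backward.isDefEq.respectTransparency.types false
set_option linter.style.haveILetI false

open CategoryTheory AlgebraicGeometry TopologicalSpace Opposite

namespace Groth.Agent.Ref1X.OD

variable {X : Scheme.{u}} [IsIntegral X] [IsLocallyNoetherian X] (hX : Pi1.IsNormalScheme X) (D : X → ℤ)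

/-- The order condition. -/
def Cond (y : X) (v : X.functionField) : Prop := v = 0 ∨ -D y ≤ Scheme.ord v y

/-- Constant families satisfying the order condition in codimension one. -/
def loc : TopCat.LocalPredicate (fun _ : X => (X.functionField : Type u)) where
  pred {U} f := (∀ p q : U, f p = f q) ∧ ∀ y : U, Order.coheight y.1 = 1 → Cond D y.1 (f y)
  res {V U} i f h := ⟨fun p q => h.1 (i p) (i q), fun y hy => h.2 (i y) hy⟩
  locality {U} f h := by
    refine ⟨fun p q => ?_, fun y hy => ?_⟩
    · obtain ⟨V, hp, i, hV⟩ := h p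
      obtain ⟨V', hq, j, hV'⟩ := h q
      exact (hV.1 ⟨p.1, hp⟩ ⟨_, eta_mem hp⟩).trans (hV'.1 ⟨_, eta_mem hq⟩ ⟨q.1, hq⟩)
    · obtain ⟨V, hy', i, hV⟩ := h y
      exact hV.2 ⟨y.1, hy'⟩ hy

/-- The predicate, with normality recorded. -/
def locN (_hX : Pi1.IsNormalScheme X) : TopCat.LocalPredicate (fun _ : X => (X.functionField : Type u)) := loc D

omit hX in
theorem germ_algebraMap_eq {U : X.Opens} (r : Γ(X, U)) {p q : X} (hp : p ∈ U) (hq : q ∈ U) :
    algebraMap (X.presheaf.stalk p) X.functionField (X.presheaf.germ U p hp r) =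
      algebraMap (X.presheaf.stalk q) X.functionField (X.presheaf.germ U q hq r) :=
  (spR_germ (eta_le p) hp r).trans (spR_germ (eta_le q) hq r).symm

omit hX in
theorem smul_def (x : X) (a : X.presheaf.stalk x) (v : X.functionField) :
    a • v = algebraMap (X.presheaf.stalk x) X.functionField a * v := Algebra.smul_def a v

omit hX in
theorem cond_mul {y : X} {v w : X.functionField} (hw : CDiv6.Reg y w) (hv : Cond D y v) : Cond D y (w * v) := by
  by_cases hw0 : w = 0
  · exact Or.inl (by rw [hw0, zero_mul])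
  rcases hv with rfl | hv
  · exact Or.inl (mul_zero w)
  by_cases hv0 : v = 0
  · exact Or.inl (by rw [hv0, mul_zero])
  refine Or.inr ?_
  rw [Scheme.ord_mul hw0 hv0]
  have := CDiv6.reg_ord_nonneg hw0 hw
  omega

include hX in
theorem cond_add {y : X} (hy : Order.coheight y = 1) {v w : X.functionField} (hv : Cond D y v)
    (hw : Cond D y w) : Cond D y (v + w) := by
  haveI := CDiv6.isDVR_of_coheight_one hX hy
  by_cases h : v + w = 0
  · exact Or.inl h
  rcases hv with rfl | hv
  · rwa [zero_add]
  rcases hw with rfl | hw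
  · rw [add_zero]; exact Or.inr hv
  exact Or.inr ((le_min hv hw).trans (Scheme.ord_add h))

instance : Mero.IsModPred (locN D hX) where
  zero U := ⟨fun _ _ => rfl, fun y _ => Or.inl rfl⟩
  add U f g hf hg := ⟨fun p q => congrArg₂ (· + ·) (hf.1 p q) (hg.1 p q),
    fun y hy => cond_add hX D hy (hf.2 y hy) (hg.2 y hy)⟩
  smul U r f hf := ⟨fun p q => by
      show X.presheaf.germ U p.1 p.2 r • f p = X.presheaf.germ U q.1 q.2 r • f q
      rw [smul_def, smul_def, germ_algebraMap_eq r p.2 q.2, hf.1 p q],
    fun y hy => by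
      show Cond D y.1 (X.presheaf.germ U y.1 y.2 r • f y)
      rw [smul_def]
      exact cond_mul D ⟨_, rfl⟩ (hf.2 y hy)⟩

/-- The module of the divisor. -/
noncomputable def M : X.Modules := Mero.modOf (locN D hX)

variable {hX D}

/-- The rational function of a section. -/
noncomputable def val {U : X.Opens} (s : Γ(M hX D, U)) (hη : genericPoint X ∈ U) : X.functionField := s.1 ⟨_, hη⟩

theorem apply_eq_val {U : X.Opens} (s : Γ(M hX D, U)) (hη : genericPoint X ∈ U) (p : U) : s.1 p = val s hη :=
  s.2.1 _ _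

theorem cond_val {U : X.Opens} (s : Γ(M hX D, U)) {y : X} (hyU : y ∈ U) (hy : Order.coheight y = 1) :
    Cond D y (val s (eta_mem hyU)) := by
  have h : Cond D y (s.1 ⟨y, hyU⟩) := s.2.2 ⟨y, hyU⟩ hy
  rwa [apply_eq_val s (eta_mem hyU)] at h

theorem ext_val {U : X.Opens} {s t : Γ(M hX D, U)} (h : ∀ hη : genericPoint X ∈ U, val s hη = val t hη) : s = t :=
  Subtype.ext <| funext fun p => by
    rw [apply_eq_val s (eta_mem p.2), apply_eq_val t (eta_mem p.2), h]

theorem val_smul {U : X.Opens} (r : Γ(X, U)) (s : Γ(M hX D, U)) (hη : genericPoint X ∈ U) :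
    val (r • s) hη = X.presheaf.germ U _ hη r * val s hη := by
  refine (Mero.modOf_smul_apply (locN D hX) r s ⟨_, hη⟩).trans ((smul_def _ _ _).trans ?_)
  exact congrArg (· * val s hη) (spR_germ (eta_le _) hη r)

theorem val_res {U V : X.Opens} (h : V ≤ U) (s : Γ(M hX D, U)) (hη : genericPoint X ∈ V) :
    val (AModX.res (M hX D) h s) hη = val s (h hη) := rfl

/-- A section with prescribed rational function. -/
def mk (U : X.Opens) (v : X.functionField) (h : ∀ y ∈ U, Order.coheight y = 1 → Cond D y v) : Γ(M hX D, U) :=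
  ⟨fun _ => v, fun _ _ => rfl, fun y hy => h y.1 y.2 hy⟩

theorem val_mk (U : X.Opens) (v : X.functionField) (h : ∀ y ∈ U, Order.coheight y = 1 → Cond D y v)
    (hη : genericPoint X ∈ U) : val (mk (hX := hX) U v h) hη = v := rfl

theorem exists_fn {U : X.Opens} (hη : genericPoint X ∈ U) (v : X.functionField)
    (h : ∀ y ∈ U, Order.coheight y = 1 → v = 0 ∨ 0 ≤ Scheme.ord v y) (hX : Pi1.IsNormalScheme X) :
    ∃ r : Γ(X, U), X.presheaf.germ U _ hη r = v := by
  have hinj := unit_gsp_injective (X := X)
  obtain ⟨s, hs⟩ := exists_section hinj hη (RefX.unitStalk (genericPoint X) v) fun y hy => by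
    by_cases hv : v = 0
    · exact ⟨0, by rw [map_zero, hv, map_zero]⟩
    obtain ⟨c, hc⟩ := CDiv6.reg_of_forall_ord_nonneg hX (x := y) hv fun z hzy hz =>
      (h z (hzy.mem_open U.isOpen hy) hz).resolve_left hv
    exact ⟨RefX.unitStalk y c, (sp_unitStalk _ c).trans (congrArg _ hc)⟩
  refine ⟨show Γ(X, U) from s, (RefX.unitStalk (genericPoint X)).injective ?_⟩
  refine Eq.trans ?_ hs
  show X.presheaf.germ U _ hη (show Γ(X, U) from s) • (Coh.structureModule X).presheaf.germ ⊤ (genericPoint X) trivial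
    (show Γ(Coh.structureModule X, ⊤) from (1 : Γ(X, ⊤))) = _
  rw [← RefX.germ_res (Coh.structureModule X) (le_top : U ≤ ⊤) hη
    (show Γ(Coh.structureModule X, ⊤) from (1 : Γ(X, ⊤))), ← QCoh.germ_smul']
  refine congrArg _ ?_
  show (show Γ(X, U) from s) * AModX.resR (le_top : U ≤ ⊤) 1 = _
  rw [map_one, mul_one]

/-- A rational function whose divisor is `-D` on `W` gives a frame. -/
theorem isFrame_mk {W : X.Opens} {φ : X.functionField} (hφ : φ ≠ 0)
    (h : ∀ y ∈ W, Order.coheight y = 1 → Scheme.ord φ y = -D y) :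
    InvX.IsFrame (M := M hX D) (mk W φ fun y hy h1 => Or.inr (h y hy h1).ge) := by
  intro V hV
  refine ⟨fun r r' hr => ?_, fun s => ?_⟩
  · refine TopCat.Presheaf.section_ext X.sheaf V r r' fun y hy => spR_injective y ?_
    show spR X _ (X.presheaf.germ V y hy r) = spR X _ (X.presheaf.germ V y hy r')
    rw [spR_germ, spR_germ]
    have h1 := congrArg (fun z => val z (eta_mem hy)) hr
    simp only [val_smul, val_res, val_mk] at h1
    exact mul_right_cancel₀ (M₀ := X.functionField) hφ h1
  · by_cases hne : genericPoint X ∈ V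
    swap
    · exact ⟨0, ext_val fun hη => (hne hη).elim⟩
    obtain ⟨r, hr⟩ := exists_fn hne (val s hne / φ) (fun y hy h1 => by
      rcases cond_val s hy h1 with h0 | h0
      · exact Or.inl (by rw [show val s hne = 0 from h0, zero_div])
      by_cases hs0 : val s hne = 0
      · exact Or.inl (by rw [hs0, zero_div])
      refine Or.inr ?_
      have h2 := Scheme.ord_mul (X := X) (x := y) (div_ne_zero hs0 hφ) hφ
      rw [div_mul_cancel₀ _ hφ, h y (hV hy) h1] at h2
      change -D y ≤ Scheme.ord (val s hne) y at h0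
      omega) hX
    refine ⟨r, ext_val fun hη => ?_⟩
    rw [val_smul, val_res, val_mk, hr]
    exact div_mul_cancel₀ _ hφ

end Groth.Agent.Ref1X.OD
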