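import Groth.Agent.Ref1X.Generic
import Groth.Agent.CycLib.Div
import Groth.Agent.CycLib.DivMap

/-!
# Orders of rational sections at points of codimension one
-/

universe u

set_option backward.isDefEq.respectTransparency false
set_option backward.isDefEq.respectTransparency.types false
set_option linter.style.haveILetI false

open CategoryTheory AlgebraicGeometry TopologicalSpace Opposite

namespace Groth.Agent.Ref1X

variable {X : Scheme.{u}} [IsIntegral X] {F G : X.Modules}

/-- The class of an element of the generic stalk in the fibre at the generic point. -/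
noncomputable abbrev cls (M : X.Modules) (v : M.presheaf.stalk (genericPoint X)) :
    Cyc.secFibre M (genericPoint X) := Submodule.Quotient.mk v

theorem cls_bijective (M : X.Modules) : Function.Bijective (cls M) := by
  refine ⟨fun v w h => ?_, Submodule.Quotient.mk_surjective _⟩
  have h1 := (Submodule.Quotient.eq _).1 h
  rw [maximalIdeal_eta, Submodule.bot_smul, Submodule.mem_bot] at h1
  exact sub_eq_zero.1 h1

theorem cls_ne_zero {M : X.Modules} {v : M.presheaf.stalk (genericPoint X)} : cls M v ≠ 0 ↔ v ≠ 0 :=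
  ⟨fun h h0 => h (by rw [h0]; rfl), fun h h0 => h ((cls_bijective M).1 h0)⟩

variable [IsLocallyNoetherian X]

theorem ord_algebraMap {x : X} (hx : Order.coheight x = 1) {a : X.presheaf.stalk x} (ha : a ≠ 0) :
    Scheme.ord (algebraMap (X.presheaf.stalk x) X.functionField a) x =
      ((Ring.ord (X.presheaf.stalk x) a).toNat : ℤ) := by
  haveI : Ring.KrullDimLE 1 (X.presheaf.stalk x) := krullDimLE_of_coheight_le hx.le
  rw [← IntThLib.ordFrac_algebraMap (A := X.presheaf.stalk x) (K := X.functionField) ha, CycAlg.ordFrac,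
    dif_pos ⟨inferInstance, inferInstance, inferInstance, inferInstance⟩,
    Scheme.ord_eq_ordHom_of_coheight_eq_one hx]
  show Multiplicative.toAdd ((Ring.ordFrac (X.presheaf.stalk x) _).unzeroD 1) = _
  generalize Ring.ordFrac (X.presheaf.stalk x) (algebraMap (X.presheaf.stalk x) X.functionField a) = w
  cases w <;> rfl

/-- The order along a point of codimension one inside the closure of the generic point. -/
theorem ordAt_residue {x : X} (hx : Order.coheight x = 1) {φ : X.presheaf.stalk (genericPoint X)} (hφ : φ ≠ 0) :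
    Cyc.ordAt x (genericPoint X) (eta_le x) (X.residue (genericPoint X) φ) = Scheme.ord (X := X) φ x := by
  haveI : Ring.KrullDimLE 1 (X.presheaf.stalk x) := krullDimLE_of_coheight_le hx.le
  have hres : Function.Injective (X.residue (genericPoint X)).hom := (injective_iff_map_eq_zero _).2 fun a ha => by
    have h1 : a ∈ IsLocalRing.maximalIdeal (X.presheaf.stalk (genericPoint X)) :=
      Ideal.Quotient.eq_zero_iff_mem.1 ha
    rwa [maximalIdeal_eta, Ideal.mem_bot] at h1
  have hinj : Function.Injective (Cyc.specMap x (genericPoint X) (eta_le x)) := hres.comp (spR_injective x)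
  have hker : RingHom.ker (Cyc.specMap x (genericPoint X) (eta_le x)) = ⊥ :=
    (RingHom.injective_iff_ker_eq_bot _).1 hinj
  let e : X.presheaf.stalk x ≃+* Cyc.LocQuot x (genericPoint X) (eta_le x) :=
    RingEquiv.ofBijective (Ideal.Quotient.mk _) ⟨(injective_iff_map_eq_zero _).2 fun a ha => by
      rw [Ideal.Quotient.eq_zero_iff_mem, hker, Ideal.mem_bot] at ha; exact ha, Ideal.Quotient.mk_surjective⟩
  haveI : Ring.KrullDimLE 1 (Cyc.LocQuot x (genericPoint X) (eta_le x)) := by
    rw [Ring.krullDimLE_iff, ← ringKrullDim_eq_of_ringEquiv e, ← Ring.krullDimLE_iff]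
    infer_instance
  obtain ⟨p, q, hq, hpq⟩ := IsFractionRing.div_surjective (A := X.presheaf.stalk x) (K := X.functionField) φ
  have hq0 : q ≠ 0 := nonZeroDivisors.ne_zero hq
  have hp0 : p ≠ 0 := fun h0 => hφ (by rw [← hpq, h0, map_zero, zero_div])
  have key : ∀ a : X.presheaf.stalk x, a ≠ 0 →
      Cyc.ordAt x (genericPoint X) (eta_le x) (X.residue (genericPoint X) (spR X (eta_le x) a)) =
        Scheme.ord (algebraMap (X.presheaf.stalk x) X.functionField a) x := by
    intro a ha
    rw [ord_algebraMap hx ha]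
    show CycAlg.ordFrac _ _ (algebraMap (Cyc.LocQuot x _ (eta_le x)) _ (Ideal.Quotient.mk _ a)) = _
    have ha' : (Ideal.Quotient.mk _ a : Cyc.LocQuot x (genericPoint X) (eta_le x)) ≠ 0 :=
      fun h0 => ha (e.injective (h0.trans (map_zero e).symm))
    rw [IntThLib.ordFrac_algebraMap ha']
    exact congrArg (fun n : ℕ∞ => (n.toNat : ℤ)) (CycLib.ord_ringEquiv e a)
  have hmul : algebraMap (X.presheaf.stalk x) X.functionField p = φ * algebraMap (X.presheaf.stalk x) X.functionField q := by
    rw [← hpq, div_mul_cancel₀]; exact IsFractionRing.to_map_ne_zero_of_mem_nonZeroDivisors hq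
  have hne : ∀ a : X.presheaf.stalk (genericPoint X), a ≠ 0 → X.residue (genericPoint X) a ≠ 0 :=
    fun a ha h0 => ha (hres (h0.trans (map_zero _).symm))
  have hq' : spR X (eta_le x) q ≠ 0 := fun h0 => hq0 (spR_injective x (h0.trans (map_zero _).symm))
  have h1 := key p hp0
  have h2 := key q hq0
  rw [show spR X (eta_le x) p = φ * spR X (eta_le x) q from hmul, map_mul] at h1
  rw [show algebraMap (X.presheaf.stalk x) X.functionField p = _ from hmul,
    Scheme.ord_mul hφ (IsFractionRing.to_map_ne_zero_of_mem_nonZeroDivisors hq)] at h1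
  have h3 : Cyc.ordAt x (genericPoint X) (eta_le x)
      (X.residue (genericPoint X) φ * X.residue (genericPoint X) (spR X (eta_le x) q)) = _ := h1
  rw [show Cyc.ordAt x (genericPoint X) (eta_le x)
      (X.residue (genericPoint X) φ * X.residue (genericPoint X) (spR X (eta_le x) q)) = _ from
      IntThLib.ordFrac_mul (hne _ hφ) (hne _ hq')] at h3
  change Cyc.ordAt x (genericPoint X) (eta_le x) _ + Cyc.ordAt x (genericPoint X) (eta_le x) _ = _ at h3
  omega

/-- The order of a rational section at a point. -/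
noncomputable def ordF (F : X.Modules) (s : F.presheaf.stalk (genericPoint X)) (x : X) : ℤ :=
  Cyc.secOrdAt F (genericPoint X) x (eta_le x) (cls F s)

theorem ord_units {x : X} (hx : Order.coheight x = 1) (u : (X.presheaf.stalk x)ˣ) :
    Scheme.ord (algebraMap (X.presheaf.stalk x) X.functionField (u : X.presheaf.stalk x)) x = 0 := by
  rw [ord_algebraMap hx u.ne_zero, Ring.ord_of_isUnit u.isUnit]
  rfl

/-- The order computed with any generator. -/
theorem ordF_eq (hF : Coh.IsCoh F) {x : X} (hx : Order.coheight x = 1) {t : F.presheaf.stalk x} (ht : IsGen t)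
    {s : F.presheaf.stalk (genericPoint X)} {φ : X.presheaf.stalk (genericPoint X)} (hφ : φ ≠ 0)
    (hs : s = φ • gsp F x t) : ordF F s x = Scheme.ord (X := X) φ x := by
  have hex : ∃ t : F.presheaf.stalk x, Submodule.span (X.presheaf.stalk x) {t} = ⊤ := ⟨t, ht.span⟩
  obtain ⟨u, hu⟩ := ht.of_span (Classical.choose_spec hex)
  have hu0 : spR X (eta_le x) (u : X.presheaf.stalk x) ≠ 0 :=
    ((u.isUnit.map (spR X (eta_le x))).ne_zero)
  obtain ⟨φ', hφ'⟩ : ∃ φ', φ = φ' * spR X (eta_le x) (u : X.presheaf.stalk x) :=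
    ⟨φ * spR X (eta_le x) (↑u⁻¹ : X.presheaf.stalk x), by rw [mul_assoc, ← map_mul, Units.inv_mul, map_one, mul_one]⟩
  have hcls : cls F s = φ' • (Submodule.Quotient.mk (F.presheaf.stalkSpecializes (eta_le x) (Classical.choose hex)) :
      Cyc.secFibre F (genericPoint X)) := by
    rw [hs, hφ', mul_smul, ← sp_smul, ← hu]
    rfl
  have hex2 : ∃ ψ : X.presheaf.stalk (genericPoint X), cls F s =
      ψ • (Submodule.Quotient.mk (F.presheaf.stalkSpecializes (eta_le x) (Classical.choose hex)) :
        Cyc.secFibre F (genericPoint X)) := ⟨φ', hcls⟩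
  show Cyc.secOrdAt F (genericPoint X) x (eta_le x) (cls F s) = _
  rw [Cyc.secOrdAt, dif_pos hex, dif_pos hex2]
  have hψ : Classical.choose hex2 = φ' := by
    have h1 := (Classical.choose_spec hex2).symm.trans hcls
    rw [← Submodule.Quotient.mk_smul, ← Submodule.Quotient.mk_smul] at h1
    have h2 := (cls_bijective F).1 h1
    have h4 : (F.presheaf.stalkSpecializes (eta_le x)) (Classical.choose hex) = spR X (eta_le x) (u : X.presheaf.stalk x) • gsp F x t :=
      (congrArg _ hu).trans (sp_smul (M := F) (eta_le x) _ t)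
    generalize Classical.choose hex2 = ψ at h2 ⊢
    rw [h4, ← mul_smul, ← mul_smul] at h2
    exact mul_right_cancel₀ (M₀ := X.functionField) hu0 ((ht.specialize hF (eta_le x)).1 h2)
  have hφ'0 : φ' ≠ 0 := fun h0 => hφ (by rw [hφ', h0, zero_mul])
  rw [hψ, ordAt_residue hx hφ'0, hφ']
  show _ = Scheme.ord ((φ' : X.functionField) * algebraMap (X.presheaf.stalk x) X.functionField _) x
  rw [Scheme.ord_mul (f := (φ' : X.functionField)) hφ'0
    (g := algebraMap (X.presheaf.stalk x) X.functionField (u : X.presheaf.stalk x)) hu0, ord_units hx, add_zero]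

variable (hX : Pi1.IsNormalScheme X)

include hX in
theorem exists_coord (hF : RefHull.IsRef1 F) {x : X} (hx : Order.coheight x = 1)
    (s : F.presheaf.stalk (genericPoint X)) :
    ∃ (t : F.presheaf.stalk x) (φ : X.presheaf.stalk (genericPoint X)), IsGen t ∧ s = φ • gsp F x t ∧
      (s ≠ 0 → φ ≠ 0 ∧ ordF F s x = Scheme.ord (X := X) φ x) := by
  obtain ⟨t, ht⟩ := exists_gen_of_coheight_one hX hF hx
  obtain ⟨φ, hφ⟩ := (ht.specialize hF.1 (eta_le x)).2 s
  dsimp only at hφ
  refine ⟨t, φ, ht, hφ.symm, fun hs => ?_⟩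
  have h0 : φ ≠ 0 := fun h0 => hs (by rw [← hφ, h0, zero_smul])
  exact ⟨h0, ordF_eq hF.1 hx ht h0 hφ.symm⟩

include hX in
theorem ordF_smul (hF : RefHull.IsRef1 F) {x : X} (hx : Order.coheight x = 1)
    {s : F.presheaf.stalk (genericPoint X)} (hs : s ≠ 0) {f : X.presheaf.stalk (genericPoint X)} (hf : f ≠ 0) :
    ordF F (f • s) x = Scheme.ord (X := X) f x + ordF F s x := by
  obtain ⟨t, φ, ht, rfl, h⟩ := exists_coord hX hF hx s
  obtain ⟨hφ, h'⟩ := h hs
  rw [h', ordF_eq hF.1 hx ht (mul_ne_zero (M₀ := X.functionField) hf hφ) (mul_smul f φ _).symm]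
  exact Scheme.ord_mul hf hφ

include hX in
/-- Membership in the lattice at a point of codimension one. -/
theorem mem_range_gsp (hF : RefHull.IsRef1 F) {x : X} (hx : Order.coheight x = 1)
    {s : F.presheaf.stalk (genericPoint X)} (hs : s ≠ 0) :
    s ∈ Set.range (gsp F x) ↔ 0 ≤ ordF F s x := by
  obtain ⟨t, φ, ht, rfl, h⟩ := exists_coord hX hF hx s
  obtain ⟨hφ, h'⟩ := h hs
  rw [h']
  constructor
  · rintro ⟨m, hm⟩
    obtain ⟨c, rfl⟩ := ht.2 m
    rw [sp_smul] at hm
    exact CDiv6.reg_ord_nonneg (f := (φ : X.functionField)) hφ ⟨c, (ht.specialize hF.1 (eta_le x)).1 hm⟩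
  · intro h0
    obtain ⟨c, hc⟩ := CDiv6.reg_of_ord_nonneg hX hx (f := (φ : X.functionField)) hφ h0
    exact ⟨c • t, (sp_smul _ c t).trans (congrArg (· • gsp F x t) hc)⟩

end Groth.Agent.Ref1X
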