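import Groth.Agent.Ref1X.RefColim

/-!
# When is the locus of generation affine over the scheme
-/

universe u

set_option backward.isDefEq.respectTransparency false
set_option backward.isDefEq.respectTransparency.types false
set_option linter.style.haveILetI false

open CategoryTheory CategoryTheory.Limits AlgebraicGeometry TopologicalSpace Opposite

namespace Groth.Agent.Ref1X.RefColim

variable {X : Scheme.{u}} [IsIntegral X] [IsLocallyNoetherian X] {F : X.Modules}
variable (hX : Pi1.IsNormalScheme X) (hF : RefHull.IsRef1 F) (s : Coh.structureModule X ⟶ F) (U : X.Opens)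
  (hU : (U : Set X) = RefPow.isoLocus s)

omit [IsIntegral X] [IsLocallyNoetherian X] in
theorem germ_val (n : ℕ) (V : X.Opens) {x : X} (hx : x ∈ V) :
    (RefPow.refPow F n).presheaf.germ V x hx (show Γ(RefPow.refPow F n, V) from SecTwist.val (RefPow.sPow s n) V) =
      RefPow.sPowGerm s n x := by
  refine Eq.trans (congrArg _ (SecTwist.map_val (RefPow.sPow s n) (homOfLE le_top : V ⟶ ⊤)).symm) ?_
  exact (RefPow.refPow F n).presheaf.germ_res_apply (homOfLE le_top : V ⟶ ⊤) x hx _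

include hX hF hU in
theorem coord_val (n : ℕ) (V : X.Opens) :
    coord hX hF s U hU n V (show Γ(RefPow.refPow F n, V) from SecTwist.val (RefPow.sPow s n) V) = 1 :=
  coord_unique hX hF s U hU n V _ 1 fun hη => by rw [map_one, one_smul, germ_val]

include hX hF hU in
theorem coord_smul (n : ℕ) (V : X.Opens) (a : Γ(X, V)) (m : Γ(RefPow.refPow F n, V)) :
    coord hX hF s U hU n V (a • m) =
      AModX.resR (U.ι.image_preimage_le V) a * coord hX hF s U hU n V m :=
  coord_unique hX hF s U hU n V _ _ fun hη => by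
    rw [map_mul, mul_smul, coord_spec, RefX.germ_resR, QCoh.germ_smul']

include hX hF hU in
theorem coord_add (n : ℕ) (V : X.Opens) (a b : Γ(RefPow.refPow F n, V)) :
    coord hX hF s U hU n V (a + b) = coord hX hF s U hU n V a + coord hX hF s U hU n V b :=
  coord_unique hX hF s U hU n V _ _ fun hη => by rw [map_add, map_add, add_smul, coord_spec, coord_spec]

include hX hF hU in
theorem isAffineOpen_img {V : X.Opens} (hV : IsAffineOpen V)
    (h : ∀ x ∈ V, x ∉ U → ∃ n : ℕ, 0 < n ∧ RefPow.sPowGerm s n x ∈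
      IsLocalRing.maximalIdeal (X.presheaf.stalk x) •
        (⊤ : Submodule (X.presheaf.stalk x) ((RefPow.refPow F n).presheaf.stalk x))) :
    IsAffineOpen (ZClosLib.img U V) := by
  classical
  let f := AModX.resR (U.ι.image_preimage_le V)
  let S : Set Γ(X, ZClosLib.img U V) := f '' {b : Γ(X, V) | X.basicOpen b ≤ U}
  refine isAffineOpen_of_isAffineOpen_basicOpen _ S ?_ ?_
  swap
  · rintro _ ⟨b, hb, rfl⟩
    have e : X.basicOpen (f b) = X.basicOpen b := by
      refine (X.basicOpen_res b (homOfLE (U.ι.image_preimage_le V)).op).trans (inf_eq_right.2 ?_)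
      exact fun z hz => mem_img.2 ⟨hb hz, X.basicOpen_le b hz⟩
    rw [e]
    exact hV.basicOpen b
  by_contra hne
  obtain ⟨M, hM, hSM⟩ := Ideal.exists_le_maximal _ hne
  let p : PrimeSpectrum Γ(X, V) := ⟨M.comap f, inferInstance⟩
  let x := hV.fromSpec p
  have hxV : x ∈ V := hV.range_fromSpec.le (Set.mem_range_self p)
  have hpx : hV.primeIdealOf ⟨x, hxV⟩ = p := hV.fromSpec.isOpenEmbedding.injective (hV.fromSpec_primeIdealOf ⟨x, hxV⟩)
  have hxU : x ∉ U := by
    intro hxU
    obtain ⟨b, hb, hxb⟩ := hV.exists_basicOpen_le (V := U) ⟨x, hxU⟩ hxV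
    have hbp : b ∉ p.asIdeal := hpx ▸ (QCoh.mem_basicOpen_iff_notMem hV hxV b).1 hxb
    exact hbp (hSM (Ideal.subset_span ⟨b, hb, rfl⟩))
  obtain ⟨n, -, hn⟩ := h x hxV hxU
  letI := QCoh.stalkAlg (X := X) hxV
  letI := QCoh.stalkModule (RefPow.refPow F n) hxV
  haveI := QCoh.isLocalization_stalk' hV hxV
  haveI := QCoh.isScalarTower_stalk (RefPow.refPow F n) hxV
  haveI := QCoh.isLocalizedModule_germLin (isRef1_refPow hF n).1.1 hV hxV
  let J : Submodule Γ(X, V) Γ(RefPow.refPow F n, V) := (M.comap f) • ⊤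
  have key : ∀ w ∈ IsLocalRing.maximalIdeal (X.presheaf.stalk x) •
      (⊤ : Submodule (X.presheaf.stalk x) ((RefPow.refPow F n).presheaf.stalk x)),
      ∃ c : Γ(X, V), c ∉ p.asIdeal ∧ ∃ μ ∈ J, c • w = QCoh.germLin (RefPow.refPow F n) hxV μ := by
    intro w hw
    refine Submodule.smul_induction_on hw (fun a ha m _ => ?_) fun u v hu hv => ?_
    · obtain ⟨α, σ, rfl⟩ := IsLocalization.exists_mk'_eq (hV.primeIdealOf ⟨x, hxV⟩).asIdeal.primeCompl a
      obtain ⟨⟨μ, τ⟩, hμ⟩ := IsLocalizedModule.surj (hV.primeIdealOf ⟨x, hxV⟩).asIdeal.primeCompl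
        (QCoh.germLin (RefPow.refPow F n) hxV) m
      have hα : α ∈ p.asIdeal := by
        rw [← hpx]
        by_contra hc
        exact (IsLocalRing.mem_maximalIdeal _).1 ha
          ((IsLocalization.AtPrime.isUnit_mk'_iff (X.presheaf.stalk x) _ α σ).2 hc)
      have hστ : (σ : Γ(X, V)) * τ ∉ p.asIdeal := hpx ▸ (σ * τ).2
      refine ⟨(σ : Γ(X, V)) * τ, hστ, α • μ, Submodule.smul_mem_smul hα trivial, ?_⟩
      rw [mul_comm, mul_smul, map_smul]
      rw [← algebraMap_smul (X.presheaf.stalk x) (σ : Γ(X, V)) (IsLocalization.mk' _ α σ • m), ← mul_smul,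
        IsLocalization.mk'_spec', algebraMap_smul, smul_comm]
      exact congrArg (α • ·) hμ
    · obtain ⟨c, hc, μ, hμ, e⟩ := hu
      obtain ⟨d, hd, ν, hν, e'⟩ := hv
      refine ⟨c * d, fun h => (p.isPrime.mem_or_mem h).elim hc hd, d • μ + c • ν,
        J.add_mem (J.smul_mem d hμ) (J.smul_mem c hν), ?_⟩
      rw [smul_add, map_add, map_smul, map_smul, ← e, ← e', mul_comm c d, mul_smul, mul_comm d c, mul_smul]
  obtain ⟨c, hc, μ, hμ, e⟩ := key _ hn
  rw [← germ_val s n V hxV] at e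
  change c • QCoh.germLin (RefPow.refPow F n) hxV _ = _ at e
  rw [← map_smul] at e
  obtain ⟨d, hd⟩ := (IsLocalizedModule.eq_iff_exists (hV.primeIdealOf ⟨x, hxV⟩).asIdeal.primeCompl
    (QCoh.germLin (RefPow.refPow F n) hxV)).1 e
  have hdp : (d : Γ(X, V)) ∉ p.asIdeal := hpx ▸ d.2
  have h2 : ∀ μ ∈ J, coord hX hF s U hU n V μ ∈ M := by
    intro μ hμ
    refine Submodule.smul_induction_on hμ (fun a ha m _ => ?_) fun u v hu hv => ?_
    · rw [coord_smul]; exact Ideal.mul_mem_right _ _ ha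
    · rw [coord_add]; exact M.add_mem hu hv
  have h3 := h2 ((d : Γ(X, V)) • μ) (J.smul_mem _ hμ)
  rw [← Submonoid.smul_def, ← hd, Submonoid.smul_def, coord_smul, coord_smul, coord_val, mul_one] at h3
  rcases hM.isPrime.mem_or_mem h3 with h4 | h4
  · exact hdp h4
  · exact hc h4

include hX hF hU in
theorem exists_pow_mem [IsAffineHom U.ι] (x : X) (hxU : x ∉ U) :
    ∃ n : ℕ, 0 < n ∧ RefPow.sPowGerm s n x ∈ IsLocalRing.maximalIdeal (X.presheaf.stalk x) •
      (⊤ : Submodule (X.presheaf.stalk x) ((RefPow.refPow F n).presheaf.stalk x)) := by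
  classical
  by_cases hs : RefPow.sPowGerm s 1 (genericPoint X) = 0
  · refine ⟨2, two_pos, ?_⟩
    rw [← stalkMap_mulBy, mulBy_eq_zero hX hF s U hU hs 0 x]
    exact Submodule.zero_mem _
  obtain ⟨_, ⟨V, hV, rfl⟩, hxV, -⟩ :=
    X.isBasis_affineOpens.exists_subset_of_mem_open (Set.mem_univ x) isOpen_univ
  replace hV : IsAffineOpen V := hV
  replace hxV : x ∈ V := hxV
  have hW : IsAffineOpen (ZClosLib.img U V) :=
    U.ι.isAffineOpen_iff_of_isOpenImmersion.2 (hV.preimage U.ι)
  let f := AModX.resR (U.ι.image_preimage_le V)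
  set p := (hV.primeIdealOf ⟨x, hxV⟩).asIdeal with hp
  have htop : Ideal.span (f '' (p : Set Γ(X, V))) = ⊤ := by
    by_contra hne
    obtain ⟨M, hM, hpM⟩ := Ideal.exists_le_maximal _ hne
    let q : PrimeSpectrum Γ(X, ZClosLib.img U V) := ⟨M, hM.isPrime⟩
    let z := hW.fromSpec q
    have hzW : z ∈ ZClosLib.img U V := hW.range_fromSpec.le (Set.mem_range_self q)
    have hq : hW.primeIdealOf ⟨z, hzW⟩ = q := hW.fromSpec.isOpenEmbedding.injective (hW.fromSpec_primeIdealOf ⟨z, hzW⟩)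
    have hzV : z ∈ V := (mem_img.1 hzW).2
    have hle : hV.primeIdealOf ⟨x, hxV⟩ ≤ hV.primeIdealOf ⟨z, hzV⟩ := by
      intro a ha
      by_contra hc
      have hz1 : z ∈ X.basicOpen a := (QCoh.mem_basicOpen_iff_notMem hV hzV a).2 hc
      have hz2 : z ∈ X.basicOpen (f a) :=
        (X.basicOpen_res a (homOfLE (U.ι.image_preimage_le V)).op).ge ⟨hzW, hz1⟩
      exact hq ▸ (QCoh.mem_basicOpen_iff_notMem hW hzW (f a)).1 hz2 <| hpM (Ideal.subset_span ⟨a, ha, rfl⟩)
    have h1 := (VarDim.fromSpec_specializes_iff hV _ _).2 hle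
    rw [hV.fromSpec_primeIdealOf, hV.fromSpec_primeIdealOf] at h1
    exact hxU (h1.mem_open U.isOpen (mem_img.1 hzW).1)
  have hηU : genericPoint X ∈ U := by
    rw [← SetLike.mem_coe, hU]
    exact (eta_mem_isoLocus s hF).2 hs
  have hη : genericPoint X ∈ ZClosLib.img U V := mem_img.2 ⟨hηU, eta_mem hxV⟩
  obtain ⟨k, g, v, hgv⟩ := Submodule.mem_span_set'.1 (htop.ge (Submodule.mem_top : (1 : Γ(X, ZClosLib.img U V)) ∈ ⊤))
  choose a ha hav using fun i => (v i).2
  have hN : ∀ i, ∃ N : ℕ, ∀ n ≥ N, ∃ m : Γ(RefPow.refPow F n, V),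
      (RefPow.refPow F n).presheaf.germ V _ (mem_img.1 hη).2 m =
        X.presheaf.germ _ _ hη (g i) • RefPow.sPowGerm s n (genericPoint X) := fun i =>
    exists_pow_section s hX hF hs hV (mem_img.1 hη).2 _ fun y hy hyU _ => by
      by_cases h0 : (X.presheaf.germ _ _ hη (g i) : X.functionField) = 0
      · exact Or.inl h0
      refine Or.inr (CDiv6.reg_ord_nonneg h0 ⟨X.presheaf.germ _ y ?_ (g i), spR_germ (eta_le y) _ (g i)⟩)
      exact mem_img.2 ⟨(show y ∈ (U : Set X) from hU.symm ▸ hyU), hy⟩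
  choose N hN using hN
  set n := (∑ i, N i) + 1 with hn
  choose m hm using fun i => hN i n (le_trans (Finset.single_le_sum (fun j _ => Nat.zero_le (N j)) (Finset.mem_univ i))
    (Nat.le_succ _))
  refine ⟨n, Nat.succ_pos _, ?_⟩
  have hsum : (show Γ(RefPow.refPow F n, V) from SecTwist.val (RefPow.sPow s n) V) = ∑ i, a i • m i := by
    refine eq_of_germ_eta (gsp_injective (isRef1_refPow hF n).1 (isRef1_refPow hF n).2.1) hxV ?_
    rw [germ_val, map_sum]
    conv_lhs => rw [← one_smul (X.presheaf.stalk (genericPoint X)) (RefPow.sPowGerm s n (genericPoint X)),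
      ← map_one (X.presheaf.germ _ _ hη).hom]
    rw [show (X.presheaf.germ _ _ hη).hom (1 : Γ(X, ZClosLib.img U V)) =
        X.presheaf.germ _ _ hη (∑ i, g i • (v i : Γ(X, ZClosLib.img U V))) from congrArg _ hgv.symm, map_sum,
      Finset.sum_smul]
    refine Finset.sum_congr rfl fun i _ => ?_
    rw [QCoh.germ_smul', hm, smul_eq_mul, map_mul, ← hav i, RefX.germ_resR, mul_comm, mul_smul]
  rw [← germ_val s n V hxV, hsum, map_sum]
  refine Submodule.sum_mem _ fun i _ => ?_
  rw [QCoh.germ_smul']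
  refine Submodule.smul_mem_smul ((IsLocalRing.mem_maximalIdeal _).2 fun hu => ?_) trivial
  exact (QCoh.mem_basicOpen_iff_notMem hV hxV (a i)).1 ((X.mem_basicOpen (a i) x hxV).2 hu) (ha i)

end Groth.Agent.Ref1X.RefColim
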