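import Groth.Agent.Ref1X.Powers
import Groth.Agent.Ref1X.Colim
import Groth.Agent.Ref1X.OD

/-!
# The direct image of the locus of generation is the colimit of the reflexive powers
-/

universe u

set_option backward.isDefEq.respectTransparency false
set_option backward.isDefEq.respectTransparency.types false
set_option linter.style.haveILetI false

open CategoryTheory CategoryTheory.Limits AlgebraicGeometry TopologicalSpace Opposite

namespace Groth.Agent.Ref1X.RefColim

variable {X : Scheme.{u}} [IsIntegral X] [IsLocallyNoetherian X] {F : X.Modules}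

/-- `j_* O_U`. -/
noncomputable abbrev P (U : X.Opens) : X.Modules :=
  (Scheme.Modules.pushforward U.ι).obj ((Coh.structureModule X).restrict U.ι)

omit [IsIntegral X] [IsLocallyNoetherian X] in
theorem mem_img {U V : X.Opens} {z : X} : z ∈ ZClosLib.img U V ↔ z ∈ U ∧ z ∈ V := by
  rw [ZClosLib.img, ZClos.ι_image_preimage]
  exact Iff.rfl

theorem fn_ext {W : X.Opens} {g g' : Γ(X, W)}
    (h : ∀ hη : genericPoint X ∈ W, X.presheaf.germ W _ hη g = X.presheaf.germ W _ hη g') : g = g' := by
  refine TopCat.Presheaf.section_ext X.sheaf W g g' fun y hy => spR_injective y ?_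
  show spR X _ (X.presheaf.germ W y hy g) = spR X _ (X.presheaf.germ W y hy g')
  rw [spR_germ, spR_germ]
  exact h _

variable (hX : Pi1.IsNormalScheme X) (hF : RefHull.IsRef1 F) (s : Coh.structureModule X ⟶ F) (U : X.Opens)
  (hU : (U : Set X) = RefPow.isoLocus s)

include hF hU in
theorem sigma_ne_zero {V : X.Opens} (hη : genericPoint X ∈ ZClosLib.img U V) :
    RefPow.sPowGerm s 1 (genericPoint X) ≠ 0 :=
  (eta_mem_isoLocus s hF).1 (hU ▸ (mem_img.1 hη).1 : genericPoint X ∈ RefPow.isoLocus s)

include hX hF hU in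
theorem exists_coord_fn (n : ℕ) (V : X.Opens) (m : Γ(RefPow.refPow F n, V)) :
    ∃ g : Γ(X, ZClosLib.img U V), ∀ hη : genericPoint X ∈ ZClosLib.img U V,
      X.presheaf.germ _ _ hη g • RefPow.sPowGerm s n (genericPoint X) =
        (RefPow.refPow F n).presheaf.germ V _ (mem_img.1 hη).2 m := by
  by_cases hη : genericPoint X ∈ ZClosLib.img U V
  swap
  · exact ⟨0, fun h => (hη h).elim⟩
  have hs := sigma_ne_zero hF s U hU hη
  have hP := isRef1_refPow hF n
  have hσ := sPowGerm_eta_ne_zero s hF hs n
  obtain ⟨g₀, hg₀⟩ := exists_gen_eta hP.2.2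
  have hgen := one_dim hg₀ hσ
  obtain ⟨f, hf⟩ := hgen.2 ((RefPow.refPow F n).presheaf.germ V _ (mem_img.1 hη).2 m)
  dsimp only at hf
  obtain ⟨g, hg⟩ := OD.exists_fn hη (f : X.functionField) (fun y hy hy1 => by
    by_cases hf0 : f = 0
    · exact Or.inl hf0
    have h1 : f • RefPow.sPowGerm s n (genericPoint X) ∈ Set.range (gsp (RefPow.refPow F n) y) :=
      ⟨(RefPow.refPow F n).presheaf.germ V y (mem_img.1 hy).2 m, by rw [sp_germ, hf]⟩
    rw [mem_range_gsp hX hP hy1 (smul_ne_zero' hgen hf0), ordF_smul hX hP hy1 hσ hf0,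
      ordF_sPowGerm s hX hF hs n hy1,
      (mem_isoLocus_iff_ord s hX hF hs hy1).1 (hU ▸ (mem_img.1 hy).1 : y ∈ RefPow.isoLocus s), mul_zero,
      add_zero] at h1
    exact Or.inr h1) hX
  exact ⟨g, fun _ => by rw [← hf]; exact congrArg (· • RefPow.sPowGerm s n (genericPoint X)) hg⟩

/-- The coefficient of a section with respect to the power of `s`. -/
noncomputable def coord (n : ℕ) (V : X.Opens) (m : Γ(RefPow.refPow F n, V)) : Γ(X, ZClosLib.img U V) :=
  Classical.choose (exists_coord_fn hX hF s U hU n V m)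

theorem coord_spec (n : ℕ) (V : X.Opens) (m : Γ(RefPow.refPow F n, V))
    (hη : genericPoint X ∈ ZClosLib.img U V) :
    X.presheaf.germ _ _ hη (coord hX hF s U hU n V m) • RefPow.sPowGerm s n (genericPoint X) =
        (RefPow.refPow F n).presheaf.germ V _ (mem_img.1 hη).2 m :=
  Classical.choose_spec (exists_coord_fn hX hF s U hU n V m) hη

include hX hF hU in
theorem coord_unique (n : ℕ) (V : X.Opens) (m : Γ(RefPow.refPow F n, V)) (g : Γ(X, ZClosLib.img U V))
    (hg : ∀ hη : genericPoint X ∈ ZClosLib.img U V,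
      X.presheaf.germ _ _ hη g • RefPow.sPowGerm s n (genericPoint X) =
        (RefPow.refPow F n).presheaf.germ V _ (mem_img.1 hη).2 m) : coord hX hF s U hU n V m = g :=
  fn_ext fun hη => by
    obtain ⟨g₀, hg₀⟩ := exists_gen_eta (isRef1_refPow hF n).2.2
    exact (one_dim hg₀ (sPowGerm_eta_ne_zero s hF (sigma_ne_zero hF s U hU hη) n)).1
      ((coord_spec hX hF s U hU n V m hη).trans (hg hη).symm)

/-- The comparison map. -/
noncomputable def leg (n : ℕ) : RefPow.refPow F n ⟶ P U :=
  ⟨PresheafOfModules.homMk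
    { app := fun V => AddCommGrpCat.ofHom
        { toFun := fun (m : Γ(RefPow.refPow F n, V.unop)) => (coord hX hF s U hU n V.unop m : Γ(X, ZClosLib.img U V.unop))
          map_zero' := coord_unique hX hF s U hU n _ _ 0 fun hη => by rw [map_zero, map_zero, zero_smul]
          map_add' := fun a b => coord_unique hX hF s U hU n _ (a + b)
            (coord hX hF s U hU n V.unop a + coord hX hF s U hU n V.unop b) fun hη => by
              rw [map_add, map_add, add_smul, coord_spec, coord_spec] }
      naturality := fun {V W} i => by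
        ext m
        refine coord_unique hX hF s U hU n W.unop _
          (AModX.resR (U.ι.image_mono (U.ι.preimage_mono i.unop.le)) (coord hX hF s U hU n V.unop m)) fun hη => ?_
        rw [RefX.germ_resR, coord_spec]
        exact (TopCat.Presheaf.germ_res_apply' (RefPow.refPow F n).presheaf i _ _ m).symm }
    (fun V (r : Γ(X, V.unop)) (m : Γ(RefPow.refPow F n, V.unop)) => by
      refine (coord_unique hX hF s U hU n V.unop (r • m)
        (AModX.resR (U.ι.image_preimage_le V.unop) r * coord hX hF s U hU n V.unop m) fun hη => ?_).trans ?_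
      · rw [map_mul, mul_smul, coord_spec, RefX.germ_resR, QCoh.germ_smul']
      · show _ = (U.ι.appIso (U.ι ⁻¹ᵁ V.unop)).inv.hom (U.ι.app V.unop r) * coord hX hF s U hU n V.unop m
        refine congrArg (· * _) ?_
        simp [AModX.resR]
        rfl)⟩

theorem leg_app (n : ℕ) (V : X.Opens) (m : Γ(RefPow.refPow F n, V)) :
    (show Γ(X, ZClosLib.img U V) from (leg hX hF s U hU n).app V m) = coord hX hF s U hU n V m := rfl

include hX hF hU in
theorem mulBy_leg (n : ℕ) : RefPow.mulBy s n ≫ leg hX hF s U hU (n + 1) = leg hX hF s U hU n := by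
  refine Scheme.Modules.hom_ext _ _ fun V => ?_
  ext m
  refine coord_unique hX hF s U hU (n + 1) V ((RefPow.mulBy s n).app V m) (coord hX hF s U hU n V m) fun hη => ?_
  have hηV := (mem_img.1 hη).2
  rw [← RefHull.stalkMapₗ_germ, ← coord_spec hX hF s U hU n V m hη, map_smul, stalkMap_mulBy]

/-- The cocone. -/
noncomputable def ι : RefPow.diagram F s ⟶ (Functor.const ℕ).obj (P U) :=
  NatTrans.ofSequence (fun n => leg hX hF s U hU n) fun n => by
    rw [RefPow.diagram_map]
    simp only [Functor.const_obj_map, Category.comp_id]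
    exact mulBy_leg hX hF s U hU n

theorem leg_zero :
    leg hX hF s U hU 0 = (Scheme.Modules.restrictAdjunction U.ι).unit.app (Coh.structureModule X) := by
  refine Scheme.Modules.hom_ext _ _ fun V => ?_
  ext m
  refine coord_unique hX hF s U hU 0 V m (AModX.resR (U.ι.image_preimage_le V) (show Γ(X, V) from m)) fun hη => ?_
  have h1 : RefPow.sPowGerm s 0 (genericPoint X) = (RefPow.refPow F 0).presheaf.germ V _ (mem_img.1 hη).2
      (AModX.res (Coh.structureModule X) (le_top : V ≤ ⊤) (show Γ(Coh.structureModule X, ⊤) from (1 : Γ(X, ⊤)))) :=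
    (RefX.germ_res (Coh.structureModule X) (le_top : V ≤ ⊤) (mem_img.1 hη).2 _).symm
  rw [RefX.germ_resR, h1]
  refine (QCoh.germ_smul' (Coh.structureModule X) (mem_img.1 hη).2 (show Γ(X, V) from m) _).symm.trans ?_
  refine congrArg _ ?_
  show (show Γ(X, V) from m) * AModX.resR (le_top : V ≤ ⊤) 1 = _
  rw [map_one, mul_one]

include hX hF hU in
theorem mulBy_eq_zero (h0 : RefPow.sPowGerm s 1 (genericPoint X) = 0) (n : ℕ) (x : X)
    (z : (RefPow.refPow F (n + 1)).presheaf.stalk x) : RefHull.stalkMapₗ (RefPow.mulBy s (n + 1)) x z = 0 := by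
  obtain ⟨V, hxV, m, rfl⟩ := (RefPow.refPow F (n + 1)).presheaf.exists_germ_eq z
  rw [RefHull.stalkMapₗ_germ, RefPow.mulBy_succ_app]
  have hv : (show Γ(F, V) from SecTwist.val s V) = 0 := by
    refine eq_of_germ_eta (gsp_injective hF.1 hF.2.1) hxV ?_
    rw [map_zero, ← h0, sPowGerm_one]
    refine Eq.trans ?_ (F.presheaf.germ_res_apply (homOfLE le_top : V ⟶ ⊤) _ (eta_mem hxV) _)
    exact congrArg _ (SecTwist.map_val s (homOfLE le_top : V ⟶ ⊤)).symm
  have h2 : SecTwist.tmul (RefPow.refPow F (n + 1)) F V m (SecTwist.val s V) =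
      (0 : Γ(CohB1.tensorMod (RefPow.refPow F (n + 1)) F, V)) := by
    show InvX.tmul m (show Γ(F, V) from SecTwist.val s V) = 0
    rw [hv, ← zero_smul Γ(X, V) (0 : Γ(F, V)), InvX.tmul_smul_right, zero_smul]
  rw [h2]
  exact (congrArg _ (map_zero _)).trans (map_zero _)

include hX hF hU in
theorem isColimit : Nonempty (IsColimit (Cocone.mk (P U) (ι hX hF s U hU))) := by
  refine isColimit_of_stalks _ (fun x z => ?_) fun x n m hm => ?_
  · obtain ⟨W, hxW, g, rfl⟩ := (P U).presheaf.exists_germ_eq z
    obtain ⟨_, ⟨V, hV, rfl⟩, hxV, hVW⟩ := X.isBasis_affineOpens.exists_subset_of_mem_open hxW W.isOpen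
    replace hVW : V ≤ W := hVW
    let g' : Γ(X, ZClosLib.img U V) :=
      AModX.resR (U.ι.image_mono (U.ι.preimage_mono hVW)) (show Γ(X, ZClosLib.img U W) from g)
    have hg' : (P U).presheaf.germ V x hxV (show Γ(P U, V) from g') = (P U).presheaf.germ W x hxW g :=
      (P U).presheaf.germ_res_apply (homOfLE hVW) x hxV g
    by_cases hη : genericPoint X ∈ ZClosLib.img U V
    · have hs := sigma_ne_zero hF s U hU hη
      obtain ⟨N, hN⟩ := exists_pow_section s hX hF hs hV (mem_img.1 hη).2
        (X.presheaf.germ _ _ hη g') fun y hy hyU _ => by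
          by_cases h0 : (X.presheaf.germ _ _ hη g' : X.functionField) = 0
          · exact Or.inl h0
          refine Or.inr (CDiv6.reg_ord_nonneg h0 ⟨X.presheaf.germ _ y ?_ g', ?_⟩)
          · exact mem_img.2 ⟨(show y ∈ (U : Set X) from hU.symm ▸ hyU), hy⟩
          · exact spR_germ (eta_le y) _ g'
      obtain ⟨m, hm⟩ := hN N le_rfl
      refine ⟨N, (RefPow.refPow F N).presheaf.germ V x hxV m, ?_⟩
      rw [← hg']
      refine (ZClosLib.stalkMap_germ _ hxV m).trans (congrArg _ ?_)
      exact coord_unique hX hF s U hU N V m g' fun _ => hm.symm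
    · refine ⟨0, 0, ?_⟩
      rw [map_zero, ← hg']
      have h0 : g' = 0 := fn_ext fun h => (hη h).elim
      rw [h0]
      exact (map_zero ((P U).presheaf.germ V x hxV).hom).symm
  · by_cases hs : RefPow.sPowGerm s 1 (genericPoint X) = 0
    · refine ⟨n + 2, by omega, ?_⟩
      have e : (RefPow.diagram F s).map (homOfLE (show n ≤ n + 2 by omega)) =
          RefPow.mulBy s n ≫ RefPow.mulBy s (n + 1) := by
        rw [← RefPow.diagram_map F s n, ← RefPow.diagram_map F s (n + 1), ← Functor.map_comp]
        rfl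
      rw [e]
      show RefHull.stalkMapₗ (RefPow.mulBy s n ≫ RefPow.mulBy s (n + 1)) x m = 0
      rw [RefFun.stalkMapₗ_comp, LinearMap.comp_apply]
      exact mulBy_eq_zero hX hF s U hU hs n x _
    · refine ⟨n, le_rfl, ?_⟩
      suffices h : m = 0 by rw [h, map_zero]
      obtain ⟨V, hxV, m, rfl⟩ := (RefPow.refPow F n).presheaf.exists_germ_eq m
      have hm' : (P U).presheaf.germ V x hxV ((leg hX hF s U hU n).app V m) = 0 :=
        (ZClosLib.stalkMap_germ _ hxV m).symm.trans hm
      obtain ⟨W, hxW, i, j, hij⟩ := TopCat.Presheaf.germ_eq (C := AddCommGrpCat.{u}) (P U).presheaf x hxV hxV _ _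
        (hm'.trans (map_zero _).symm)
      change AModX.res (P U) i.le ((leg hX hF s U hU n).app V m) = AModX.res (P U) j.le 0 at hij
      rw [map_zero, ← AModX.app_res] at hij
      have hηU : genericPoint X ∈ U := by
        rw [← SetLike.mem_coe, hU]
        exact (eta_mem_isoLocus s hF).2 hs
      have hηW : genericPoint X ∈ ZClosLib.img U W := mem_img.2 ⟨hηU, eta_mem hxW⟩
      have h0 : AModX.res (RefPow.refPow F n) i.le m = 0 := by
        refine eq_of_germ_eta (gsp_injective (isRef1_refPow hF n).1 (isRef1_refPow hF n).2.1) hxW ?_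
        rw [map_zero, ← coord_spec hX hF s U hU n W _ hηW,
          show coord hX hF s U hU n W (AModX.res (RefPow.refPow F n) i.le m) = 0 from hij, map_zero, zero_smul]
      rw [← RefX.germ_res _ i.le hxW m, h0, map_zero]

end Groth.Agent.Ref1X.RefColim
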