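import Groth.Agent.Ref1X.Finite
import Groth.Agent.H23.RatSec
import Groth.Agent.CycLib.Div

/-!
# The order of a rational section vanishes almost everywhere
-/

universe u

set_option backward.isDefEq.respectTransparency false
set_option backward.isDefEq.respectTransparency.types false
set_option linter.style.haveILetI false

open CategoryTheory AlgebraicGeometry TopologicalSpace Opposite

namespace Groth.Agent.Ref1X

open Groth.Agent.H23

variable {X : Scheme.{u}} [IsIntegral X] [IsLocallyNoetherian X]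

theorem ordAt_isUnit_eq_zero {y : X} (hy : ringKrullDim (X.presheaf.stalk y) = 1) (h : genericPoint X ⤳ y)
    {a : X.presheaf.stalk y} (ha : IsUnit a) :
    Cyc.ordAt y (genericPoint X) h (Cyc.specMap y (genericPoint X) h a) = 0 := by
  haveI : Ring.KrullDimLE 1 (Cyc.LocQuot y (genericPoint X) h) := Ring.krullDimLE_iff.2
    (((ringKrullDim_quotient_le _).trans hy.le).trans le_rfl)
  have hu : IsUnit (Ideal.Quotient.mk (RingHom.ker (Cyc.specMap y (genericPoint X) h)) a) := ha.map _
  rw [← CycLib.algebraMap_locQuot_mk]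
  refine (IntThLib.ordFrac_algebraMap hu.ne_zero).trans ?_
  rw [Ring.ord_of_isUnit hu]
  rfl

theorem finite_secOrdAt {L : X.Modules} (hL : PicF.IsInvertible L) {s : Cyc.secFibre L (genericPoint X)} (hs : s ≠ 0)
    {V : X.Opens} (hV : IsAffineOpen V) :
    {y : X | y ∈ V ∧ ringKrullDim (X.presheaf.stalk y) = 1 ∧
      Cyc.secOrdAt L (genericPoint X) y ((genericPoint_spec X).specializes (Set.mem_univ y)) s ≠ 0}.Finite := by
  classical
  obtain ⟨U, hU, e, he⟩ := InvX.exists_frame hL (genericPoint X)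
  obtain ⟨φ, hφ⟩ := RatSec.exists_coord (RatSec.isGen_germ he _ hU) s
  have hres : X.residue (genericPoint X) φ ≠ 0 := (RatSec.residue_ne_zero (RatSec.isGen_germ he _ hU)).2 (hφ ▸ hs)
  have hφ0 : φ ≠ 0 := fun h0 => hres (by rw [h0, map_zero])
  let W : X.Opens := (⟨{y | CDiv6.Reg y (φ : X.functionField)}, CDiv6.isOpen_reg _⟩ ⊓
    ⟨{y | CDiv6.Reg y (φ : X.functionField)⁻¹}, CDiv6.isOpen_reg _⟩) ⊓ U
  refine (finite_codim_one_notMem hV (W := W)
    ⟨⟨CDiv6.reg_genericPoint _, CDiv6.reg_genericPoint _⟩, hU⟩).subset ?_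
  rintro y ⟨hyV, hdim, hne⟩
  refine ⟨hyV, ?_, fun hyW => hne ?_⟩
  · rw [ringKrullDim_stalk_eq_coheight] at hdim
    exact_mod_cast hdim
  obtain ⟨⟨⟨a, ha⟩, ⟨b, hb⟩⟩, hyU⟩ := hyW
  set h := (genericPoint_spec X).specializes (Set.mem_univ y)
  have hab : a * b = 1 := IsFractionRing.injective (X.presheaf.stalk y) X.functionField (by
    rw [map_mul, map_one, ha, hb, mul_inv_cancel₀ (show (φ : X.functionField) ≠ 0 from hφ0)])
  have hau : IsUnit a := IsUnit.of_mul_eq_one b hab
  have ht' : ∃ t : L.presheaf.stalk y, Submodule.span (X.presheaf.stalk y) {t} = ⊤ :=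
    ⟨_, (RatSec.isGen_germ he y hyU).1⟩
  obtain ⟨hg, hg'⟩ := RatSec.isGen_of_span hL (Classical.choose_spec ht')
  obtain ⟨w, hw, hwt⟩ := hg.of_span (RatSec.isGen_germ he y hyU).1
  have haφ : X.presheaf.stalkSpecializes h a = φ := ha
  have hs' : s = X.presheaf.stalkSpecializes h (a * w) •
      RatSec.cls L (genericPoint X) (L.presheaf.stalkSpecializes h (Classical.choose ht')) := by
    rw [map_mul, haφ, mul_smul, ← RatSec.cls_smul, ← ZeroSec.stalkSpecializes_smul, ← hwt,
      TopCat.Presheaf.germ_stalkSpecializes_apply]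
    exact hφ
  rw [Cyc.secOrdAt, dif_pos ht']
  have hψ : ∃ ψ : X.presheaf.stalk (genericPoint X), s = ψ • (Submodule.Quotient.mk
      ((L.presheaf.stalkSpecializes h) (Classical.choose ht')) : Cyc.secFibre L (genericPoint X)) := ⟨_, hs'⟩
  rw [dif_pos hψ, (RatSec.cls_smul_eq_iff (hg' _ h) _ _).1 ((Classical.choose_spec hψ).symm.trans hs')]
  exact ordAt_isUnit_eq_zero hdim h (hau.mul hw)

end Groth.Agent.Ref1X
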