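import Groth.Agent.Ref1X.Ord
import Groth.Agent.RefX.Hom
import Groth.Agent.ZClosLib.Basic
import Groth.Prelude.Def_RefFun

/-!
# Sections of reflexive modules on normal schemes are determined in codimension one
-/

universe u

set_option backward.isDefEq.respectTransparency false
set_option backward.isDefEq.respectTransparency.types false
set_option linter.style.haveILetI false

open CategoryTheory AlgebraicGeometry TopologicalSpace Opposite

namespace Groth.Agent.Ref1X

variable {X : Scheme.{u}} [IsIntegral X] [IsLocallyNoetherian X] {F G : X.Modules}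

omit [IsIntegral X] [IsLocallyNoetherian X] in
theorem sp_sp (M : X.Modules) {x y z : X} (h : z ⤳ y) (h' : y ⤳ x) (m : M.presheaf.stalk x) :
    sp M h (sp M h' m) = sp M (h.trans h') m := by
  obtain ⟨U, hU, v, rfl⟩ := M.presheaf.exists_germ_eq m
  rw [sp_germ, sp_germ, sp_germ]

omit [IsIntegral X] [IsLocallyNoetherian X] in
theorem sp_unitStalk {x y : X} (h : y ⤳ x) (c : X.presheaf.stalk x) :
    sp (Coh.structureModule X) h (RefX.unitStalk x c) = RefX.unitStalk y (spR X h c) := by
  show sp _ h (c • _) = spR X h c • _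
  rw [sp_smul]
  exact congrArg (_ • ·) (sp_germ (M := Coh.structureModule X) h (U := ⊤) trivial _)

variable (hX : Pi1.IsNormalScheme X)

include hX in
/-- The lattice of a reflexive module at a point is cut out in codimension one. -/
theorem mem_range_of_codim_one (hF : Coh.IsCoh F) (hr : RefHull.IsReflexive F) {x : X}
    {v : F.presheaf.stalk (genericPoint X)}
    (h : ∀ y : X, y ⤳ x → Order.coheight y = 1 → v ∈ Set.range (gsp F y)) : v ∈ Set.range (gsp F x) := by
  have hD : Coh.IsCoh (RefHull.dual F) := RefX.isCoh_dual hF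
  let ev := fun (y : X) (θ : (RefHull.dual F).presheaf.stalk y) =>
    RefHull.evalStalk F (Coh.structureModule X) (genericPoint X) (sp _ (eta_le y) θ) v
  have hreg : ∀ θ : (RefHull.dual F).presheaf.stalk x,
      ∃ c : X.presheaf.stalk x, gsp (Coh.structureModule X) x (RefX.unitStalk x c) = ev x θ := by
    intro θ
    obtain ⟨f, hf⟩ := (RefX.unitStalk (genericPoint X)).surjective (ev x θ)
    by_cases hf0 : f = 0
    · exact ⟨0, by rw [map_zero, map_zero, ← hf, hf0, map_zero]⟩
    obtain ⟨c, hc⟩ := CDiv6.reg_of_forall_ord_nonneg hX (x := x) (f := (f : X.functionField)) hf0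
      fun y hyx hy => by
        refine CDiv6.reg_ord_nonneg hf0 ?_
        obtain ⟨m, hm⟩ := h y hyx hy
        obtain ⟨c, hc⟩ := (RefX.unitStalk y).surjective
          (RefHull.evalStalk F (Coh.structureModule X) y (sp _ hyx θ) m)
        refine ⟨c, (RefX.unitStalk (genericPoint X)).injective ?_⟩
        rw [hf]
        refine (sp_unitStalk (eta_le y) c).symm.trans ?_
        rw [hc, sp_eval, sp_sp]
        exact congrArg _ hm
    exact ⟨c, (sp_unitStalk (eta_le x) c).trans ((congrArg _ (hc : spR X (eta_le x) c = f)).trans hf)⟩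
  choose c hc using hreg
  have hinj := unit_gsp_injective (X := X) x
  let L : RefHull.StalkHom (RefHull.dual F) (Coh.structureModule X) x :=
    { toFun := fun θ => RefX.unitStalk x (c θ)
      map_add' := fun θ θ' => hinj (by
        rw [map_add (gsp (Coh.structureModule X) x), hc, hc, hc]
        show RefHull.evalStalk _ _ _ (sp _ _ (θ + θ')) v = _
        rw [map_add, map_add, LinearMap.add_apply])
      map_smul' := fun a θ => hinj (by
        show gsp _ x _ = gsp _ x (a • _)
        rw [hc, sp_smul (M := Coh.structureModule X) (eta_le x) a, hc]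
        show RefHull.evalStalk _ _ _ (sp _ _ (a • θ)) v = _
        rw [sp_smul, map_smul, LinearMap.smul_apply]) }
  obtain ⟨m, hm⟩ := (bidualAt_bijective hF hr x).2 L
  refine ⟨m, (bidualAt_bijective hF hr (genericPoint X)).1 (LinearMap.ext fun θ => ?_)⟩
  obtain ⟨a, ha, θ', hθ'⟩ := exists_smul_eq_gsp hD.1 x θ
  have hau : IsUnit (spR X (eta_le x) a) := isUnit_iff_ne_zero (G₀ := X.functionField).2
    fun h0 => ha (spR_injective x (h0.trans (map_zero _).symm))
  refine hau.smul_left_cancel.1 ?_
  rw [← map_smul, ← map_smul, hθ', RefHull.bidualAt_apply, RefHull.bidualAt_apply, ← sp_eval]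
  refine Eq.trans ?_ (hc θ')
  exact congrArg (fun l : RefHull.StalkHom (RefHull.dual F) (Coh.structureModule X) x =>
    gsp (Coh.structureModule X) x (l θ')) hm

omit [IsLocallyNoetherian X] in
theorem eq_of_germ_eta (hinj : ∀ x : X, Function.Injective (gsp F x)) {W : X.Opens} {x : X} (hx : x ∈ W)
    {s t : Γ(F, W)}
    (h : F.presheaf.germ W (genericPoint X) (eta_mem hx) s = F.presheaf.germ W (genericPoint X) (eta_mem hx) t) :
    s = t := by
  refine ZClosLib.section_ext F _ _ fun y hy => hinj y ?_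
  rw [sp_germ, sp_germ]
  exact h

omit [IsLocallyNoetherian X] in
theorem exists_section (hinj : ∀ x : X, Function.Injective (gsp F x)) {W : X.Opens} {x₀ : X} (hx₀ : x₀ ∈ W)
    (v : F.presheaf.stalk (genericPoint X)) (h : ∀ y : X, y ∈ W → v ∈ Set.range (gsp F y)) :
    ∃ s : Γ(F, W), F.presheaf.germ W (genericPoint X) (eta_mem hx₀) s = v := by
  have hloc : ∀ p : W, ∃ (V : X.Opens) (hp : p.1 ∈ V) (_ : V ≤ W) (s : Γ(F, V)),
      F.presheaf.germ V (genericPoint X) (eta_mem hp) s = v := fun p => by
    obtain ⟨m, hm⟩ := h p.1 p.2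
    obtain ⟨V, hpV, s, rfl⟩ := F.presheaf.exists_germ_eq m
    refine ⟨V ⊓ W, ⟨hpV, p.2⟩, inf_le_right, AModX.res F inf_le_left s, ?_⟩
    rw [sp_germ] at hm
    exact (RefX.germ_res F inf_le_left _ s).trans hm
  choose V hpV hVW s hs using hloc
  obtain ⟨t, ht, -⟩ := AModX.existsUnique_glue (M := F) V hVW (fun p hp => ⟨⟨p, hp⟩, hpV ⟨p, hp⟩⟩) s
    fun a b => by
      refine ZClosLib.section_ext F _ _ fun y hy => hinj y ?_
      rw [RefX.germ_res, RefX.germ_res, sp_germ, sp_germ, hs, hs]
  refine ⟨t, ?_⟩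
  have h1 := congrArg (F.presheaf.germ (V ⟨x₀, hx₀⟩) (genericPoint X) (eta_mem (hpV ⟨x₀, hx₀⟩))) (ht ⟨x₀, hx₀⟩)
  rw [RefX.germ_res, hs] at h1
  exact h1

omit [IsLocallyNoetherian X] in
/-- Morphisms into a module which embeds in its generic stalk are determined at the generic point. -/
theorem hom_ext_eta (hinj : ∀ x : X, Function.Injective (gsp F x)) {φ ψ : G ⟶ F}
    (h : ∀ v, RefHull.stalkMapₗ φ (genericPoint X) v = RefHull.stalkMapₗ ψ (genericPoint X) v) : φ = ψ := by
  refine Scheme.Modules.hom_ext _ _ fun W => ?_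
  ext m
  refine ZClosLib.section_ext F _ _ fun y hy => hinj y ?_
  rw [← RefHull.stalkMapₗ_germ, ← RefHull.stalkMapₗ_germ, sp_stalkMap, sp_stalkMap, h]

include hX in
/-- A generic map preserving the lattices in codimension one extends to a morphism. -/
theorem exists_hom (hF : Coh.IsCoh F) (hr : RefHull.IsReflexive F)
    (T : G.presheaf.stalk (genericPoint X) →ₗ[X.presheaf.stalk (genericPoint X)] F.presheaf.stalk (genericPoint X))
    (hT : ∀ y : X, Order.coheight y = 1 → ∀ m, T (gsp G y m) ∈ Set.range (gsp F y)) :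
    ∃ ψ : G ⟶ F, RefHull.stalkMapₗ ψ (genericPoint X) = T := by
  classical
  have hinj := gsp_injective hF hr
  have hex : ∀ (W : X.Opens) (x : X) (hx : x ∈ W) (m : Γ(G, W)), ∃ s : Γ(F, W),
      F.presheaf.germ W (genericPoint X) (eta_mem hx) s = T (G.presheaf.germ W (genericPoint X) (eta_mem hx) m) := by
    intro W x hx m
    refine exists_section hinj hx _ fun y hy => mem_range_of_codim_one hX hF hr fun z hz hz1 => ?_
    rw [← sp_germ (eta_le z) (hz.mem_open W.isOpen hy)]
    exact hT z hz1 _
  let f : ∀ W : X.Opens, Γ(G, W) → Γ(F, W) := fun W m =>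
    if h : ∃ x, x ∈ W then Classical.choose (hex W h.choose h.choose_spec m) else 0
  have hf : ∀ (W : X.Opens) (hη : genericPoint X ∈ W) (m : Γ(G, W)),
      F.presheaf.germ W (genericPoint X) hη (f W m) = T (G.presheaf.germ W (genericPoint X) hη m) := by
    intro W hη m
    have h : ∃ x, x ∈ W := ⟨_, hη⟩
    simp only [f, dif_pos h]
    exact Classical.choose_spec (hex W h.choose h.choose_spec m)
  have hext : ∀ (W : X.Opens) (s t : Γ(F, W)), (∀ hη : genericPoint X ∈ W,
      F.presheaf.germ W (genericPoint X) hη s = F.presheaf.germ W (genericPoint X) hη t) → s = t :=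
    fun W s t hst => ZClosLib.section_ext F _ _ fun y hy => hinj y (by rw [sp_germ, sp_germ, hst])
  let ψ : G ⟶ F := ⟨PresheafOfModules.homMk
    { app := fun U => AddCommGrpCat.ofHom
        { toFun := f U.unop
          map_zero' := hext _ _ _ fun hη => by rw [hf, map_zero, map_zero, map_zero]
          map_add' := fun a b => hext _ _ _ fun hη => by
            rw [map_add, hf, hf, hf, map_add, map_add] }
      naturality := fun {U V} i => by
        ext m
        refine hext _ _ _ fun hη => ?_
        show F.presheaf.germ V.unop _ hη (f V.unop (G.presheaf.map i m)) =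
          F.presheaf.germ V.unop _ hη (F.presheaf.map i (f U.unop m))
        rw [hf, TopCat.Presheaf.germ_res_apply' G.presheaf i, TopCat.Presheaf.germ_res_apply' F.presheaf i, hf] }
    (fun U (r : Γ(X, U.unop)) (m : Γ(G, U.unop)) => hext _ _ _ fun hη => by
      show F.presheaf.germ U.unop _ hη (f U.unop (r • m)) =
        F.presheaf.germ U.unop _ hη (r • f U.unop m)
      exact (hf _ hη _).trans ((congrArg T (QCoh.germ_smul' G hη r m)).trans ((map_smul T _ _).trans
        ((congrArg (_ • ·) (hf _ hη m).symm).trans (QCoh.germ_smul' F hη r _).symm))))⟩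
  refine ⟨ψ, LinearMap.ext fun v => ?_⟩
  obtain ⟨W, hW, m, rfl⟩ := G.presheaf.exists_germ_eq v
  rw [RefHull.stalkMapₗ_germ]
  exact hf W hW m

include hX in
/-- A generic isomorphism matching the lattices in codimension one extends to an isomorphism. -/
theorem exists_iso (hF : Coh.IsCoh F) (hr : RefHull.IsReflexive F) (hG : Coh.IsCoh G) (hrG : RefHull.IsReflexive G)
    (T : G.presheaf.stalk (genericPoint X) ≃ₗ[X.presheaf.stalk (genericPoint X)] F.presheaf.stalk (genericPoint X))
    (hT : ∀ y : X, Order.coheight y = 1 → ∀ v, v ∈ Set.range (gsp G y) ↔ T v ∈ Set.range (gsp F y)) :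
    ∃ e : G ≅ F, RefHull.stalkMapₗ e.hom (genericPoint X) = T.toLinearMap := by
  obtain ⟨a, ha⟩ := exists_hom hX hF hr T.toLinearMap fun y hy m => (hT y hy _).1 ⟨m, rfl⟩
  obtain ⟨b, hb⟩ := exists_hom hX hG hrG T.symm.toLinearMap fun y hy m =>
    (hT y hy _).2 (by rw [LinearEquiv.coe_coe, LinearEquiv.apply_symm_apply]; exact ⟨m, rfl⟩)
  refine ⟨⟨a, b, hom_ext_eta (gsp_injective hG hrG) fun v => ?_, hom_ext_eta (gsp_injective hF hr) fun v => ?_⟩, ha⟩
  · rw [RefFun.stalkMapₗ_comp, RefFun.stalkMapₗ_id, ha, hb]; simp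
  · rw [RefFun.stalkMapₗ_comp, RefFun.stalkMapₗ_id, ha, hb]; simp

end Groth.Agent.Ref1X
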